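import Cfsg.Agent.Lib.Har.Defs3

/-!
Project HAR (S1918, plans/HAR.md). The affine group `AG` (package AGS1).
-/

set_option autoImplicit false
set_option Elab.async false
set_option linter.unusedSectionVars false
set_option synthInstance.maxSize 100000
set_option maxRecDepth 100000

namespace CfsgLib.Har

open Subgroup Equiv Function CfsgLib.W2 CfsgLib.W2.TG CfsgLib.Tech CfsgLib.PComp Cfsg CfsgLib.A16
  CfsgLib.SylT

/-- binary digits -/
def ags1_ef (p : Fin 16) (i : Fin 4) : ZMod 2 := if Nat.testBit p.val i.val then 1 else 0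

def ags1_eg (v : Fin 4 → ZMod 2) : Fin 16 :=
  Fin.ofNat 16 ((v 0).val + 2 * (v 1).val + 4 * (v 2).val + 8 * (v 3).val)

theorem ags1_gf : ∀ p, ags1_eg (ags1_ef p) = p := by decide +kernel

theorem ags1_fg : ∀ v, ags1_ef (ags1_eg v) = v := by decide +kernel

theorem ags1_add : ∀ p q, ags1_ef (xr p q) = ags1_ef p + ags1_ef q := by decide +kernel

theorem ags1_zero : ags1_ef 0 = 0 := by decide +kernel

theorem ags1_aa : ∀ v : Fin 4 → ZMod 2, v + v = 0 := by decide +kernel

theorem ags1_inj : Injective ags1_ef := LeftInverse.injective ags1_gf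

theorem ags1_gadd (v w : Fin 4 → ZMod 2) : ags1_eg (v + w) = xr (ags1_eg v) (ags1_eg w) :=
  ags1_inj (by rw [ags1_add, ags1_fg, ags1_fg, ags1_fg])

theorem ags1_g0 : ags1_eg 0 = 0 := by decide +kernel

/-- the linear part -/
def ags1_lm (m : AG) : (Fin 4 → ZMod 2) →ₗ[ZMod 2] (Fin 4 → ZMod 2) :=
  AddMonoidHom.toZModLinearMap 2 (AddMonoidHom.mk'
    (fun v => ags1_ef (m.1 (ags1_eg v)) + ags1_ef (m.1 0)) fun v w => by
      rw [ags1_gadd, mem_AG.1 m.2, ags1_add, ags1_add, add_assoc, ags1_aa, add_zero,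
        add_add_add_comm, ags1_aa, add_zero])

theorem ags1_lm_apply (m : AG) (v : Fin 4 → ZMod 2) :
    ags1_lm m v = ags1_ef (m.1 (ags1_eg v)) + ags1_ef (m.1 0) := rfl

theorem ags1_lm_mul (a b : AG) : ags1_lm (a * b) = ags1_lm a * ags1_lm b := by
  refine LinearMap.ext fun v => ?_
  rw [Module.End.mul_apply, ags1_lm_apply, ags1_lm_apply, ags1_lm_apply, ags1_gadd, ags1_gf,
    ags1_gf, mem_AG.1 a.2, ags1_add, ags1_add, add_assoc, ags1_aa, add_zero]
  rfl

theorem ags1_lm_one : ags1_lm 1 = 1 := by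
  refine LinearMap.ext fun v => ?_
  rw [ags1_lm_apply]
  change ags1_ef (ags1_eg v) + ags1_ef 0 = v
  rw [ags1_fg, ags1_zero, add_zero]

noncomputable def ags1_M : AG →* Matrix (Fin 4) (Fin 4) (ZMod 2) where
  toFun m := LinearMap.toMatrix' (ags1_lm m)
  map_one' := by rw [ags1_lm_one, LinearMap.toMatrix'_one]
  map_mul' a b := by rw [ags1_lm_mul, LinearMap.toMatrix'_mul]

def ags1_p (A : GL (Fin 4) (ZMod 2)) : P16 where
  toFun p := ags1_eg (A.1.mulVec (ags1_ef p))
  invFun p := ags1_eg (A⁻¹.1.mulVec (ags1_ef p))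
  left_inv p := by
    simp only [ags1_fg, Matrix.mulVec_mulVec, Units.inv_mul, Matrix.one_mulVec, ags1_gf]
  right_inv p := by
    simp only [ags1_fg, Matrix.mulVec_mulVec, Units.mul_inv, Matrix.one_mulVec, ags1_gf]

theorem ags1_p_apply (A : GL (Fin 4) (ZMod 2)) (p : Fin 16) :
    ags1_p A p = ags1_eg (A.1.mulVec (ags1_ef p)) := rfl

theorem ags1_p0 (A : GL (Fin 4) (ZMod 2)) : ags1_p A 0 = 0 := by
  rw [ags1_p_apply, ags1_zero, Matrix.mulVec_zero, ags1_g0]

theorem ags1_p_mem (A : GL (Fin 4) (ZMod 2)) : ags1_p A ∈ AG := mem_AG.2 fun p q => by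
  rw [ags1_p0, xr_facts.2.2.2, ags1_p_apply, ags1_p_apply, ags1_p_apply, ags1_add,
    Matrix.mulVec_add, ags1_gadd]

def ags1_s : GL (Fin 4) (ZMod 2) →* AG := MonoidHom.mk' (fun A => ⟨ags1_p A, ags1_p_mem A⟩)
  fun A B => Subtype.ext (Perm.ext fun p => by
    change ags1_p (A * B) p = ags1_p A (ags1_p B p)
    rw [ags1_p_apply, ags1_p_apply, ags1_p_apply, ags1_fg, Matrix.mulVec_mulVec, Units.val_mul])

theorem ags1_tau_inj : Injective tau16 := fun v w h => by
  have := congrArg (fun m : P16 => m 0) h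
  change xr 0 v = xr 0 w at this
  rwa [xr_facts.1, xr_facts.2.2.2, xr_facts.1, xr_facts.2.2.2] at this

theorem TR_le : TR ≤ AG := by
  rintro _ ⟨v, rfl⟩
  revert v
  decide +kernel

theorem card_TR : Nat.card TR = 16 := by
  have : Nat.card TR = Nat.card (Set.range tau16) := rfl
  rw [this, Nat.card_range_of_injective ags1_tau_inj, Nat.card_fin]

theorem tau_sq (v : Fin 16) : tau16 v * tau16 v = 1 := by
  exact Perm.ext fun p => xr_xr p v

theorem conj_tau {m : P16} (hm : m ∈ AG) (v : Fin 16) :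
    m * tau16 v * m⁻¹ = tau16 (xr (m v) (m 0)) := by
  rw [mul_inv_eq_iff_eq_mul]
  refine Perm.ext fun p => ?_
  change m (xr p v) = xr (m p) (xr (m v) (m 0))
  rw [mem_AG.1 hm, xr_facts.2.1]

/-- `m (xr 0 v) = xr (m 0) v`, so `m = tau16 (m 0)`. -/
theorem cent_TR {m : P16} (hm : ∀ v, m * tau16 v = tau16 v * m) : m ∈ TR := by
  refine ⟨m 0, Perm.ext fun v => ?_⟩
  have := congrArg (fun g : P16 => g 0) (hm v)
  change m (xr 0 v) = xr (m 0) v at this
  change xr v (m 0) = m v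
  rw [xr_facts.1 0 v, xr_facts.2.2.2] at this
  rw [this, xr_facts.1]

/-- The linear part. Fix `e : Fin 16 ≃ (Fin 4 → ZMod 2)` (binary digits) with
`e (xr p q) = e p + e q`; `L m` is the matrix of the additive (hence `ZMod 2`-linear) bijection
`v ↦ e (xr (m (e.symm v)) (m 0))` (`Matrix.GeneralLinearGroup.toLin`), `s A` is `e.symm ∘ A ∘ e`. -/
theorem exists_lin : ∃ (L : AG →* GL (Fin 4) (ZMod 2)) (s : GL (Fin 4) (ZMod 2) →* AG),
    (∀ A, L (s A) = A) ∧ ∀ m : AG, L m = 1 ↔ m.1 ∈ TR := by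
  refine ⟨ags1_M.toHomUnits, ags1_s, fun A => Units.ext ?_, fun m => ?_⟩
  · change LinearMap.toMatrix' (ags1_lm (ags1_s A)) = A.1
    have : ags1_lm (ags1_s A) = Matrix.toLin' A.1 := LinearMap.ext fun v => by
      rw [ags1_lm_apply]
      change ags1_ef (ags1_p A _) + ags1_ef (ags1_p A 0) = _
      rw [ags1_p0, ags1_zero, add_zero, ags1_p_apply, ags1_fg, ags1_fg, Matrix.toLin'_apply]
    rw [this, LinearMap.toMatrix'_toLin']
  · rw [Units.ext_iff]
    change LinearMap.toMatrix' (ags1_lm m) = 1 ↔ _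
    rw [← LinearMap.toMatrix'_one, (LinearMap.toMatrix').injective.eq_iff]
    constructor
    · intro h
      refine ⟨m.1 0, Perm.ext fun p => ags1_inj ?_⟩
      have := LinearMap.congr_fun h (ags1_ef p)
      rw [ags1_lm_apply, ags1_gf] at this
      change ags1_ef (xr p (m.1 0)) = _
      rw [ags1_add]
      change _ = ags1_ef p at this
      rw [← this, add_assoc, ags1_aa, add_zero]
    · rintro ⟨w, hw⟩
      refine LinearMap.ext fun v => ?_
      rw [ags1_lm_apply, ← hw]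
      change ags1_ef (xr _ w) + ags1_ef (xr 0 w) = v
      rw [ags1_add, ags1_add, ags1_fg, ags1_zero, zero_add, add_assoc, ags1_aa, add_zero]

/-- `16 * 20160` (`Matrix.card_GL_field`, or `InvChar.nonempty_GL_four_two_equiv`). -/
theorem card_AG : Nat.card AG = 322560 := by
  obtain ⟨L, s, h1, h2⟩ := exists_lin
  have hk : L.ker = TR.subgroupOf AG := Subgroup.ext fun m => h2 m
  have hr : L.range = ⊤ := MonoidHom.range_eq_top.2 fun A => ⟨s A, h1 A⟩
  have h3 := L.ker.card_mul_index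
  rw [Subgroup.index_ker, hr, Subgroup.card_top, Matrix.card_GL_field, hk,
    Nat.card_congr (subgroupOfEquivOfLe TR_le).toEquiv, card_TR, ZMod.card] at h3
  rw [← h3]
  decide +kernel

/-- `|TL| = 1024`, `i16_inj`, `i16_mem`, `322560 = 1024 * 315`. -/
theorem syl_i16 : IsSylowIn 2 i16.range AG := by
  have hc : Nat.card i16.range = 1024 := by
    rw [← Nat.card_congr (MonoidHom.ofInjective i16_inj).toEquiv, TG.card_eq]
  have hle : i16.range ≤ AG := by
    rintro _ ⟨t, rfl⟩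
    exact i16_mem t
  refine ⟨hle, IsPGroup.of_card (n := 10) (by rw [hc]; norm_num), ?_⟩
  have := card_mul_relIndex' hle
  rw [hc, card_AG] at this
  omega

theorem map_AT : AT.map i16 = TR := by
  ext m
  constructor
  · rintro ⟨t, ht, rfl⟩
    obtain ⟨v, rfl⟩ := exists_va t ht
    exact ⟨v, (i16_va v).symm⟩
  · rintro ⟨v, rfl⟩
    exact ⟨va v, va_mem v, i16_va v⟩

end CfsgLib.Har
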