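import Cfsg.Agent.Lib.Har.Ags1
import Cfsg.Agent.Lib.InvChar.AutElem

/-!
Project HAR (S1918, plans/HAR.md). Normal subgroups of `AG` (package AGS2).
-/

set_option autoImplicit false
set_option Elab.async false
set_option linter.unusedSectionVars false
set_option synthInstance.maxSize 100000
set_option maxRecDepth 100000

namespace CfsgLib.Har

open Subgroup Equiv Function CfsgLib.W2 CfsgLib.W2.TG CfsgLib.Tech CfsgLib.PComp Cfsg CfsgLib.A16
  CfsgLib.SylT

theorem ags2_va : ∀ v : Fin 16, v ≠ 0 → va v * va v = 1 ∧ va v ≠ 1 := by decide +kernel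

theorem ags2_tau0 : tau16 0 = 1 := Perm.ext fun p => xr_facts.2.2.2 p

theorem ags2_conj {v : Fin 16} (hv : v ≠ 0) : ∃ m ∈ AG, m * tau16 v * m⁻¹ = i16 TL.z := by
  obtain ⟨h1, h2⟩ := tyw_spec (va v) (ags2_va v hv).1 (ags2_va v hv).2
  refine ⟨_, h1, ?_⟩
  have e : tyr (va v) = TL.z := if_pos (va_mem v)
  rw [e, i16_va] at h2
  rw [mul_inv_eq_iff_eq_mul]
  exact Perm.ext fun q => (h2 q).symm

theorem ags2_comm (v w : Fin 16) : tau16 v * tau16 w = tau16 w * tau16 v := Perm.ext fun p => by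
  change xr (xr p w) v = xr (xr p v) w
  rw [xr_facts.2.1, xr_facts.2.1, xr_facts.1 w v]

theorem ags2_norm {m x : P16} (hm : m ∈ AG) (hx : x ∈ TR) : m * x * m⁻¹ ∈ TR := by
  obtain ⟨v, rfl⟩ := mem_TR.1 hx
  exact mem_TR.2 ⟨_, (conj_tau hm v).symm⟩

/-- `N ⊓ TR` is `⊥` or `TR` (`AG` is transitive on the nonzero translations: `tyw_spec` with
`tyr t = z` for `t ∈ AT`, `conj_tau`). If it is `⊥`, `N` centralizes `TR` (commutators lie in
`N ⊓ TR`), so `N ≤ TR` (`cent_TR`) and `N = ⊥`. Otherwise `L N` is normal in the simple group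
`GL₄(2) ≅ A₈` (`InvChar.nonempty_GL_four_two_equiv`), `ker L = TR ≤ N`. -/
theorem AG_normal {N : Subgroup P16} (h : N ≤ AG) (hn : ∀ m ∈ AG, ∀ x ∈ N, m * x * m⁻¹ ∈ N) :
    N = ⊥ ∨ N = TR ∨ N = AG := by
  by_cases hv : ∃ v, v ≠ 0 ∧ tau16 v ∈ N
  · obtain ⟨v, hv, hvN⟩ := hv
    have hT : TR ≤ N := by
      intro x hx
      obtain ⟨w, rfl⟩ := mem_TR.1 hx
      by_cases hw : w = 0
      · rw [hw, ags2_tau0]; exact N.one_mem
      obtain ⟨m, hm, e⟩ := ags2_conj hv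
      obtain ⟨k, hk, e'⟩ := ags2_conj hw
      have h1 := hn _ (AG.inv_mem hk) _ (hn m hm _ hvN)
      rw [e, ← e'] at h1
      simpa [mul_assoc] using h1
    obtain ⟨L, s, hs, hL⟩ := exists_lin
    obtain ⟨e⟩ := InvChar.nonempty_GL_four_two_equiv
    haveI : IsSimpleGroup (alternatingGroup (Fin 8)) := alternatingGroup.isSimpleGroup (by simp)
    haveI : IsSimpleGroup (GL (Fin 4) (ZMod 2)) := e.isSimpleGroup
    have hN : (N.subgroupOf AG).Normal := ⟨fun x hx g => hn g g.2 x hx⟩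
    rcases (hN.map L fun A => ⟨s A, hs A⟩).eq_bot_or_eq_top with h0 | h0
    · refine .inr (.inl (le_antisymm (fun x hx => ?_) hT))
      refine (hL ⟨x, h hx⟩).1 ?_
      have : L ⟨x, h hx⟩ ∈ (N.subgroupOf AG).map L := mem_map_of_mem L hx
      rwa [h0, mem_bot] at this
    · refine .inr (.inr (le_antisymm h fun m hm => ?_))
      have : L ⟨m, hm⟩ ∈ (N.subgroupOf AG).map L := h0 ▸ mem_top _
      obtain ⟨x, hx, ex⟩ := this
      have h1 := (hL (⟨m, hm⟩ * x⁻¹)).1 (by rw [map_mul, map_inv, ex, mul_inv_cancel])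
      have h2 := N.mul_mem (hT h1) hx
      simpa using h2
  · have k : ∀ x ∈ N, x ∈ TR → x = 1 := fun x hx hx' => by
      obtain ⟨w, rfl⟩ := mem_TR.1 hx'
      by_cases hw : w = 0
      · rw [hw, ags2_tau0]
      · exact absurd ⟨w, hw, hx⟩ hv
    refine .inl (eq_bot_iff.2 fun x hx => mem_bot.2 (k x hx (cent_TR fun v => ?_)))
    have ht : tau16 v ∈ TR := mem_TR.2 ⟨v, rfl⟩
    have h1 : x * tau16 v * x⁻¹ * (tau16 v)⁻¹ ∈ TR := TR.mul_mem (ags2_norm (h hx) ht) (TR.inv_mem ht)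
    have h2 : x * tau16 v * x⁻¹ * (tau16 v)⁻¹ ∈ N := by
      have := N.mul_mem hx (hn _ (TR_le ht) _ (N.inv_mem hx))
      simpa only [mul_assoc] using this
    have h3 := k _ h2 h1
    rw [mul_inv_eq_one, mul_inv_eq_iff_eq_mul] at h3
    exact h3

/-- `E' = e⁻¹ TR`, `K' = e⁻¹ (range s)` (`exists_lin`), first alternative. -/
theorem AG_concl {X : Type*} [Group X] (e : X ≃* AG) : Concl X := by
  obtain ⟨L, s, hs, hL⟩ := exists_lin
  have hsi : Injective s := LeftInverse.injective (g := L) hs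
  let f : X →* P16 := AG.subtype.comp e.toMonoidHom
  have hf : Injective f := Subtype.val_injective.comp e.injective
  have hm : ∀ x, f x ∈ AG := fun x => (e x).2
  have hsur : ∀ m ∈ AG, ∃ x, f x = m := fun m hm' =>
    ⟨e.symm ⟨m, hm'⟩, congrArg Subtype.val (e.apply_symm_apply ⟨m, hm'⟩)⟩
  have hc : ∀ x ∈ TR.comap f, ∀ y ∈ TR.comap f, x * y = y * x := fun x hx y hy => by
    obtain ⟨v, hv⟩ := mem_TR.1 hx
    obtain ⟨w, hw⟩ := mem_TR.1 hy
    exact hf (by rw [map_mul, map_mul, ← hv, ← hw, ags2_comm])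
  refine .inl ⟨TR.comap f, (e.symm.toMonoidHom.comp s).range, ⟨fun x hx g => ?_⟩,
    ⟨⟨⟨fun x y => Subtype.ext (hc _ x.2 _ y.2)⟩⟩, fun x hx => ?_⟩, ?_, ?_, ?_, ?_, ?_⟩
  · rw [mem_comap, map_mul, map_mul, map_inv]
    exact ags2_norm (hm g) hx
  · obtain ⟨v, hv⟩ := mem_TR.1 hx
    exact hf (by rw [map_pow, ← hv, map_one, sq, tau_sq])
  · refine (Nat.card_congr (Equiv.ofBijective (fun x => ⟨f x.1, x.2⟩)
      ⟨fun x y hxy => ?_, fun y => ?_⟩)).trans card_TR
    · have h1 : f x.1 = f y.1 := congrArg (fun z : TR => z.1) hxy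
      exact Subtype.ext (hf h1)
    · obtain ⟨x, hx⟩ := hsur y.1 (TR_le y.2)
      exact ⟨⟨x, by rw [mem_comap, hx]; exact y.2⟩, Subtype.ext hx⟩
  · refine le_antisymm (fun x hx => cent_TR fun v => ?_) fun x hx => mem_centralizer_iff.2 fun y hy => hc _ hy _ hx
    obtain ⟨y, hy⟩ := hsur _ (TR_le (mem_TR.2 ⟨v, rfl⟩))
    have := mem_centralizer_iff.1 hx y (show f y ∈ TR from hy ▸ mem_TR.2 ⟨v, rfl⟩)
    rw [← hy, ← map_mul, ← map_mul, this]
  · refine eq_bot_iff.2 ?_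
    rintro _ ⟨hx, A, rfl⟩
    have h1 : (s A).1 ∈ TR := by
      have : f (e.symm (s A)) = (s A).1 := congrArg Subtype.val (e.apply_symm_apply _)
      rw [← this]; exact hx
    have h2 := (hL _).2 h1
    rw [hs] at h2
    rw [h2, map_one]; exact one_mem _
  · refine eq_top_iff.2 fun x _ => ?_
    have h1 := (hL (e x * (s (L (e x)))⁻¹)).1 (by rw [map_mul, map_inv, hs, mul_inv_cancel])
    have h2 : x * (e.symm (s (L (e x))))⁻¹ ∈ TR.comap f := by
      have : f (x * (e.symm (s (L (e x))))⁻¹) = (e x * (s (L (e x)))⁻¹).1 := by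
        change (e _).1 = _
        rw [map_mul, map_inv, e.apply_symm_apply]
      rw [mem_comap, this]; exact h1
    have h3 := mul_mem_sup h2 (show e.symm (s (L (e x))) ∈ (e.symm.toMonoidHom.comp s).range from ⟨_, rfl⟩)
    simpa using h3
  · exact ⟨(MonoidHom.ofInjective (f := e.symm.toMonoidHom.comp s) (e.symm.injective.comp hsi)).symm⟩

end CfsgLib.Har
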