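import Cfsg.Agent.Lib.Har.Bas

/-!
Project HAR (S1918, plans/HAR.md). Automorphisms of `Q` (package AQ).
-/

set_option autoImplicit false
set_option Elab.async false
set_option linter.unusedSectionVars false
set_option synthInstance.maxSize 100000
set_option maxRecDepth 100000

namespace CfsgLib.Har

open Subgroup Equiv Function CfsgLib.W2 CfsgLib.W2.TG CfsgLib.Tech CfsgLib.PComp Cfsg CfsgLib.A16
  CfsgLib.SylT

variable {G : Type*} [Group G] [Finite G] {J : TL →* G} {π : G → P16}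

/-- the elements of `A'` -/
noncomputable def aqV (k : Fin 16) : TL := o (k.val % 4 + k.val / 4 % 2 * 8 + k.val / 8 * 128)

theorem aq_ex : ∀ t : TL, TL.In 884 t → ∃ k, aqV k = t := by decide +kernel

theorem aq_fix : ∀ i, aqV i ≠ TL.z → ∀ j, aqV j ≠ TL.z → aqV i * aqV j ≠ TL.z → ∀ k, aqV k ≠ TL.z →
    aqV i * aqV k ≠ TL.z → aqV j * aqV k ≠ TL.z → aqV i * (aqV j * aqV k) ≠ TL.z →
    ∃ c, i16 (aqV i) c = c ∧ i16 (aqV j) c = c ∧ i16 (aqV k) c = c := by decide +kernel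

theorem aq_va : ∀ p, TL.InQ (va p) ∧ va p * va p = 1 ∧ ∀ q, va p * va q = va (xr p q) ∧
    (va p * va q = 1 → p = q) := by decide +kernel

theorem aq_stab (t : TL) (ht : TL.InQ t) (v : Fin 16) : ∃ s ∈ [1, TL.x12, TL.x13, TL.x14, TL.x12 * TL.x13,
    TL.x12 * TL.x14, TL.x13 * TL.x14, TL.x12 * (TL.x13 * TL.x14)], t * va v = va (i16 t v) * s :=
  ⟨va (i16 t v) * (t * va v), (by decide +kernel : ∀ s, TL.In 885 s → s ∈ [1, TL.x12, TL.x13, TL.x14,
    TL.x12 * TL.x13, TL.x12 * TL.x14, TL.x13 * TL.x14, TL.x12 * (TL.x13 * TL.x14)]) _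
    ((by decide +kernel : ∀ t, TL.InQ t → ∀ v, TL.In 885 (va (i16 t v) * (t * va v))) t ht v),
    by rw [← mul_assoc, (aq_va _).2.1, one_mul]⟩

/-- `α z = z` (centre of `Q`). Define the linear `m ∈ AG` by `va (m v) = α (va v)`; `m 0 = 0`,
`m 1 = 1`. For `a ∈ A'` the maps `i16 (α a)` and `m (i16 a) m⁻¹` conjugate `TR` in the same way, so
they differ by a translation (`cent_TR`); both have the form `y ↦ y + f(y) e₁`, so the translation is
`tau16 0` or `tau16 1`: `i16 (α a) = m (i16 a) m⁻¹ z^{χ a}`, `χ : A' → ZMod 2` a homomorphism with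
`χ z = 0`. Every such `χ` is `a ↦ [va c, a]` for some `c` (check the 8 cases on `x12, x13, x14`), so
`m' = m · tau16 c` satisfies `i16 (α t) = m' (i16 t) m'⁻¹` on `A` and `A'`, hence on `Q = A A'`.
Apply `lift` with `P = TL.Q`. -/
theorem Hy.aq (h : Hy J π) {α : TL → TL}
    (hm : ∀ s, TL.In 560 s → ∀ t, TL.In 560 t → α (s * t) = α s * α t)
    (hQ : ∀ t, TL.In 560 t → TL.In 560 (α t)) (hi : ∀ t, TL.In 560 t → α t = 1 → t = 1)
    (hA : ∀ t, TL.In 698 t → TL.In 698 (α t)) (hP : ∀ t, TL.In 884 t → TL.In 884 (α t)) :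
    ∃ n ∈ NA J, ∀ t, TL.In 560 t → W2.Rel J n t (α t) := by
  have Qm : ∀ {s t : TL}, TL.In 560 s → TL.In 560 t → TL.In 560 (s * t) := fun a b =>
    mem_Q.1 (mul_mem (mem_Q.2 a) (mem_Q.2 b))
  have q1 : TL.In 560 1 := by decide +kernel
  have qz : TL.In 560 TL.z := by decide +kernel
  have q2 : TL.In 560 TL.x12 := by decide +kernel
  have q3 : TL.In 560 TL.x13 := by decide +kernel
  have q4 : TL.In 560 TL.x14 := by decide +kernel
  have a1 : α 1 = 1 := left_eq_mul.1 ((congrArg α (one_mul 1)).symm.trans (hm 1 q1 1 q1))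
  have az : α TL.z = TL.z := ((by decide +kernel : ∀ t : TL, TL.In 698 t → TL.In 884 t → t = 1 ∨ t = TL.z) _
    (hA _ (by decide +kernel)) (hP _ (by decide +kernel))).resolve_left fun e => TL.z_ne (hi _ qz e)
  have nz : ∀ s, TL.In 560 s → s * TL.z ≠ 1 → α s ≠ TL.z := fun s hs h1 e =>
    h1 (hi _ (Qm hs qz) (by rw [hm s hs _ qz, e, az, TL.zz]))
  obtain ⟨i, hi'⟩ := aq_ex _ (hP TL.x12 (by decide +kernel))
  obtain ⟨j, hj⟩ := aq_ex _ (hP TL.x13 (by decide +kernel))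
  obtain ⟨k, hk⟩ := aq_ex _ (hP TL.x14 (by decide +kernel))
  obtain ⟨c, c2, c3, c4⟩ := aq_fix i (hi' ▸ nz _ q2 (by decide +kernel)) j (hj ▸ nz _ q3 (by decide +kernel))
    (by rw [hi', hj, ← hm _ q2 _ q3]; exact nz _ (Qm q2 q3) (by decide +kernel)) k
    (hk ▸ nz _ q4 (by decide +kernel))
    (by rw [hi', hk, ← hm _ q2 _ q4]; exact nz _ (Qm q2 q4) (by decide +kernel))
    (by rw [hj, hk, ← hm _ q3 _ q4]; exact nz _ (Qm q3 q4) (by decide +kernel))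
    (by rw [hi', hj, hk, ← hm _ q3 _ q4, ← hm _ q2 _ (Qm q3 q4)]
        exact nz _ (Qm q2 (Qm q3 q4)) (by decide +kernel))
  rw [hi'] at c2
  rw [hj] at c3
  rw [hk] at c4
  have ad : ∀ p q, i16 (α (va (xr p q))) = i16 (α (va p)) * i16 (α (va q)) := fun p q => by
    rw [← ((aq_va p).2.2 q).1, hm _ (aq_va p).1 _ (aq_va q).1, map_mul]
  choose w hw using fun v => exists_va _ (hA _ (va_mem v))
  have wi : Injective fun v => i16 (α (va v)) c := fun p q e => ((aq_va p).2.2 q).2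
    (hi _ (Qm (aq_va p).1 (aq_va q).1) (by
      simp only [← hw, i16_va] at e
      rw [hm _ (aq_va p).1 _ (aq_va q).1, ← hw, ← hw,
        (by decide +kernel : ∀ c p q, tau16 p c = tau16 q c → p = q) _ _ _ e, (aq_va _).2.1]))
  let m : P16 := Equiv.ofBijective _ (Finite.injective_iff_bijective.1 wi)
  have hm' : ∀ v, m v = i16 (α (va v)) c := fun _ => rfl
  have key : ∀ t, TL.In 560 t → i16 (α t) = m * i16 t * m⁻¹ := fun t ht => by
    refine eq_mul_inv_of_mul_eq (Perm.ext fun v => ?_)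
    obtain ⟨s, hs, e⟩ := aq_stab t ht v
    have h1 : TL.In 560 s ∧ i16 (α s) c = c := by
      have Pm : ∀ {s t}, TL.In 560 s ∧ i16 (α s) c = c → TL.In 560 t ∧ i16 (α t) c = c →
          TL.In 560 (s * t) ∧ i16 (α (s * t)) c = c := fun a b =>
        ⟨Qm a.1 b.1, by rw [hm _ a.1 _ b.1, map_mul, Perm.mul_apply, b.2, a.2]⟩
      simp only [List.mem_cons, List.not_mem_nil, or_false] at hs
      rcases hs with rfl | rfl | rfl | rfl | rfl | rfl | rfl | rfl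
      exacts [⟨q1, by rw [a1, map_one]; rfl⟩, ⟨q2, c2⟩, ⟨q3, c3⟩, ⟨q4, c4⟩, Pm ⟨q2, c2⟩ ⟨q3, c3⟩,
        Pm ⟨q2, c2⟩ ⟨q4, c4⟩, Pm ⟨q3, c3⟩ ⟨q4, c4⟩, Pm ⟨q2, c2⟩ (Pm ⟨q3, c3⟩ ⟨q4, c4⟩)]
    rw [Perm.mul_apply, Perm.mul_apply, hm', hm', ← Perm.mul_apply, ← map_mul, ← hm t ht _ (aq_va v).1, e,
      hm _ (aq_va _).1 _ h1.1, map_mul, Perm.mul_apply, h1.2]
  obtain ⟨n, hn, -, r⟩ := h.lift (m := m) (mem_AG.2 fun p q => by
    rw [hm', hm', hm', hm', ad, show va 0 = 1 by decide +kernel, a1, map_one, ← hw, ← hw, i16_va, i16_va]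
    exact (by decide +kernel : ∀ a b c, (tau16 a * tau16 b) c =
      xr (xr (tau16 a c) (tau16 b c)) ((1 : P16) c)) _ _ _) TL.Q fun a ha => ⟨_, key a ha⟩
  exact ⟨n, hn, fun t ht => r t ht _ (key t ht)⟩

/-- For `t ∈ Q`: `t ∈ A' ↔ t = z ∨ nf t ≠ 0` (decide); `nf` is invariant under conjugation by `π n`
(`rel_pi`, `nf_eq`), and `n` fixes `z` (`Z(Q) = ⟨z⟩`). -/
theorem Hy.nq (h : Hy J π) {n : G} (hn : n ∈ NA J)
    (hQ : ∀ t, TL.In 560 t → ∃ s, TL.In 560 s ∧ W2.Rel J n t s) {t s : TL} (ht : TL.In 884 t)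
    (r : W2.Rel J n t s) : TL.In 884 s := by
  rcases (by decide +kernel : ∀ t : TL, TL.In 884 t → TL.In 560 t ∧ (t = TL.x12 * TL.x25 * (TL.x12 * TL.x25) ∨
    ∃ q, i16 t q = q)) t ht with ⟨h1, rfl | ⟨q, hq⟩⟩
  · obtain ⟨u, hu, r'⟩ := hQ (TL.x12 * TL.x25) (by decide +kernel)
    rw [r.uniq h.inj (r'.mul r') rfl]
    exact (by decide +kernel : ∀ u, TL.InQ u → TL.In 884 (u * u)) u hu
  · obtain ⟨u, hu, r'⟩ := hQ t h1
    obtain rfl := r.uniq h.inj r' rfl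
    refine (by decide +kernel : ∀ u, TL.InQ u → ∀ q, i16 u q = q → TL.In 884 u) s hu (π n q) ?_
    rw [h.rel_pi hn r]
    simp [hq]

end CfsgLib.Har
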