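import Cfsg.Agent.Lib.Har.Gen
import Cfsg.Agent.Lib.Har.Ags2

/-!
Project HAR (S1918, plans/HAR.md). First consequences of `Hy` (package BAS).
-/

set_option autoImplicit false
set_option Elab.async false
set_option linter.unusedSectionVars false
set_option synthInstance.maxSize 100000
set_option maxRecDepth 100000

namespace CfsgLib.Har

open Subgroup Equiv Function CfsgLib.W2 CfsgLib.W2.TG CfsgLib.Tech CfsgLib.PComp Cfsg CfsgLib.A16
  CfsgLib.SylT

variable {G : Type*} [Group G] [Finite G] {J : TL →* G} {π : G → P16}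

theorem bas_two : IsPGroup 2 TL := IsPGroup.of_card (n := 10) card_eq

theorem bas_ab : ∀ s : TL, TL.In 698 s → s * s = 1 ∧ ∀ t : TL, TL.In 698 t → s * t = t * s := by
  have k : ∀ v, va v * va v = 1 ∧ ∀ w, va v * va w = va w * va v := by decide +kernel
  intro s hs
  obtain ⟨v, rfl⟩ := exists_va s hs
  refine ⟨(k v).1, fun t ht => ?_⟩
  obtain ⟨w, rfl⟩ := exists_va t ht
  exact (k v).2 w

namespace Hy

variable (h : Hy J π)
include h

theorem memN (t : TL) : J t ∈ NA J := h.syl.le ⟨t, rfl⟩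

theorem one : π 1 = 1 := by
  have := h.mul (one_mem _) (one_mem _)
  rw [mul_one] at this
  exact left_eq_mul.1 this

theorem inv {x : G} (hx : x ∈ NA J) : π x⁻¹ = (π x)⁻¹ := by
  rw [eq_inv_iff_mul_eq_one, ← h.mul (inv_mem hx) hx, inv_mul_cancel, h.one]

/-- `π` as a homomorphism -/
def hom : NA J →* P16 := MonoidHom.mk' (fun x => π x) fun a b => h.mul a.2 b.2

theorem pow {x : G} (hx : x ∈ NA J) (n : ℕ) : π (x ^ n) = π x ^ n := h.hom.map_pow ⟨x, hx⟩ n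

theorem conj {x y : G} (hx : x ∈ NA J) (hy : y ∈ NA J) : π (x * y * x⁻¹) = π x * π y * (π x)⁻¹ := by
  rw [h.mul (mul_mem hx hy) (inv_mem hx), h.mul hx hy, h.inv hx]

/-- `→`: the kernel is a normal subgroup of odd order of `NA J`. `←`: the image of `O(NA J)` is a
normal subgroup of odd order of `AG`, `AG_normal`, `card_TR`, `card_AG`. -/
theorem mem_O {x : G} (hx : x ∈ NA J) : π x = 1 ↔ x ∈ opOf 2 (NA J) := by
  constructor
  · intro e
    refine (mem_opOf_iff (x := ⟨x, hx⟩)).2 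
      (PLocal.PSolv.le_pPrimeCore (inferInstance : h.hom.ker.Normal) ?_ e)
    refine ((Nat.Prime.coprime_iff_not_dvd Nat.prime_two).2 fun hd => ?_).symm
    obtain ⟨y, hy⟩ := exists_prime_orderOf_dvd_card' 2 hd
    have := h.ker y.1.2 y.2
    rw [Subgroup.orderOf_coe, Subgroup.orderOf_coe, hy] at this
    exact absurd this (by decide)
  · intro e
    have h1 : (pPrimeCore 2 (NA J)).map h.hom ≤ AG := by
      rintro _ ⟨y, -, rfl⟩
      exact h.mem y.2
    have h2 : ∀ m ∈ AG, ∀ y ∈ (pPrimeCore 2 (NA J)).map h.hom,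
        m * y * m⁻¹ ∈ (pPrimeCore 2 (NA J)).map h.hom := by
      rintro m hm _ ⟨y, hy, rfl⟩
      obtain ⟨g, hg, rfl⟩ := h.surj m hm
      exact ⟨⟨g, hg⟩ * y * ⟨g, hg⟩⁻¹, (inferInstance : (pPrimeCore 2 (NA J)).Normal).conj_mem _ hy _,
        by rw [map_mul, map_mul, map_inv]; rfl⟩
    have h3 : ¬ TR ≤ (pPrimeCore 2 (NA J)).map h.hom := fun hle => by
      have h4 := (card_dvd_of_le hle).trans (card_map_dvd _ _)
      rw [card_TR] at h4
      have h5 := (Core.coprime_card_pPrimeCore 2 (NA J)).coprime_dvd_left h4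
      exact absurd h5 (by decide)
    rcases AG_normal h1 h2 with h0 | h0 | h0
    · have : h.hom ⟨x, hx⟩ ∈ (pPrimeCore 2 (NA J)).map h.hom :=
        mem_map_of_mem _ ((mem_opOf_iff (x := ⟨x, hx⟩)).1 e)
      rwa [h0, mem_bot] at this
    · exact absurd h0.ge h3
    · exact absurd (TR_le.trans h0.ge) h3

theorem rel_pi {x : G} {s t : TL} (hx : x ∈ NA J) (r : W2.Rel J x s t) :
    i16 t = π x * i16 s * (π x)⁻¹ := by
  rw [← h.sec, ← h.sec, ← h.conj hx (h.memN s)]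
  exact congrArg π (Eq.symm r)

/-- `x J(va v) x⁻¹ = J a` with `a ∈ AT`; apply `π`, `i16_va`, `conj_tau`, `i16_inj`. -/
theorem relA {x : G} (hx : x ∈ NA J) (v : Fin 16) :
    W2.Rel J x (va v) (va (xr (π x v) (π x 0))) := by
  obtain ⟨a, -, e⟩ := (mem_normalizer_iff.1 hx (J (va v))).1 ⟨va v, va_mem v, rfl⟩
  have h1 := h.rel_pi hx (s := va v) (t := a) e.symm
  rw [i16_va, conj_tau (h.mem hx), ← i16_va] at h1
  rw [← i16_inj h1]
  exact e.symm

theorem O_cent {c : G} {s t : TL} (hc : c ∈ NA J) (e : π c = 1) (r : W2.Rel J c s t) : s = t := by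
  have h1 := h.rel_pi hc r
  rw [e, one_mul, inv_one, mul_one] at h1
  exact (i16_inj h1).symm

theorem O_centA {c : G} (hc : c ∈ NA J) (e : π c = 1) {t : TL} (ht : TL.In 698 t) :
    c * J t = J t * c := by
  obtain ⟨v, rfl⟩ := exists_va t ht
  have r := h.relA hc v
  rw [← h.O_cent hc e r] at r
  exact r.comm

/-- `C(A) = A × O`: `π g` centralizes `TR`, so `π g = tau16 v = π (J (va v))` (`cent_TR`). -/
theorem cent {g : G} (hg : ∀ t, TL.In 698 t → g * J t = J t * g) :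
    g ∈ NA J ∧ ∃ a, TL.In 698 a ∧ π (g * (J a)⁻¹) = 1 := by
  have hN : g ∈ NA J := by
    refine centralizer_le_normalizer _ (mem_centralizer_iff.2 ?_)
    rintro _ ⟨t, ht, rfl⟩
    exact (hg t ht).symm
  obtain ⟨v, hv⟩ := mem_TR.1 (cent_TR (m := π g) fun v => by
    rw [← i16_va, ← h.sec, ← h.mul hN (h.memN _), ← h.mul (h.memN _) hN, hg _ (va_mem v)])
  refine ⟨hN, va v, va_mem v, ?_⟩
  rw [h.mul hN (inv_mem (h.memN _)), h.inv (h.memN _), h.sec, i16_va, hv, mul_inv_cancel]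

/-- `c = g (J a)⁻¹` has odd order and is a product of two commuting 2-elements. -/
theorem cent2 {g : G} (hg : ∀ t, TL.In 698 t → g * J t = J t * g) (h2 : ∃ k, g ^ 2 ^ k = 1) :
    ∃ a, TL.In 698 a ∧ J a = g := by
  obtain ⟨hN, a, ha, e⟩ := h.cent hg
  obtain ⟨k, hk⟩ := h2
  refine ⟨a, ha, (mul_inv_eq_one.1 ?_).symm⟩
  have ho := h.ker (mul_mem hN (inv_mem (h.memN a))) e
  have hc : Commute g (J a)⁻¹ := Commute.inv_right (hg a ha)
  have h3 : (g * (J a)⁻¹) ^ 2 ^ (k + 1) = 1 := by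
    rw [hc.mul_pow, pow_succ, pow_mul, hk, one_pow, one_mul, mul_comm, pow_mul, inv_pow, sq, ← map_mul,
      (bas_ab a ha).1, map_one, inv_one, one_pow]
  have h4 := orderOf_dvd_of_pow_eq_one h3
  exact orderOf_eq_one_iff.1 (Nat.eq_one_of_dvd_coprimes
    ((Nat.coprime_two_right.2 ho).pow_right (k + 1)) dvd_rfl h4)

/-- `lift_gen` -/
theorem lift {m : P16} (hm : m ∈ AG) (P : Subgroup TL) (hP : ∀ a ∈ P, m * i16 a * m⁻¹ ∈ i16.range) :
    ∃ n ∈ NA J, π n = m ∧ ∀ a ∈ P, ∀ b, i16 b = m * i16 a * m⁻¹ → W2.Rel J n a b := by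
  obtain ⟨x, hx, rfl⟩ := h.surj m hm
  obtain ⟨g, hg, e, k⟩ := lift_gen (N := NA J) (f := π) h.mul h.ker h.memN bas_two i16_inj h.sec hx P hP
  exact ⟨g, hg, e, k⟩

/-- `lift` with `tyw t`, `P = zpowers t`, `tyw_spec`. -/
theorem typ {t : TL} (h1 : t * t = 1) (h2 : t ≠ 1) : ∃ n ∈ NA J, W2.Rel J n t (tyr t) := by
  obtain ⟨h3, h4⟩ := tyw_spec t h1 h2
  have e : i16 (tyr t) = tyw t * i16 t * (tyw t)⁻¹ := eq_mul_inv_of_mul_eq (Perm.ext h4)
  obtain ⟨n, hn, -, k⟩ := h.lift h3 (zpowers t) (by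
    rintro _ ⟨k, rfl⟩
    exact ⟨tyr t ^ k, by rw [map_zpow, map_zpow, e, conj_zpow]⟩)
  exact ⟨n, hn, k t (mem_zpowers t) _ e⟩

theorem odd_of {x : G} (hx : x ∈ NA J) (ho : Odd (orderOf (π x))) : Odd (orderOf x) := by
  have h1 := h.ker (pow_mem hx (orderOf (π x))) (by rw [h.pow hx, pow_orderOf_eq_one])
  refine Odd.of_dvd_nat (ho.mul h1) (orderOf_dvd_of_pow_eq_one ?_)
  rw [pow_mul, pow_orderOf_eq_one]

theorem eq_of_le {P : Subgroup G} (hP : IsPGroup 2 P) (h1 : J.range ≤ P) (h2 : P ≤ NA J) :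
    P = J.range := by
  exact h.syl.eq_of_le hP h1 h2

/-- `lift` with `r16`, `P = TL.Q`, `rT_spec`. -/
theorem exists_rho : ∃ ρ ∈ NA J, π ρ = r16 ∧ ∀ t, TL.In 560 t → W2.Rel J ρ t (rT t) := by
  obtain ⟨n, hn, e, k⟩ := h.lift rT_spec.1 TL.Q fun a ha => ⟨_, (rT_spec.2 a ha).2⟩
  exact ⟨n, hn, e, fun t ht => k t ht _ (rT_spec.2 t ht).2⟩

/-- `lift` with `s16`, `P = PP`, `sP_spec`. -/
theorem exists_sigma : ∃ σ ∈ NA J, π σ = s16 ∧ ∀ t, TL.In 128 t → W2.Rel J σ t (sP t) := by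
  obtain ⟨n, hn, e, k⟩ := h.lift sP_spec.1 PP fun a ha => ⟨_, (sP_spec.2 a ha).2⟩
  exact ⟨n, hn, e, fun t ht => k t ht _ (sP_spec.2 t ht).2⟩

end Hy

end CfsgLib.Har
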