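import Cfsg.Agent.Lib.Har.Aq

/-!
Project HAR (S1918, plans/HAR.md). Construction of `B` (package BSA).
-/

set_option autoImplicit false
set_option Elab.async false
set_option linter.unusedSectionVars false
set_option synthInstance.maxSize 100000
set_option maxRecDepth 100000

namespace CfsgLib.Har

open Subgroup Equiv Function CfsgLib.W2 CfsgLib.W2.TG CfsgLib.Tech CfsgLib.PComp Cfsg CfsgLib.A16
  CfsgLib.SylT

variable {G : Type*} [Group G] [Finite G] {J : TL →* G} {π : G → P16}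

namespace Bsa

noncomputable section

/-- the projection of `B` onto `A'` -/
def pa : BG →* TL := homOf gB_gen (fun b => o (tab1 8 255 0x1010101020202020101010102020202080808080b0b0b0b080808080b0b0b0b80808080838383838080808083838383898989898a8a8a8a898989898a8a8a8a8b8b8b8b888888888b8b8b8b88888888828282828181818182828282818181810a0a0a0a090909090a0a0a0a0909090903030303000000000303030300000000 b.v))
  (by decide +kernel) (by decide +kernel)

/-- coordinates of `B / A'` -/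
def ch (i : ℕ) (b : BG) : Bool := bit (quad b) i

theorem ch_mul : ∀ a b : BG, ch 0 (a * b) = xor (ch 0 a) (ch 0 b) ∧ ch 1 (a * b) = xor (ch 1 a) (ch 1 b) ∧
    ch 2 (a * b) = xor (ch 2 a) (ch 2 b) := by decide +kernel

theorem pa_spec : ∀ b, TL.In 884 (pa b) ∧
    gb (i0 (pa b)) * (if ch 2 b then o 1 else 1) * (if ch 1 b then o 2 else 1) *
      (if ch 0 b then o 8 else 1) = b ∧
    (quad b = 0 → i0 (pa b) = bet b ∧ ch 2 b = false ∧ ch 1 b = false ∧ ch 0 b = false) := by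
  decide +kernel

theorem ap_spec : ∀ t, TL.In 884 t → TL.In 560 t ∧ t * t = 1 ∧ pa (gb (i0 t)) = t ∧
    quad (gb (i0 t)) = 0 := by decide +kernel

theorem quad_comm : ∀ t, TL.In 560 t → ∀ b, quad (b * cB (i0 t) b) = 0 := by decide +kernel

/-- the action of `B` on `Q` -/
def kb (b : BG) (t : TL) : TL := pa (b * cB (i0 t) b) * t

theorem kb_mem {t : TL} (ht : TL.In 560 t) (b : BG) : TL.In 560 (kb b t) :=
  mem_Q.1 (TL.Q.mul_mem (ap_spec _ (pa_spec _).1).1 ht)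

theorem bet_inv (b : BG) : (bet b)⁻¹ = bet b := by
  rw [← map_inv, inv_eq_of_mul_eq_one_right (BG.sq b)]

theorem i0_kb {t : TL} (ht : TL.In 560 t) (b : BG) : i0 (kb b t) = bet b * i0 t * (bet b)⁻¹ := by
  rw [kb, map_mul, ((pa_spec _).2.2 (quad_comm t ht b)).1, map_mul, bet_cB, bet_inv]; group

theorem kb_one {t : TL} (ht : TL.In 560 t) : kb 1 t = t := i0_inj (by rw [i0_kb ht]; simp)

theorem kb_mul {t : TL} (ht : TL.In 560 t) (a b : BG) : kb (a * b) t = kb a (kb b t) :=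
  i0_inj (by rw [i0_kb ht, i0_kb (kb_mem ht b), i0_kb ht, map_mul]; group)

theorem kb_conj {t : TL} (ht : TL.In 560 t) (b : BG) (u : TL) :
    kb (cB (i0 u) b) (u * t * u⁻¹) = u * kb b t * u⁻¹ :=
  i0_inj (by
    rw [i0_kb (TL.Q_conj u t ht), bet_cB]
    simp only [map_mul, map_inv, i0_kb ht]; group)

theorem kb_ap {a t : TL} (ha : TL.In 884 a) (ht : TL.In 560 t) : kb (gb (i0 a)) t = a * t * a⁻¹ :=
  i0_inj (by
    obtain ⟨-, -, h1, h2⟩ := ap_spec a ha
    rw [i0_kb ht, ← ((pa_spec _).2.2 h2).1, h1, map_mul, map_mul, map_inv])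

theorem kb_fix {a : TL} (ha : TL.In 884 a) (b : BG) : kb b a = a :=
  i0_inj (by
    obtain ⟨h0, -, h1, h2⟩ := ap_spec a ha
    rw [i0_kb h0, ← h1, ((pa_spec _).2.2 h2).1, ← map_mul, mul_comm, map_mul, mul_inv_cancel_right])

theorem consts : ub 0 = o 1 ∧ sR (o 1) = o 2 ∧ sR (o 2) = o 8 ∧ gb (i0 TL.z) = zb ∧
    TL.In 884 TL.z ∧ quad (o 1 * o 2) ≠ 0 ∧ quad (o 1 * o 8) ≠ 0 ∧ quad (o 2 * o 8) ≠ 0 ∧
    quad (o 1 * o 2 * o 8) ≠ 0 := by decide +kernel

theorem kb_ku {t : TL} (ht : TL.In 560 t) : kb (o 1) t = ku t :=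
  i0_inj (by rw [i0_kb ht, i0_ku, consts.1])

theorem rT_cube : ∀ t, TL.In 560 t → rT (rT (rT t)) = t := by decide +kernel

theorem rT_kb0 : ∀ g ∈ gB, ∀ t, TL.In 560 t → rT (kb g t) = kb (sR g) (rT t) := by decide +kernel

theorem rT_kb (b : BG) : ∀ t, TL.In 560 t → rT (kb b t) = kb (sR b) (rT t) :=
  ind_of_genB gB_gen (P := fun b => ∀ t, TL.In 560 t → rT (kb b t) = kb (sR b) (rT t))
    (fun t ht => by rw [map_one, kb_one ht, kb_one (rT_spec.2 t ht).1])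
    (fun a ih g hg t ht => by
      rw [kb_mul ht, ih _ (kb_mem ht g), rT_kb0 g hg t ht, map_mul, kb_mul (rT_spec.2 t ht).1]) b

theorem kb_ker : (∀ b, kb b TL.x25 = TL.x25 → kb b TL.x35 = TL.x35 → kb b TL.x45 = TL.x45 →
    b = 1 ∨ b = zb) ∧ TL.In 560 TL.x25 ∧ TL.In 560 TL.x35 ∧ TL.In 560 TL.x45 := by decide +kernel

theorem orb : ∀ b, quad b = 0 ∨ ∃ u ∈ [1, TL.x23, TL.x34, TL.x24, TL.x24 * TL.x34],
    ∃ e ∈ [(o 1 : BG), o 2, o 8], quad (cB (i0 u) b * e) = 0 := by decide +kernel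

theorem at_spec : (∀ a, TL.In 698 a → TL.In 560 a) ∧ ∀ a, TL.In 698 a → a * TL.x12 = TL.x12 * a →
    a * TL.x13 = TL.x13 * a → a * TL.x14 = TL.x14 * a → a = 1 ∨ a = TL.z := by decide +kernel

theorem AP_conj : ∀ c, ∀ x ∈ AP, c * x * c⁻¹ ∈ AP := TL.conj_of_gen
  (by decide +kernel : ∀ g ∈ [TL.x12, TL.x23, TL.x34, TL.x45], ∀ x, TL.In 884 x → TL.In 884 (g * x * g⁻¹))

/-- `d` acts on `Q` as `b` -/
def Ac (J : TL →* G) (d : G) (b : BG) : Prop := ∀ t, TL.In 560 t → W2.Rel J d t (kb b t)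

theorem Ac.one : Ac J 1 1 := fun t ht => by rw [kb_one ht]; simp [W2.Rel]

theorem Ac.mul {d e : G} {a b : BG} (h1 : Ac J d a) (h2 : Ac J e b) : Ac J (d * e) (a * b) :=
  fun t ht => by rw [kb_mul ht]; exact (h1 _ (kb_mem ht b)).comp (h2 t ht)

theorem Ac.inv {d : G} {a : BG} (h : Ac J d a) : Ac J d⁻¹ a := fun t ht =>
  (h _ (kb_mem ht a)).symm.of_eq (by rw [← kb_mul ht, BG.sq, kb_one ht]) rfl

theorem Ac.pow {d : G} {a : BG} (h : Ac J d a) (n : ℕ) : Ac J (d ^ n) (a ^ n) := by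
  induction n with
  | zero => simpa using Ac.one
  | succ n ih => rw [pow_succ, pow_succ]; exact ih.mul h

theorem Ac.ite {d : G} {a : BG} (h : Ac J d a) (c : Bool) :
    Ac J (if c then d else 1) (if c then a else 1) := by
  cases c
  exacts [Ac.one, h]

theorem Ac.conj {d : G} {a : BG} (h : Ac J d a) (u : TL) :
    Ac J (J u * d * (J u)⁻¹) (cB (i0 u) a) := fun t ht => by
  have h1 : TL.In 560 (u⁻¹ * t * u⁻¹⁻¹) := TL.Q_conj u⁻¹ t ht
  have e : u * (u⁻¹ * t * u⁻¹⁻¹) * u⁻¹ = t := by group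
  refine ((h _ h1).conj_by u).of_eq e ?_
  rw [← kb_conj h1, e]

theorem Ac.rho {ρ d : G} {a : BG} (hρ : ∀ t, TL.In 560 t → W2.Rel J ρ t (rT t)) (h : Ac J d a) :
    Ac J (ρ * d * ρ⁻¹) (sR a) := fun t ht => by
  have h1 := (rT_spec.2 _ (rT_spec.2 t ht).1).1
  refine (((hρ _ (kb_mem h1 a)).comp (h _ h1)).comp (hρ _ h1).symm).of_eq (rT_cube t ht) ?_
  rw [rT_kb a _ h1, rT_cube t ht]

theorem Ac.ap {a : TL} (ha : TL.In 884 a) : Ac J (J a) (gb (i0 a)) := fun t ht => by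
  rw [kb_ap ha ht]; exact W2.Rel.conj J a t

theorem Ac.comm {d : G} {b : BG} (h : Ac J d b) {a : TL} (ha : TL.In 884 a) : d * J a = J a * d :=
  ((h a (ap_spec a ha).1).of_eq rfl (kb_fix ha b)).comm

theorem Ac.cent {d : G} (h : Ac J d 1) {t : TL} (ht : TL.In 560 t) : W2.Rel J d t t :=
  (h t ht).of_eq rfl (kb_one ht)

/-- the elements acting on `Q` as elements of `B` -/
def DD (J : TL →* G) : Subgroup G where
  carrier := {d | ∃ b, Ac J d b}
  one_mem' := ⟨1, Ac.one⟩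
  mul_mem' := fun ⟨a, ha⟩ ⟨b, hb⟩ => ⟨a * b, ha.mul hb⟩
  inv_mem' := fun ⟨a, ha⟩ => ⟨a, ha.inv⟩

theorem two_cent (h : Hy J π) {r : G} (h1 : Ac J r 1) (h2 : ∃ k, r ^ 2 ^ k = 1) :
    r = 1 ∨ r = J TL.z := by
  obtain ⟨a, ha, rfl⟩ := h.cent2 (fun t ht => (h1.cent (at_spec.1 t ht)).comm) h2
  have k : ∀ t, TL.In 560 t → a * t = t * a := fun t ht =>
    h.inj (by rw [map_mul, map_mul]; exact (h1.cent ht).comm)
  rcases at_spec.2 a ha (k _ (by decide +kernel)) (k _ (by decide +kernel)) (k _ (by decide +kernel))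
    with e | e
  · exact Or.inl (by rw [e, map_one])
  · exact Or.inr (by rw [e])

theorem lift_syl {R : Subgroup G} (hR : IsSylowIn 2 R (DD J)) {d : G} {b : BG} (h : Ac J d b) :
    ∃ r ∈ R, Ac J r b := by
  obtain ⟨k, m, hm, e⟩ := Nat.exists_eq_two_pow_mul_odd (orderOf_pos d).ne'
  have h1 : Ac J (d ^ m) b := by
    obtain ⟨j, rfl⟩ := hm
    have := h.pow (2 * j + 1)
    rwa [pow_succ b, pow_mul b, pow_two b, BG.sq, one_pow, one_mul] at this
  obtain ⟨g, ⟨c, hc⟩, hg⟩ := hR.exists_conj_mem (x := d ^ m) ⟨b, h1⟩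
    (isPGroup_zpowers_of_pow (k := k) (by rw [← pow_mul, mul_comm, ← e, pow_orderOf_eq_one]))
  refine ⟨_, hg, ?_⟩
  have := (hc.mul h1).mul hc.inv
  rwa [mul_comm c, mul_assoc b, BG.sq, mul_one] at this

omit [Finite G] in
theorem not_all {r s t z : G} (hz : z * z = 1) (cs : s * z = z * s)
    (ct : t * z = z * t) (h1 : r * r = z) (h2 : s * s = z) (h3 : t * t = z) (h4 : r * s * (r * s) = z)
    (h5 : r * t * (r * t) = z) (h6 : s * t * (s * t) = z) (h7 : r * s * t * (r * s * t) = z) :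
    z = 1 := by
  have k : ∀ x y : G, x * x = z → y * y = z → x * y * (x * y) = z → y * z = z * y →
      y * x = x * y * z := fun x y hx hy hxy cy => by
    have e1 : y * x = x⁻¹ * (x * y * (x * y)) * y⁻¹ := by group
    have e2 : x⁻¹ = x * z := by rw [inv_eq_iff_mul_eq_one, ← mul_assoc, hx, hz]
    have e3 : y⁻¹ = y * z := by rw [inv_eq_iff_mul_eq_one, ← mul_assoc, hy, hz]
    rw [e1, hxy, e2, e3, mul_assoc x, hz, mul_one, mul_assoc]
  have a1 := k r s h1 h2 h4 cs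
  have a2 := k r t h1 h3 h5 ct
  have e : r * s * t * (r * s * t) = r * s * (t * r) * s * t := by group
  have e2 : r * s * (r * t * z) * s * t = r * (s * r) * t * (z * s) * t := by group
  have e3 : r * (r * s * z) * t * (s * z) * t = r * r * s * (z * t) * s * (z * t) := by group
  have e4 : z * s * (t * z) * s * (t * z) = z * (s * t * (z * s) * t) * z := by group
  have e5 : s * t * (s * z) * t = s * t * s * (z * t) := by group
  have e6 : s * t * s * (t * z) = s * t * (s * t) * z := by group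
  rw [e, a2, e2, a1, ← cs, e3, h1, ← ct, e4, ← cs, e5, ← ct, e6, h6, hz, mul_one, hz] at h7
  exact h7.symm

/-- `r ^ χ` -/
def pw2 {X : Type*} [Group X] (r : X) (hr : r * r = 1) (χ : BG → Bool)
    (hχ : ∀ a b, χ (a * b) = xor (χ a) (χ b)) : BG →* X :=
  MonoidHom.mk' (fun b => if χ b then r else 1) fun a b => by
    rw [hχ]; cases χ a <;> cases χ b <;> simp [hr]

/-- the data of the Sylow subgroup -/
structure RR (J : TL →* G) (π : G → P16) (R : Subgroup G) (ρ : G) : Prop where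
  syl : IsSylowIn 2 R (DD J)
  ap : ∀ a, TL.In 884 a → J a ∈ R
  nT : ∀ t, J t ∈ normalizer (R : Set G)
  all : ∀ b, ∃ r ∈ R, Ac J r b
  rN : ρ ∈ NA J
  rp : π ρ = r16
  rB : ρ ∈ normalizer (R : Set G)
  rq : ∀ t, TL.In 560 t → W2.Rel J ρ t (rT t)

theorem exists_RR (h : Hy J π) {b : G} (hb : BQ J b) : ∃ R ρ, RR J π R ρ := by
  obtain ⟨ρ, rN, rp, rq⟩ := h.exists_rho
  have hP : AP.map J ≤ J.range := map_le_range J AP
  obtain ⟨R, hR, h1, h2⟩ := syl_inv (D := DD J) (V := J.range) (P := AP.map J) h.syl.pgroup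
    (by
      rintro _ ⟨u, rfl⟩
      exact mem_normalizer_of_forall fun d ⟨c, hc⟩ => ⟨_, hc.conj u⟩)
    (h.syl.pgroup.to_le hP) (by rintro _ ⟨a, ha, rfl⟩; exact ⟨_, Ac.ap ha⟩)
    (by
      rintro _ ⟨u, rfl⟩
      refine mem_normalizer_of_forall ?_
      rintro _ ⟨a, ha, rfl⟩
      exact ⟨_, AP_conj u a ha, by simp⟩)
  have ap : ∀ a, TL.In 884 a → J a ∈ R := fun a ha => h1 ⟨a, ha, rfl⟩
  have b1 : Ac J b (o 1) := fun t ht => by rw [kb_ku ht]; exact hb t ht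
  have b2 := Ac.rho rq b1
  rw [consts.2.1] at b2
  have b3 := Ac.rho rq b2
  rw [consts.2.2.1] at b3
  have all : ∀ c, ∃ r ∈ R, Ac J r c := fun c => by
    have := (((Ac.ap (J := J) (pa_spec c).1).mul (b1.ite (ch 2 c))).mul (b2.ite (ch 1 c))).mul
      (b3.ite (ch 0 c))
    rw [(pa_spec c).2.1] at this
    exact lift_syl hR this
  obtain ⟨n, ⟨c, hc⟩, hn⟩ := hR.frattini (g := ρ)
    (mem_normalizer_of_forall fun d ⟨c, hc⟩ => ⟨_, Ac.rho rq hc⟩)
  obtain ⟨r, hr, hrc⟩ := all c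
  have h3 := hrc.inv.mul hc
  rw [BG.sq] at h3
  obtain ⟨h4, a, ha, h5⟩ := h.cent fun t ht => (h3.cent (at_spec.1 t ht)).comm
  have h6 : r⁻¹ * n * (J a)⁻¹ ∈ NA J := mul_mem h4 (inv_mem (h.memN a))
  have h7 : ∀ t, TL.In 560 t → W2.Rel J (r⁻¹ * n * (J a)⁻¹) t t := fun t ht => by
    have k : TL.In 560 (a⁻¹ * t * a⁻¹⁻¹) := TL.Q_conj a⁻¹ t ht
    have k2 := (h3.cent k).comp (W2.Rel.conj J a⁻¹ t)
    rw [map_inv] at k2
    exact k2.of_eq rfl (h.O_cent h6 h5 k2).symm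
  refine ⟨R, r⁻¹ * n * (J a)⁻¹ * ρ, hR, ap, fun t => h2 ⟨t, rfl⟩, all, mul_mem h6 rN,
    by rw [h.mul h6 rN, h5, one_mul, rp], ?_, fun t ht => (h7 _ (rT_spec.2 t ht).1).comp (rq t ht)⟩
  have e : r⁻¹ * n * (J a)⁻¹ * ρ = (J a)⁻¹ * (r⁻¹ * (n * ρ)) := by
    have := (h3.cent (at_spec.1 a ha)).comm
    rw [mul_inv_eq_iff_eq_mul.2 (show r⁻¹ * n = (J a)⁻¹ * (r⁻¹ * n) * J a by
      rw [mul_assoc, this, inv_mul_cancel_left])]
    group
  rw [e]
  exact mul_mem (inv_mem (h2 ⟨a, rfl⟩)) (mul_mem (inv_mem (le_normalizer hr)) hn)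

namespace RR

variable {R : Subgroup G} {ρ : G} (h : Hy J π) (H : RR J π R ρ)
include h H

theorem one_cases {r : G} (hr : r ∈ R) (h1 : Ac J r 1) : r = 1 ∨ r = J TL.z :=
  two_cent h h1 (isPGroup_iff_mem.1 H.syl.pgroup r hr)

theorem uniq {r s : G} {b : BG} (hr : r ∈ R) (hs : s ∈ R) (h1 : Ac J r b) (h2 : Ac J s b) :
    s = r ∨ s = r * J TL.z := by
  have h3 := h1.inv.mul h2
  rw [BG.sq] at h3
  rcases H.one_cases h (mul_mem (inv_mem hr) hs) h3 with e | e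
  · exact Or.inl (inv_mul_eq_one.1 e).symm
  · exact Or.inr (inv_mul_eq_iff_eq_mul.1 e)

theorem sq_cases {r : G} (hr : r ∈ R) : r * r = 1 ∨ r * r = J TL.z := by
  obtain ⟨b, hb⟩ := H.syl.le hr
  have := hb.mul hb
  rw [BG.sq] at this
  exact H.one_cases h (mul_mem hr hr) this

theorem sq_eq {r s : G} {b c : BG} (hr : r ∈ R) (hs : s ∈ R) (h1 : Ac J r b) (h2 : Ac J s c)
    (e : quad (b * c) = 0) : s * s = r * r := by
  have k : ∀ {x : G} {d : BG} {a : TL}, Ac J x d → TL.In 884 a → x * J a * (x * J a) = x * x :=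
    fun {x d a} hx ha => by
      rw [mul_assoc, ← mul_assoc (J a), ← hx.comm ha, mul_assoc, ← map_mul, (ap_spec a ha).2.1,
        map_one, mul_one]
  have ha := (pa_spec (b * c)).1
  have h3 := h1.mul (Ac.ap (J := J) ha)
  have e2 : b * gb (i0 (pa (b * c))) = c := by
    rw [((pa_spec _).2.2 e).1, gb_bet, ← mul_assoc, BG.sq, one_mul]
  rw [e2] at h3
  rcases H.uniq h (mul_mem hr (H.ap _ ha)) hs h3 h2 with e | e
  · rw [e, k h1 ha]
  · rw [e, k h3 consts.2.2.2.2.1, k h1 ha]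

theorem sq_one {r : G} (hr : r ∈ R) : r * r = 1 := by
  have hz : J TL.z ≠ 1 := fun e => TL.z_ne (h.inj (by rw [e, map_one]))
  have zz : J TL.z * J TL.z = 1 := by rw [← map_mul, TL.zz, map_one]
  have cj1 : ∀ g x : G, g * x * g⁻¹ * (g * x * g⁻¹) = 1 ↔ x * x = 1 := fun g x => by
    rw [show g * x * g⁻¹ * (g * x * g⁻¹) = g * (x * x) * g⁻¹ by group, conj_eq_one_iff]
  obtain ⟨r1, m1, a1⟩ := H.all (o 1)
  have m2 := conj_mem_of_mem_normalizer H.rB m1
  have a2 := Ac.rho H.rq a1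
  rw [consts.2.1] at a2
  have m3 := conj_mem_of_mem_normalizer H.rB m2
  have a3 := Ac.rho H.rq a2
  rw [consts.2.2.1] at a3
  have key : ∀ {s : G} {b : BG}, s ∈ R → Ac J s b → quad b ≠ 0 → (s * s = 1 ↔ r1 * r1 = 1) :=
    fun {s b} hs hb hq => by
      obtain ⟨u, -, e, he, hu⟩ := (orb b).resolve_left hq
      have hs' := conj_mem_of_mem_normalizer (H.nT u) hs
      rw [← cj1 (J u)]
      simp only [List.mem_cons, List.not_mem_nil, or_false] at he
      rcases he with rfl | rfl | rfl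
      · rw [H.sq_eq h hs' m1 (hb.conj u) a1 hu]
      · rw [← H.sq_eq h hs' m2 (hb.conj u) a2 hu, cj1]
      · rw [← H.sq_eq h hs' m3 (hb.conj u) a3 hu, cj1, cj1]
  have h1 : r1 * r1 = 1 := by
    by_contra hn
    have k : ∀ {s : G}, s ∈ R → (s * s = 1 ↔ r1 * r1 = 1) → s * s = J TL.z := fun hs e =>
      (H.sq_cases h hs).resolve_left fun e' => hn (e.1 e')
    obtain ⟨-, -, -, -, c0, c1, c2, c3, c4⟩ := consts
    exact hz (not_all zz (a2.comm c0) (a3.comm c0) (k m1 Iff.rfl) (k m2 (cj1 _ _))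
      (k m3 ((cj1 _ _).trans (cj1 _ _))) (k (mul_mem m1 m2) (key (mul_mem m1 m2) (a1.mul a2) c1))
      (k (mul_mem m1 m3) (key (mul_mem m1 m3) (a1.mul a3) c2))
      (k (mul_mem m2 m3) (key (mul_mem m2 m3) (a2.mul a3) c3))
      (k (mul_mem (mul_mem m1 m2) m3) (key (mul_mem (mul_mem m1 m2) m3) ((a1.mul a2).mul a3) c4)))
  obtain ⟨b, hb⟩ := H.syl.le hr
  by_cases hq : quad b = 0
  · have := H.sq_eq h R.one_mem hr Ac.one hb (by rwa [one_mul])
    rwa [one_mul] at this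
  · exact (key hr hb hq).2 h1

theorem exists_beta : ∃ β : BG →* G, (∀ b, β b ∈ R ∧ Ac J (β b) b) ∧
    ∀ b, quad b = 0 → β b = J (pa b) := by
  have sq : ∀ x : R, x * x = 1 := fun x => Subtype.ext (H.sq_one h x.2)
  let _ : CommGroup R := { (inferInstance : Group R) with
    mul_comm := fun x y => by
      rw [← inv_eq_of_mul_eq_one_right (sq (x * y)), mul_inv_rev, inv_eq_of_mul_eq_one_right (sq x),
        inv_eq_of_mul_eq_one_right (sq y)] }
  obtain ⟨r1, m1, a1⟩ := H.all (o 1)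
  obtain ⟨r2, m2, a2⟩ := H.all (o 2)
  obtain ⟨r3, m3, a3⟩ := H.all (o 8)
  let α : BG →* R := (J.comp pa).codRestrict R fun b => H.ap _ (pa_spec b).1
  let β : BG →* R := α * pw2 ⟨r1, m1⟩ (sq _) (ch 2) (fun a b => (ch_mul a b).2.2) *
    pw2 ⟨r2, m2⟩ (sq _) (ch 1) (fun a b => (ch_mul a b).2.1) *
    pw2 ⟨r3, m3⟩ (sq _) (ch 0) (fun a b => (ch_mul a b).1)
  have e : ∀ b, R.subtype.comp β b = J (pa b) * (if ch 2 b then r1 else 1) *
      (if ch 1 b then r2 else 1) * (if ch 0 b then r3 else 1) := fun b => by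
    change J (pa b) * ((if ch 2 b then ⟨r1, m1⟩ else 1 : R) : G) *
      ((if ch 1 b then ⟨r2, m2⟩ else 1 : R) : G) * ((if ch 0 b then ⟨r3, m3⟩ else 1 : R) : G) = _
    cases ch 2 b <;> cases ch 1 b <;> cases ch 0 b <;> rfl
  refine ⟨R.subtype.comp β, fun b => ⟨(β b).2, ?_⟩, fun b hb => ?_⟩
  · have := (((Ac.ap (J := J) (pa_spec b).1).mul (a1.ite (ch 2 b))).mul (a2.ite (ch 1 b))).mul
      (a3.ite (ch 0 b))
    rwa [(pa_spec b).2.1, ← e] at this
  · obtain ⟨-, k1, k2, k3⟩ := (pa_spec b).2.2 hb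
    rw [e, k1, k2, k3]; simp

end RR

end

end Bsa

open Bsa in
/-- `D = C(A') ⊓ N(Q)`, normalized by `T₀` and by `ρ₀` (`exists_rho`; `rT` preserves `A'`).
`C(Q) = ⟨z⟩ × O'`, `O' = C(Q) ⊓ ker π` (`cent`), normal in `N(Q)`. An element of `D` acts on `Q` as
conjugation by `bet b` in `SG` for a `b` unique modulo `zb` (an automorphism of `Q` trivial on `A'` is
determined by the images of `x25, x35, x45`, which lie in the cosets modulo `A'`; decide that the
relations leave 64 choices, all induced by `B`), and every `b` occurs: `A'`, `b₀` (`ub 0 = tb 0 1`),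
`ρ₀ b₀ ρ₀⁻¹` (`tb 0 2`), `ρ₀² b₀ ρ₀⁻²` (`tb 0 4`) generate. So `D → BG / ⟨zb⟩` is onto with kernel
`C(Q)`. Let `R` be a Sylow 2-subgroup of `D` normalized by `T₀`, `A' ≤ R` (`syl_inv`); `|R| = 128`,
`D = R O'`; replace `ρ₀` by `c ρ₀`, `c ∈ O'`, normalizing `R`. Squares and commutators of `R` lie in
`C(Q) ⊓ R = ⟨z⟩`, `A' ≤ Z(R)`, so the square depends only on the class in `R / A' = 2³`; the seven
classes are permuted transitively by `ρ` and `J x23` (classes of `tb 0 1, tb 0 2, tb 0 4` by `ρ`;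
`x23`, `x34` give the sums), so all squares are equal; they are not all `z` (then all three
commutators are `z` and `(b₁b₂b₃)² = z⁶ = 1`). So `R` is elementary abelian. Define `β` on the basis:
on `A'` by `J`, on `tb 0 1, tb 0 2, tb 0 4` by elements of `R` with these actions. `actQ`: for
`t ∈ Q`, `β b · J t · β b⁻¹ = J t'` with `i0 t' = bet b · i0 t · bet b⁻¹`, and `t' t⁻¹ ∈ A'`. -/
theorem Hy.ba (h : Hy J π) {b : G} (hb : BQ J b) : ∃ β ρ, BA J π β ρ := by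
  obtain ⟨R, ρ, H⟩ := exists_RR h hb
  obtain ⟨β, h1, h2⟩ := H.exists_beta h
  have ha : ∀ t, TL.In 884 t → β (gb (i0 t)) = J t := fun t ht => by
    rw [h2 _ (ap_spec t ht).2.2.2, (ap_spec t ht).2.2.1]
  have hz : β zb = J TL.z := by rw [← consts.2.2.2.1, ha _ consts.2.2.2.2.1]
  have hR : β.range = R := le_antisymm (by rintro _ ⟨c, rfl⟩; exact (h1 c).1) fun r hr => by
    obtain ⟨c, hc⟩ := H.syl.le hr
    rcases H.uniq h (h1 c).1 hr (h1 c).2 hc with e | e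
    · exact ⟨c, e.symm⟩
    · exact ⟨c * zb, by rw [map_mul, hz, e]⟩
  refine ⟨β, ρ, (injective_iff_map_eq_one _).2 fun c hc => ?_, ha, hR ▸ H.nT, fun t ht c => ?_, H.rN,
    H.rp, hR ▸ H.rB, H.rq⟩
  · have k : ∀ t, TL.In 560 t → kb c t = t := fun t ht => h.inj (by
      have := (h1 c).2 t ht
      rw [hc, W2.Rel, one_mul, inv_one, mul_one] at this
      exact this.symm)
    obtain ⟨k0, k1, k2, k3⟩ := kb_ker
    refine (k0 c (k _ k1) (k _ k2) (k _ k3)).resolve_right fun e => TL.z_ne (h.inj ?_)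
    rw [← hz, ← e, hc, map_one]
  · have k := (h1 c).2 t ht
    rw [W2.Rel, kb, map_mul, ← h2 _ (quad_comm t ht c), map_mul, ← map_inv,
      inv_eq_of_mul_eq_one_right (BG.sq c), mul_assoc, mul_assoc, mul_right_inj] at k
    exact mul_inv_eq_iff_eq_mul.2 k

end CfsgLib.Har
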