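import Cfsg.Agent.Lib.Har.Bas

/-!
Project HAR (S1918, plans/HAR.md). The action of `T₀` and `ρ` on `B` (package BSB).
-/

set_option autoImplicit false
set_option Elab.async false
set_option linter.unusedSectionVars false
set_option synthInstance.maxSize 100000
set_option maxRecDepth 100000

namespace CfsgLib.Har

open Subgroup Equiv Function CfsgLib.W2 CfsgLib.W2.TG CfsgLib.Tech CfsgLib.PComp Cfsg CfsgLib.A16
  CfsgLib.SylT

variable {G : Type*} [Group G] [Finite G] {J : TL →* G} {π : G → P16}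
variable {β : BG →* G} {ρ σ : G} {ε : Bool} {e : EG →* G}

namespace Bsb

theorem aut_ext {d d' : MulAut BG} (h : ∀ b ∈ gB, d b = d' b) : d = d' :=
  MulEquiv.ext fun b => DFunLike.congr_fun (hom_ext gB_gen (φ := d.toMonoidHom) (ψ := d'.toMonoidHom) h) b

theorem tw_fix : ∀ (φ : Fin 8) (a : BG), quad a = 0 → tw φ a = a := by decide +kernel

theorem tw_sq (φ : Fin 8) : tw φ * tw φ = 1 := MulEquiv.ext (twf_ok φ).1

theorem tw_of (u : MulAut BG) (h1 : ∀ t ∈ [TL.z, TL.x12, TL.x13, TL.x14], u (gb (i0 t)) = gb (i0 t))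
    (h2 : ∀ t ∈ [TL.x25, TL.x35, TL.x45], ∀ b, u (cB (i0 t) b) = cB (i0 t) (u b)) : ∃ φ, u = tw φ := by
  have fA : ∀ a, quad a = 0 → u a = a := fun a ha =>
    mem_of_sp (S := u.toMonoidHom.eqLocus (MonoidHom.id _))
      (gs := [TL.z, TL.x12, TL.x13, TL.x14].map fun t => gb (i0 t)) (D := 4)
      (fun g hg => by obtain ⟨t, ht, rfl⟩ := List.mem_map.1 hg; exact h1 t ht)
      ((by decide +kernel : ∀ a : BG, quad a = 0 →
        bit (sp ([TL.z, TL.x12, TL.x13, TL.x14].map fun t => gb (i0 t)) 4) a.v = true) a ha)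
  have k1 : ∀ t ∈ [TL.x25, TL.x35, TL.x45], ∀ b, quad (cB (i0 t) b * b⁻¹) = 0 := by decide +kernel
  have k2 : ∀ w, (∀ t ∈ [TL.x25, TL.x35, TL.x45], cB (i0 t) w = w) → w = 1 ∨ w = zb := by decide +kernel
  have k3 : ∀ b, ∃ e : Bool, u b = (if e then zb else 1) * b := fun b => by
    have := k2 (u b * b⁻¹) fun t ht => by
      have e := fA _ (k1 t ht b)
      rw [map_mul, map_inv, h2 t ht, mul_inv_eq_iff_eq_mul] at e
      rw [map_mul, map_inv, e, mul_right_comm, mul_right_comm _ b⁻¹, mul_inv_cancel, one_mul, mul_comm]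
    rcases this with e | e
    · exact ⟨false, mul_inv_eq_iff_eq_mul.1 e⟩
    · exact ⟨true, mul_inv_eq_iff_eq_mul.1 e⟩
  have k4 : ∀ e1 e2 e3 : Bool, ∃ φ, tw φ (o 1) = (if e1 then zb else 1) * o 1 ∧
      tw φ (o 2) = (if e2 then zb else 1) * o 2 ∧ tw φ (o 8) = (if e3 then zb else 1) * o 8 := by
    decide +kernel
  obtain ⟨e1, a1⟩ := k3 (o 1)
  obtain ⟨e2, a2⟩ := k3 (o 2)
  obtain ⟨e3, a3⟩ := k3 (o 8)
  obtain ⟨φ, b1, b2, b3⟩ := k4 e1 e2 e3
  have k5 : ∀ a, quad a = 0 → u a = tw φ a := fun a ha => (fA a ha).trans (tw_fix φ a ha).symm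
  refine ⟨φ, MulEquiv.ext fun b => DFunLike.congr_fun (hom_ext (gs := [o 1, o 2, o 8, o 7, o 25, o 42, o 75]) (D := 7)
    (by decide +kernel) (φ := u.toMonoidHom) (ψ := (tw φ).toMonoidHom) ?_) b⟩
  simp only [List.forall_mem_cons]
  exact ⟨a1.trans b1.symm, a2.trans b2.symm, a3.trans b3.symm, k5 _ (by decide +kernel),
    k5 _ (by decide +kernel), k5 _ (by decide +kernel), k5 _ (by decide +kernel), by simp⟩

theorem tw_comm (φ : Fin 8) {t : TL} (ht : TL.In 560 t) : cB (i0 t) * tw φ = tw φ * cB (i0 t) := by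
  have k : ∀ φ : Fin 8, ∀ t ∈ [TL.x12, TL.x13, TL.x14, TL.x25, TL.x35, TL.x45], ∀ b ∈ gB,
      (cB (i0 t) * tw φ) b = (tw φ * cB (i0 t)) b := by decide +kernel
  exact mem_centralizer_singleton_iff.1 (map_mem_of_sp (cB.comp i0) (S := centralizer {tw φ})
    (gs := [TL.x12, TL.x13, TL.x14, TL.x25, TL.x35, TL.x45]) (D := 6)
    (fun g hg => mem_centralizer_singleton_iff.2 (aut_ext (k φ g hg)))
    ((by decide +kernel : ∀ t, TL.InQ t →
      bit (sp [TL.x12, TL.x13, TL.x14, TL.x25, TL.x35, TL.x45] 6) t.v = true) t ht))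

/-- `g` acts on `B` as `d` -/
def Ac (β : BG →* G) (g : G) (d : MulAut BG) : Prop := ∀ b, W2.Rel β g b (d b)

variable {g g' : G} {d d' : MulAut BG}

theorem Ac.mul (h : Ac β g d) (h' : Ac β g' d') : Ac β (g * g') (d * d') := fun b => (h _).comp (h' b)

theorem Ac.inv (h : Ac β g d) : Ac β g⁻¹ d⁻¹ := fun b => by simpa using (h (d⁻¹ b)).symm

theorem Ac.one : Ac β 1 1 := fun b => by simp [W2.Rel]

theorem Ac.pow (h : Ac β g d) (n : ℕ) : Ac β (g ^ n) (d ^ n) := by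
  induction n with
  | zero => simpa using Ac.one
  | succ n ih => rw [pow_succ, pow_succ]; exact ih.mul h

theorem Ac.uniq (hi : Injective β) (h : Ac β g d) (h' : Ac β g d') : d = d' :=
  MulEquiv.ext fun b => (h b).uniq hi (h' b) rfl

theorem Ac.tw (h : Ac β g d) (ψ : Fin 8) : Ac (β.comp (tw ψ).toMonoidHom) g (tw ψ * d * tw ψ) := fun b => by
  change g * β (Har.tw ψ b) * g⁻¹ = β (Har.tw ψ (Har.tw ψ (d (Har.tw ψ b))))
  rw [show ∀ a, Har.tw ψ (Har.tw ψ a) = a from (twf_ok ψ).1]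
  exact h _

theorem exists_ac (hi : Injective β) (hg : g ∈ normalizer (β.range : Set G)) : ∃ d, Ac β g d :=
  let ⟨θ, h, _⟩ := exists_aut hi
  ⟨θ ⟨g, hg⟩, h ⟨g, hg⟩⟩

theorem ac_tw (hb : BA J π β ρ) (hg : g ∈ normalizer (β.range : Set G)) (f : TL → TL) (m : MulAut BG)
    (h0 : ∀ t, TL.In 560 t → W2.Rel J g t (f t))
    (h1 : ∀ t ∈ [TL.z, TL.x12, TL.x13, TL.x14], TL.In 884 (f t) ∧ m (gb (i0 t)) = gb (i0 (f t)))
    (h2 : ∀ t ∈ [TL.x25, TL.x35, TL.x45], TL.In 560 (f t) ∧ cB (i0 (f t)) * m = m * cB (i0 t)) :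
    ∃ φ, Ac β g (m * tw φ) := by
  obtain ⟨d, hd⟩ := exists_ac hb.inj hg
  have q1 : ∀ t ∈ [TL.z, TL.x12, TL.x13, TL.x14], TL.In 884 t ∧ TL.In 560 t := by decide +kernel
  have q2 : ∀ t ∈ [TL.x25, TL.x35, TL.x45], TL.In 560 t := by decide +kernel
  obtain ⟨φ, e⟩ := tw_of (m⁻¹ * d) (fun t ht => by
    have e : d (gb (i0 t)) = gb (i0 (f t)) := hb.inj (by
      rw [← hd _, hb.a t (q1 t ht).1, hb.a _ (h1 t ht).1]; exact h0 t (q1 t ht).2)
    rw [MulAut.mul_apply, e, ← (h1 t ht).2]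
    exact m.symm_apply_apply _) fun t ht b => by
    have a1 : Ac β (J t) (cB (i0 t)) := hb.actQ t (q2 t ht)
    have a2 : Ac β (J (f t)) (cB (i0 (f t))) := hb.actQ _ (h2 t ht).1
    have a3 := (hd.mul a1).mul hd.inv
    rw [show g * J t * g⁻¹ = J (f t) from h0 t (q2 t ht)] at a3
    have e := a3.uniq hb.inj a2
    have e' : m⁻¹ * d * cB (i0 t) = cB (i0 t) * (m⁻¹ * d) := by
      rw [mul_assoc, mul_inv_eq_iff_eq_mul.1 e, ← mul_assoc, ← mul_assoc, inv_mul_eq_iff_eq_mul.2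
        ((eq_mul_inv_of_mul_eq (h2 t ht).2).trans (mul_assoc _ _ _))]
    exact DFunLike.congr_fun e' b
  exact ⟨φ, by rw [← e, mul_inv_cancel_left]; exact hd⟩

theorem ac_ker (h : Hy J π) (hb : BA J π β ρ) {c : G} (hc : c ∈ NA J) (e : π c = 1)
    (h1 : c ∈ normalizer (β.range : Set G)) (h2 : c ∈ normalizer (TL.Q.map J : Set G)) : Ac β c 1 := by
  obtain ⟨φ, a⟩ := ac_tw hb h1 id 1 (fun t ht => by
    obtain ⟨s, -, r⟩ := (mem_normalizer_iff.1 h2 _).1 (mem_map_of_mem J (show t ∈ TL.Q from ht))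
    have r' : W2.Rel J c t s := r.symm
    rwa [← h.O_cent hc e r'] at r') (by decide +kernel) fun t ht =>
      ⟨(by decide +kernel : ∀ t ∈ [TL.x25, TL.x35, TL.x45], TL.In 560 t) t ht, by simp⟩
  rw [one_mul] at a
  obtain ⟨k, hk⟩ := h.ker hc e
  have a2 := a.pow (orderOf c)
  rw [pow_orderOf_eq_one, hk, pow_succ, pow_mul, pow_two, tw_sq, one_pow, one_mul] at a2
  rwa [a2.uniq hb.inj Ac.one] at a

end Bsb

open Bsb

/-- If `g` normalizes `B = range β` and `J Q`, acting on `Q` as an element `w` of `WD` does on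
`iw (i0 Q)`, then its action on `B` is that of `w` times `tw φ` (the action of `β b` on `Q`
determines `b` modulo `zb`; the action on `A'` is known; a homomorphism `B / A' → ⟨zb⟩` is some
`tw φ`). So `J x23` acts as `tw f₁ · cB (i0 x23)`, `ρ` as `tw f₂ · sR`. An element `c ∈ ker π`
normalizing `B` and `J Q` centralizes `Q` (`O_cent`), acts as some `tw φ`, has odd order, so acts
trivially. `(J x23)² = 1` gives `f₁ ∈ {0,1,2,3}`, `ρ³ ∈ ker π` gives `f₂ ∈ {0,3,5,6}`. Replacing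
`β` by `β ∘ tw ψ` changes `(f₁, f₂)` by `(0,0),(0,5),(0,3),(0,6),(2,6),(2,3),(2,5),(2,0)` for
`ψ = 0..7`, so `(f₁, f₂) = (0,0)` (`ε = false`) or `(1,0)` (`ε = true`). `J x34 = ρ (J x23) ρ⁻¹ c`
with `c ∈ ker π` (`r16 · i16 x23 · r16⁻¹ = i16 x34`) gives the action of `x34`. Every `t` is
`q d` with `q ∈ Q`, `d` a word in `x23, x34` (one of `o 0, 16, 32, 48, 512, 528, 544, 560`),
`th ε (q d) = cB (i0 q) · th ε d` as `ph3 (q d) = ph3 d` and `tw φ` commutes with `cB (i0 q)`. -/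
theorem BA.bs (h : Hy J π) (hb : BA J π β ρ) : ∃ β' ε, BS J π β' ρ ε := by
  have nρ : ρ ∈ normalizer (TL.Q.map J : Set G) := mem_normalizer_of_forall (by
    rintro _ ⟨t, ht, rfl⟩
    exact ⟨_, (rT_spec.2 t ht).1, Eq.symm (hb.rq t ht)⟩)
  have nJ : ∀ s, J s ∈ normalizer (TL.Q.map J : Set G) := fun s => mem_normalizer_of_forall (by
    rintro _ ⟨t, ht, rfl⟩
    exact ⟨_, TL.Q_conj s t ht, Eq.symm (W2.Rel.conj J s t)⟩)
  obtain ⟨f₁, a1⟩ := ac_tw hb (hb.nT TL.x23) (fun t => TL.x23 * t * TL.x23⁻¹) (cB (i0 TL.x23))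
    (fun t _ => W2.Rel.conj J _ t) (by decide +kernel) fun t ht => ⟨by revert t; decide +kernel, by
      rw [← map_mul, ← map_mul, ← map_mul, ← map_mul, inv_mul_cancel_right]⟩
  obtain ⟨f₂, a2⟩ := ac_tw hb hb.rB rT sR hb.rq (by decide +kernel) fun t ht =>
    ⟨by revert t; decide +kernel, aut_ext (by revert t; decide +kernel)⟩
  have s1 : cB (i0 TL.x23) * tw f₁ * (cB (i0 TL.x23) * tw f₁) = 1 := by
    have a := a1.mul a1
    rw [← map_mul, show TL.x23 * TL.x23 = 1 by decide +kernel, map_one] at a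
    exact a.uniq hb.inj Ac.one
  have s2 : sR * tw f₂ * (sR * tw f₂) * (sR * tw f₂) = 1 := by
    refine ((a2.mul a2).mul a2).uniq hb.inj (ac_ker h hb (mul_mem (mul_mem hb.rN hb.rN) hb.rN) ?_
      (mul_mem (mul_mem hb.rB hb.rB) hb.rB) (mul_mem (mul_mem nρ nρ) nρ))
    rw [h.mul (mul_mem hb.rN hb.rN) hb.rN, h.mul hb.rN hb.rN, hb.rp]
    decide +kernel
  have key : ∀ f₁ : Fin 8, (∀ b ∈ gB, (cB (i0 TL.x23) * tw f₁ * (cB (i0 TL.x23) * tw f₁)) b = b) →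
      ∀ f₂ : Fin 8, (∀ b ∈ gB, (sR * tw f₂ * (sR * tw f₂) * (sR * tw f₂)) b = b) → ∃ ψ : Fin 8,
      (∀ b ∈ gB, (tw ψ * (sR * tw f₂) * tw ψ) b = sR b) ∧
      ∃ ε, ∀ b ∈ gB, (tw ψ * (cB (i0 TL.x23) * tw f₁) * tw ψ) b = th ε TL.x23 b := by decide +kernel
  obtain ⟨ψ, e2, ε, e1⟩ := key f₁ (fun b _ => by rw [s1]; rfl) f₂ fun b _ => by rw [s2]; rfl
  have b1 := a1.tw ψ
  have b2 := a2.tw ψ
  rw [aut_ext e1] at b1
  rw [aut_ext e2] at b2
  have m1 : ρ * J TL.x23 * ρ⁻¹ ∈ NA J := mul_mem (mul_mem hb.rN (h.memN _)) (inv_mem hb.rN)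
  have b3 := (ac_ker h hb (c := (ρ * J TL.x23 * ρ⁻¹)⁻¹ * J TL.x34) (mul_mem (inv_mem m1) (h.memN _)) (by
      rw [h.mul (inv_mem m1) (h.memN _), h.inv m1, h.mul (mul_mem hb.rN (h.memN _)) (inv_mem hb.rN),
        h.mul hb.rN (h.memN _), h.inv hb.rN, hb.rp, h.sec, h.sec, inv_mul_eq_one, mul_inv_eq_iff_eq_mul]
      decide +kernel)
    (mul_mem (inv_mem (mul_mem (mul_mem hb.rB (hb.nT _)) (inv_mem hb.rB))) (hb.nT _))
    (mul_mem (inv_mem (mul_mem (mul_mem nρ (nJ _)) (inv_mem nρ))) (nJ _))).tw ψ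
  rw [mul_one, tw_sq] at b3
  have b4 := ((b2.mul b1).mul b2.inv).mul b3
  rw [mul_inv_cancel_left, mul_one, aut_ext ((by decide +kernel : ∀ ε, ∀ b ∈ gB,
    (sR * th ε TL.x23 * sR⁻¹) b = th ε TL.x34 b) ε)] at b4
  have bq : ∀ t, TL.In 560 t → Ac (β.comp (tw ψ).toMonoidHom) (J t) (cB (i0 t)) := fun t ht => by
    have := Ac.tw (d := cB (i0 t)) (hb.actQ t ht) ψ
    rwa [mul_assoc, tw_comm ψ ht, ← mul_assoc, tw_sq, one_mul] at this
  have step : ∀ s, Ac (β.comp (tw ψ).toMonoidHom) (J s) (th ε s) → ∀ t, TL.In 560 (t * s⁻¹) ∧ ph3 t = ph3 s →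
      Ac (β.comp (tw ψ).toMonoidHom) (J t) (th ε t) := fun s hs t ht => by
    have := (bq _ ht.1).mul hs
    rwa [← map_mul, inv_mul_cancel_right, th, ← mul_assoc, tw_comm _ ht.1, mul_assoc, ← map_mul, ← map_mul,
      inv_mul_cancel_right, ← ht.2] at this
  have mu : ∀ s t, (∀ ε, ∀ b ∈ gB, (th ε s * th ε t) b = th ε (s * t) b) →
      Ac (β.comp (tw ψ).toMonoidHom) (J s) (th ε s) → Ac (β.comp (tw ψ).toMonoidHom) (J t) (th ε t) →
      Ac (β.comp (tw ψ).toMonoidHom) (J (s * t)) (th ε (s * t)) := fun s t e hs ht => by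
    rw [map_mul, ← aut_ext (e ε)]; exact hs.mul ht
  have c0 := mu _ _ (by decide +kernel) b1 b1
  have c1 := mu _ _ (by decide +kernel) b1 b4
  have c2 := mu _ _ (by decide +kernel) b4 b1
  have c3 := mu _ _ (by decide +kernel) c1 b1
  have c4 := mu _ _ (by decide +kernel) c2 b4
  have c5 := mu _ _ (by decide +kernel) c1 c1
  have cov : ∀ t : TL, ∃ s ∈ [TL.x23, TL.x34, TL.x23 * TL.x23, TL.x23 * TL.x34, TL.x34 * TL.x23,
      TL.x23 * TL.x34 * TL.x23, TL.x34 * TL.x23 * TL.x34, TL.x23 * TL.x34 * (TL.x23 * TL.x34)],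
      TL.In 560 (t * s⁻¹) ∧ ph3 t = ph3 s := by decide +kernel
  refine ⟨β.comp (tw ψ).toMonoidHom, ε, hb.inj.comp (tw ψ).injective, fun t ht => ?_, fun t => ?_, hb.rN, hb.rp,
    b2, hb.rq⟩
  · change β (tw ψ _) = _
    rw [tw_fix ψ _ ((by decide +kernel : ∀ t, TL.InQ t → TL.In 884 t → quad (gb (i0 t)) = 0) t
      ((by decide +kernel : ∀ t, TL.In 884 t → TL.InQ t) t ht) ht), hb.a t ht]
  · obtain ⟨s, hs, e⟩ := cov t
    refine step s ?_ t e
    simp only [List.mem_cons, List.not_mem_nil, or_false] at hs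
    rcases hs with rfl | rfl | rfl | rfl | rfl | rfl | rfl | rfl <;> assumption

end CfsgLib.Har
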