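import Cfsg.Agent.Lib.Har.C2s

/-!
Project HAR (S1918, plans/HAR.md). Case `A ∼ A'`: fusion of `z` (package C2F).
-/

set_option autoImplicit false
set_option Elab.async false
set_option linter.unusedSectionVars false
set_option synthInstance.maxSize 100000
set_option maxRecDepth 100000

namespace CfsgLib.Har

open Subgroup Equiv Function CfsgLib.W2 CfsgLib.W2.TG CfsgLib.Tech CfsgLib.PComp Cfsg CfsgLib.A16
  CfsgLib.SylT

variable {G : Type*} [Group G] [Finite G] {J : TL →* G} {π : G → P16}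
variable {y : G} {l k : Bool}

theorem c2f_tyr (h : Hy J π) {t : TL} (h1 : t * t = 1) (h2 : t ≠ 1) : IsConj (J t) (J (tyr t)) :=
  let ⟨_, _, r⟩ := h.typ h1 h2
  r.isConj

theorem c2f_inv (h : Hy J π) {t : TL} (e : IsConj (J TL.z) (J t)) : t * t = 1 ∧ t ≠ 1 := by
  obtain ⟨g, hg⟩ := isConj_iff.1 e
  have r : W2.Rel J g TL.z t := hg
  exact ⟨(r.mul r).uniq h.inj W2.Rel.one TL.zz, fun e1 => TL.z_ne (r.uniq' h.inj W2.Rel.one e1)⟩

theorem C2.nt0 (h : Hy J π) (c : C2 J y l k) : ¬ IsConj (J TL.z) (J TL.t0) := fun e => by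
  have : Fact (Nat.Prime 2) := ⟨Nat.prime_two⟩
  obtain ⟨g, hg⟩ := isConj_iff.1 e.symm
  have hz : alg l TL.z = TL.z := by cases l <;> decide +kernel
  have h1 : T1 J y ≤ Cx (J TL.z) := sup_le (by
      rintro _ ⟨t, rfl⟩
      exact mem_Cx.2 (by rw [← map_mul, ← map_mul, TL.zc]))
    (zpowers_le.2 (mem_Cx.2 ((c.rel TL.z).of_eq rfl hz).comm))
  obtain ⟨m, hm, h2⟩ := ((c.syl h).of_le h1 le_top).exists_cj_le
    (isPGroup_cj g ((TL.two.to_subgroup (Cx TL.t0)).map J)) (cj_le_iff.2 (by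
      rintro _ ⟨t, ht, rfl⟩
      refine mem_Cx.2 ?_
      rw [← hg]
      calc _ = g * J (t * TL.t0) * g⁻¹ := by rw [map_mul]; group
        _ = _ := by rw [mem_Cx.1 ht, map_mul]; group))
  rw [← cj_mul] at h2
  have r0 : W2.Rel J (m * g) TL.t0 TL.z := (W2.Rel.of_comm (mem_Cx.1 hm)).comp hg
  have h3 : ∀ X : Subgroup TL, X ≤ Cx TL.t0 → (∀ x ∈ X, x * x = 1) → Nat.card X = 64 →
      cj (m * g) (X.map J) = TL.A.map J ∨ cj (m * g) (X.map J) = TL.B.map J := fun X h4 h5 h6 =>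
    c.e64 h ((cj_mono _ (map_mono h4)).trans h2) (by
      rintro _ ⟨_, ⟨x, hx, rfl⟩, rfl⟩
      rw [← map_mul, ← map_mul, h5 x hx, map_one, map_one])
      (by rw [card_cj, card_map_of_injective h.inj, h6])
  have h4 : cj (m * g) (TL.A.map J) ≠ cj (m * g) (TL.B.map J) := fun e2 =>
    absurd (show TL.InB TL.x23 from (map_injective h.inj (cj_injective _ e2)).le
      (show TL.InA TL.x23 by decide +kernel)) (by decide +kernel)
  have h5 : ∀ {X Y : Subgroup TL}, cj (m * g) (X.map J) = Y.map J → ∀ t ∈ Y, ∃ a ∈ X,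
      W2.Rel J (m * g) a t := fun e t ht => by
    obtain ⟨_, ⟨a, ha, rfl⟩, e1⟩ := e.ge (mem_map_of_mem J ht)
    exact ⟨a, ha, e1⟩
  have fin : ∀ a, TL.AB a → ∀ b, TL.AB b → W2.Rel J (m * g) a TL.x13 → W2.Rel J (m * g) b TL.x35 →
      False := fun a ha b hb r1 r2 =>
    (TL.sq_ne a ha b hb).1 (((r1.mul r2).mul (r1.mul r2)).uniq' h.inj r0 (by decide +kernel))
  have i1 : TL.x13 ∈ TL.A := show TL.InA TL.x13 by decide +kernel
  have i2 : TL.x35 ∈ TL.B := show TL.InB TL.x35 by decide +kernel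
  rcases h3 TL.A (fun x hx => mem_Cx.2 (TL.A_comm x hx _ (by decide +kernel))) TL.A_sq TL.card_A
    with a | a <;>
  rcases h3 TL.B (fun x hx => mem_Cx.2 (TL.B_comm x hx _ (by decide +kernel))) TL.B_sq TL.card_B
    with b | b
  · exact h4 (a.trans b.symm)
  · obtain ⟨s, hs, r1⟩ := h5 a _ i1
    obtain ⟨t, ht, r2⟩ := h5 b _ i2
    exact fin s (.inl hs) t (.inr ht) r1 r2
  · obtain ⟨s, hs, r1⟩ := h5 b _ i1
    obtain ⟨t, ht, r2⟩ := h5 a _ i2
    exact fin s (.inr hs) t (.inl ht) r1 r2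
  · exact h4 (a.trans b.symm)

theorem c2f_alg (h : Hy J π) (c : C2 J y l k) {t : TL} (h1 : t * t = 1) (h2 : t ≠ 1)
    (h3 : alg l t * alg l t = 1) (h4 : alg l t ≠ 1) : IsConj (J (tyr t)) (J (tyr (alg l t))) :=
  (c2f_tyr h h1 h2).symm.trans ((c.rel t).isConj.trans (c2f_tyr h h3 h4))

theorem C2.l_eq (h : Hy J π) (c : C2 J y l k) : l = false := by
  cases l
  · rfl
  have h1 := c2f_alg h c (t := TL.x25) (by decide +kernel) (by decide +kernel) (by decide +kernel)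
    (by decide +kernel)
  have h2 := c2f_alg h c (t := TL.x23) (by decide +kernel) (by decide +kernel) (by decide +kernel)
    (by decide +kernel)
  have e : tyr TL.x25 = TL.z ∧ tyr (alg true TL.x25) = tyr TL.x23 ∧ tyr (alg true TL.x23) = TL.t0 := by
    decide +kernel
  rw [e.1, e.2.1] at h1
  rw [e.2.2] at h2
  exact absurd (h1.trans h2) (c.nt0 h)

theorem C2.zcl (h : Hy J π) (c : C2 J y l k) {t : TL} (e : IsConj (J TL.z) (J t)) :
    tyr t = TL.z ∨ tyr t = TL.x14 := by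
  obtain ⟨h1, h2⟩ := c2f_inv h e
  have e1 := e.trans (c2f_tyr h h1 h2)
  rcases tyr_cases t h1 h2 with a | a | a | a
  · exact .inl a
  · exact .inr a
  · exact absurd (a ▸ e1) (c.nt0 h)
  · obtain rfl := c.l_eq h
    have h3 := c2f_alg h c (t := TL.x13 * TL.x24) (by decide +kernel) (by decide +kernel)
      (by decide +kernel) (by decide +kernel)
    have e2 : tyr (TL.x13 * TL.x24) = TL.x13 * TL.x24 ∧ tyr (alg false (TL.x13 * TL.x24)) = TL.t0 := by
      decide +kernel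
    rw [e2.1, e2.2] at h3
    exact absurd ((a ▸ e1).trans h3) (c.nt0 h)

theorem C2.nQ (h : Hy J π) (c : C2 J y l k) {g : G} (hg : g ∈ normalizer (TL.Q.map J : Set G)) :
    g ∈ NA J ∨ y * g ∈ NA J := by
  have k1 : ∀ t : TL, TL.In 698 t → TL.In 560 t ∧ t * t = 1 ∧ tyr t = TL.z := by decide +kernel
  have k2 : ∀ t : TL, TL.In 560 t → t * t = 1 → tyr t = TL.z ∨ tyr t = TL.x14 →
      TL.In 698 t ∨ TL.In 884 t := by decide +kernel
  have h1 : ∀ x ∈ cj g (AT.map J), x ∈ AT.map J ∨ x ∈ AP.map J := by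
    rintro _ ⟨_, ⟨t, ht, rfl⟩, rfl⟩
    obtain ⟨a, b, d⟩ := k1 t ht
    obtain ⟨s, hs, e⟩ := conj_mem_of_mem_normalizer hg (mem_map_of_mem J (show t ∈ TL.Q from a))
    change g * J t * g⁻¹ ∈ _ ∨ g * J t * g⁻¹ ∈ _
    by_cases t1 : t = 1
    · exact .inl (by rw [t1, map_one, mul_one, mul_inv_cancel]; exact one_mem _)
    have e1 : IsConj (J TL.z) (J s) :=
      (d ▸ c2f_tyr h b t1).symm.trans (W2.Rel.isConj (y := g) e.symm)
    rw [← e]
    exact (k2 s hs (c2f_inv h e1).1 (c.zcl h e1)).imp (mem_map_of_mem J) (mem_map_of_mem J)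
  by_cases h2 : cj g (AT.map J) ≤ AT.map J
  · exact .inl (mem_normalizer_of_cj_le h2)
  obtain ⟨a, ha, na⟩ := SetLike.not_le_iff_exists.1 h2
  have h3 : cj g (AT.map J) ≤ AP.map J := fun x hx => by
    have a' := (h1 a ha).resolve_left na
    rcases h1 x hx with b | b
    · rcases h1 _ (mul_mem ha hx) with d | d
      · exact absurd ((mul_mem_cancel_right b).1 d) na
      · exact (mul_mem_cancel_left a').1 d
    · exact b
  exact .inr (mem_normalizer_of_cj_le (by rw [cj_mul]; exact (cj_mono y h3).trans c.swap.2.le))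

end CfsgLib.Har
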