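import Cfsg.Agent.Lib.Har.Defs3
import Cfsg.Agent.Lib.A16.SC
import Cfsg.Agent.Lib.A16.Fin1

/-!
Project HAR (S1918, plans/HAR.md). The subgroup `2⁶` of `TZ` is strongly closed (package C2K).
-/

set_option autoImplicit false
set_option Elab.async false
set_option linter.unusedSectionVars false
set_option synthInstance.maxSize 100000
set_option maxRecDepth 100000

namespace CfsgLib.Har

open Subgroup Equiv Function CfsgLib.W2 CfsgLib.W2.TG CfsgLib.Tech CfsgLib.PComp Cfsg CfsgLib.A16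
  CfsgLib.SylT

namespace C2k

theorem okW : TOk 64 Nat.xor id := L5.okA.tok (by decide +kernel)

theorem okD : TOk 16 mD (tab1 4 15 0xfebadc9867543210) :=
  (SOk.of_light (n := 16) (gs := [2, 8]) (D := 5) (by decide +kernel)).tok (by decide +kernel)

abbrev EW : Type := TG okW
abbrev TD : Type := TG okD

noncomputable section

instance : CommGroup EW := { (inferInstance : Group EW) with mul_comm := fun _ _ => ext' (Nat.xor_comm _ _) }

theorem sqW (a : EW) : a * a = 1 := ext' (Nat.xor_self _)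

theorem gW : genB ([o 1, o 2, o 4, o 8, o 16, o 32] : List EW) 1 = true := by decide +kernel

theorem gZ : genB ([o 1, o 2, o 4, o 8, o 16, o 32, o 128, o 512] : List TZ) 4 = true := by decide +kernel

def ep : EW →* TZ := homOf gW (fun y => o y.v) (by decide +kernel) (by decide +kernel)

def pr : TZ →* TD := homOf gZ (fun x => o (Nat.div x.v 64)) (by decide +kernel) (by decide +kernel)

def sc (s : TD) : TZ := o (Nat.mul 64 s.v)

def df (s : TD) (y : EW) : EW := o (Nat.xor (aZ s.v y.v) y.v)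

theorem df_ok : ∀ s, df s 1 = 1 ∧ ∀ g ∈ ([o 1, o 2, o 4, o 8, o 16, o 32] : List EW), ∀ a,
    df s (a * g) = df s a * df s g := by decide +kernel

def dl (s : TD) : EW →* EW := homOf gW (df s) (df_ok s).1 (df_ok s).2

end

theorem ep_inj : Injective ep := (injective_iff_map_eq_one _).2 (by decide +kernel)

theorem dec : ∀ w : TZ, ep (o (Nat.mod w.v 64)) * sc (pr w) = w ∧ (w.v < 64 ↔ pr w = 1) := by decide +kernel

theorem cj_sc : ∀ s y, sc s * ep y * (sc s)⁻¹ = ep (dl s y * y) := by decide +kernel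

theorem mem_W {w : TZ} : w ∈ WZ ↔ pr w = 1 := (dec w).2

theorem range_ep : ep.range = WZ := by
  ext w
  rw [mem_W]
  refine ⟨?_, fun h => ⟨o (Nat.mod w.v 64), ?_⟩⟩
  · rintro ⟨y, rfl⟩
    revert y
    decide +kernel
  · have := (dec w).1
    rwa [h, show sc 1 = 1 from by decide +kernel, mul_one] at this

theorem ker_pr : pr.ker = WZ := by
  ext w
  rw [mem_W, MonoidHom.mem_ker]

instance : WZ.Normal := ker_pr ▸ inferInstance

theorem sq_W {x : TZ} (h : x ∈ WZ) : x * x = 1 := by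
  obtain ⟨y, rfl⟩ := range_ep.ge h
  rw [← map_mul, sqW, map_one]

theorem card_W : Nat.card WZ = 64 := by
  rw [← range_ep, ← Nat.card_congr (MonoidHom.ofInjective ep_inj).toEquiv, card_eq]

theorem key (w : TZ) (y : EW) : w * ep y * w⁻¹ * ep y = ep (dl (pr w) y) := by
  obtain ⟨q, e⟩ : ∃ q, ep q * sc (pr w) = w := ⟨_, (dec w).1⟩
  generalize pr w = s at e
  subst e
  calc _ = ep q * (sc s * ep y * (sc s)⁻¹) * (ep q)⁻¹ * ep y := by group
    _ = _ := by
      rw [cj_sc, ← map_inv, ← map_mul, ← map_mul, ← map_mul, mul_comm q, mul_inv_cancel_right, mul_assoc, sqW,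
        mul_one]

theorem card_F (F : Subgroup TZ) : Nat.card F = Nat.card (F.comap ep) * Nat.card (F.map pr) := by
  rw [← (pr.domRestrict F).ker.card_mul_index, index_ker, MonoidHom.domRestrict_range,
    ← card_map_of_injective (K := F.comap ep) ep_inj, map_comap_eq, range_ep, ← ker_pr, MonoidHom.ker_domRestrict,
    ← card_map_of_injective F.subtype_injective, subgroupOf_map_subtype]

theorem card_le_cnt (S : Subgroup TD) (P : TD → Prop) [DecidablePred P] (h : ∀ x ∈ S, P x) :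
    Nat.card S ≤ cnt P := by
  rw [← card_subtype]
  exact Nat.card_le_card_of_injective (fun x => ⟨x.1, h _ x.2⟩) fun x y e => Subtype.ext (congrArg (·.1) e)

theorem fA : ∀ s : TD, s * s = 1 → s ≠ 1 → cnt (fun r => r = 1 ∨ r = s) = 2 ∧ cnt (fun y => dl s y = 1) ≤ 16 ∧
    cnt (fun y => dl s (dl s y) = 1) = 64 := by decide +kernel

theorem fB : ∀ s : TD, s * s = 1 → s ≠ 1 → s ≠ o 1 → cnt (fun r => r * s = s * r) = 4 ∧
    cnt (fun y => dl s y = 1 ∧ dl (o 1) y = 1) ≤ 8 ∧ 4 * cnt (fun y => dl s y = 1 ∧ dl (o 1) y = 1) <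
      cnt (fun y => dl s (dl s y) = 1 ∧ dl (o 1) (dl s y) = 1) := by decide +kernel

theorem fC : ∀ s : TD, s * s = 1 → s ≠ 1 → ∀ t : TD, t * t = 1 → t ≠ 1 → t ≠ s → s * t = t * s →
    t = o 1 ∨ s = o 1 ∨ s * t = o 1 := by decide +kernel

theorem fD : ∀ r : TD, r ≠ 1 → r = o 1 ∨ r * r = o 1 ∨ r * r * (r * r) = o 1 ∨ ∃ g, g * r * g⁻¹ * r⁻¹ = o 1 := by
  decide +kernel

theorem fE : pr (o 64) = o 1 ∧ (o 64 : TZ) * o 64 = 1 ∧ (o 1 : TD) ≠ 1 := by decide +kernel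

theorem pr_sc : ∀ g, pr (sc g) = g := by decide +kernel

theorem gA {s : TD} (h1 : s * s = 1) (h2 : s ≠ 1) : 2 * Nat.card (dl s).ker ≤ 32 ∧
    2 * Nat.card (dl s).ker < Nat.card ((dl s).ker.comap (dl s)) := by
  obtain ⟨-, b2, b3⟩ := fA s h1 h2
  rw [card_subgroup (dl s).ker (fun y => dl s y = 1) fun _ => MonoidHom.mem_ker,
    card_subgroup ((dl s).ker.comap (dl s)) (fun y => dl s (dl s y) = 1)
      fun _ => mem_comap.trans MonoidHom.mem_ker, b3]
  omega

theorem gB {s : TD} (h1 : s * s = 1) (h2 : s ≠ 1) (h3 : s ≠ o 1) :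
    4 * Nat.card ((dl s).ker ⊓ (dl (o 1)).ker : Subgroup EW) ≤ 32 ∧
    4 * Nat.card ((dl s).ker ⊓ (dl (o 1)).ker : Subgroup EW) <
      Nat.card (((dl s).ker ⊓ (dl (o 1)).ker).comap (dl s)) := by
  obtain ⟨-, b2, b3⟩ := fB s h1 h2 h3
  rw [card_subgroup ((dl s).ker ⊓ (dl (o 1)).ker) (fun y => dl s y = 1 ∧ dl (o 1) y = 1)
      fun _ => mem_inf.trans (and_congr MonoidHom.mem_ker MonoidHom.mem_ker),
    card_subgroup (((dl s).ker ⊓ (dl (o 1)).ker).comap (dl s))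
      (fun y => dl s (dl s y) = 1 ∧ dl (o 1) (dl s y) = 1)
      fun _ => mem_comap.trans (mem_inf.trans (and_congr MonoidHom.mem_ker MonoidHom.mem_ker))]
  omega

attribute [irreducible] ep pr dl

/-- the conclusion of `c2k` -/
def Gl (F : Subgroup TZ) : Prop := Nat.card F ≤ 32 ∧
  ∃ w ∈ F, w ∉ WZ ∧ ∀ K : Subgroup TZ, (∀ y ∈ WZ, w * y * w⁻¹ * y ∈ F → y ∈ K) → Nat.card F < Nat.card K

variable {F : Subgroup TZ}

theorem sq_pr (hF : ∀ x ∈ F, x * x = 1) {w : TZ} (hw : w ∈ F) : pr w * pr w = 1 := by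
  rw [← map_mul, hF w hw, map_one]

theorem le_ker (hF : ∀ x ∈ F, x * x = 1) {w : TZ} (hw : w ∈ F) : F.comap ep ≤ (dl (pr w)).ker := fun y hy => by
  rw [MonoidHom.mem_ker]
  apply ep_inj
  rw [← key, comm_sq hF hw (mem_comap.1 hy), mul_inv_cancel_right, ← map_mul, sqW]

theorem fin {w : TZ} (hw : w ∈ F) (w1 : pr w ≠ 1) {C : Subgroup EW} (hC : F.comap ep ≤ C) {n : ℕ}
    (n1 : Nat.card (F.map pr) ≤ n) (n2 : n * Nat.card C ≤ 32)
    (n3 : n * Nat.card C < Nat.card (C.comap (dl (pr w)))) : Gl F := by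
  have e1 : Nat.card F ≤ Nat.card (F.comap ep) * n := by
    rw [C2k.card_F]
    exact Nat.mul_le_mul_left _ n1
  refine ⟨e1.trans (le_trans ?_ n2), w, hw, fun h => w1 (mem_W.1 h), fun K hK => ?_⟩
  · rw [mul_comm]
    exact Nat.mul_le_mul_left _ (card_le_of_le hC)
  · have e2 := card_comap_le (dl (pr w)) hC
    have e3 : Nat.card ((F.comap ep).comap (dl (pr w))) ≤ Nat.card K := by
      rw [← card_map_of_injective ep_inj]
      refine card_le_of_le ?_
      rintro _ ⟨y, hy, rfl⟩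
      exact hK _ (range_ep.le ⟨y, rfl⟩) (by rw [key]; exact mem_comap.1 (mem_comap.1 hy))
    have e4 : 0 < Nat.card (F.comap ep) := Nat.card_pos
    refine (e1.trans_lt (Nat.lt_of_mul_lt_mul_right (a := Nat.card C) ?_)).trans_le e3
    refine lt_of_lt_of_le ?_ e2
    rw [mul_assoc, mul_comm]
    exact Nat.mul_lt_mul_of_pos_right n3 e4

theorem finB (hF : ∀ x ∈ F, x * x = 1) {w : TZ} (hw : w ∈ F) (w1 : pr w ≠ 1) (w2 : pr w ≠ o 1) {w' : TZ}
    (hw' : w' ∈ F) (w3 : pr w' = o 1) : Gl F := by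
  obtain ⟨b2, b3⟩ := gB (sq_pr hF hw) w1 w2
  have k := le_ker hF hw'
  rw [w3] at k
  refine fin hw w1 (le_inf (le_ker hF hw) k) ((card_le_cnt _ _ ?_).trans_eq (fB _ (sq_pr hF hw) w1 w2).1) b2 b3
  rintro _ ⟨x, hx, rfl⟩
  rw [← map_mul, ← map_mul, comm_sq hF hx hw]

end C2k

open C2k

/-- `I = F ⊓ WZ`, `F / I` is an elementary subgroup of `D₁₆`, of order 2 or 4; `I ≤ C = C_W(F)`. For
`w ∈ F ∖ W`, `δ y = w y w⁻¹ y` is an endomorphism of `W`, and `|δ⁻¹ C| |I| ≤ |δ⁻¹ I| |C|`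
(`A16.card_comap_le`). Involutions of `D₁₆` inside `D₈` have `|C_W(w)| = 16`, `|[W,w]| = 4`; outer
ones `8, 8`. `|F/I| = 2`: `|δ⁻¹ C| = 64`, `|C| ≤ 16`. `|F/I| = 4`: `F W ∋ x24` and `w` with `wW`
noncentral; `|C| ≤ 8` and `|δ⁻¹ C| = 64` (inner), `|C| = 4`, `|δ⁻¹ C| = 32` (outer). So
`|δ⁻¹ I| > |F|`, and `|F| ≤ 32`. -/
theorem c2k {F : Subgroup TZ} (hF : ∀ x ∈ F, x * x = 1) (hn : ¬ F ≤ WZ) : Nat.card F ≤ 32 ∧
    ∃ w ∈ F, w ∉ WZ ∧ ∀ K : Subgroup TZ, (∀ y ∈ WZ, w * y * w⁻¹ * y ∈ F → y ∈ K) →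
      Nat.card F < Nat.card K := by
  obtain ⟨w0, h0, h1⟩ := SetLike.not_le_iff_exists.1 hn
  rw [mem_W] at h1
  change Gl F
  by_cases hA : ∀ w ∈ F, C2k.pr w = 1 ∨ C2k.pr w = C2k.pr w0
  · obtain ⟨b2, b3⟩ := gA (sq_pr hF h0) h1
    refine fin h0 h1 (le_ker hF h0) ((card_le_cnt _ _ ?_).trans_eq (fA _ (sq_pr hF h0) h1).1) b2 b3
    rintro _ ⟨x, hx, rfl⟩
    exact hA x hx
  · push Not at hA
    obtain ⟨w, hw, w1, w2⟩ := hA
    rcases fC _ (sq_pr hF h0) h1 _ (sq_pr hF hw) w1 w2 (by rw [← map_mul, ← map_mul, comm_sq hF h0 hw]) with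
      e | e | e
    · exact finB hF h0 h1 (fun e' => w2 (e.trans e'.symm)) hw e
    · exact finB hF hw w1 (fun e' => w2 (e'.trans e.symm)) h0 e
    · refine finB hF h0 h1 (fun e' => w1 ?_) (mul_mem h0 hw) (by rw [map_mul, e])
      rw [← e'] at e
      exact mul_eq_left.1 e

variable {H : Type*} [Group H] [Finite H] {j : TZ →* H}

/-- Weak closure by `|F| ≤ 32 < 64`; then copy `A16.Sy.scE` (`WC.exists_F` and `c2k`). -/
theorem scZ (hj : Injective j) (hs : IsSylowIn 2 j.range ⊤) :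
    IsStronglyClosed (WZ.map j) j.range := by
  have sq : ∀ g, ∀ x ∈ cj g (WZ.map j), x * x = 1 := by
    rintro g _ ⟨_, ⟨y, hy, rfl⟩, rfl⟩
    rw [← map_mul, ← map_mul, sq_W hy, map_one, map_one]
  have pull : ∀ P ≤ j.range, (∀ x ∈ P, x * x = 1) → ∃ F : Subgroup TZ, F.map j = P ∧ Nat.card F = Nat.card P ∧
      ∀ x ∈ F, x * x = 1 := fun P hP h2 => by
    have e : (P.comap j).map j = P := map_comap_eq_self hP
    exact ⟨P.comap j, e, by rw [← card_map_of_injective hj, e],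
      fun x hx => hj (by rw [map_mul, h2 _ hx, map_one])⟩
  have cW : Nat.card (WZ.map j) = 64 := by rw [card_map_of_injective hj, card_W]
  have wc : WC (WZ.map j) j.range := fun g hg => by
    obtain ⟨F, f0, f1, f2⟩ := pull _ hg (sq g)
    rw [card_cj, cW] at f1
    have f3 : F ≤ WZ := by_contra fun h => by have := (c2k f2 h).1; omega
    rw [mem_normalizer_iff_cj, ← f0, eq_of_le_of_card_ge f3 (by rw [f1, card_W])]
  have h1 : j.range ≤ normalizer (WZ.map j : Set H) := by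
    rintro _ ⟨t, rfl⟩
    refine mem_normalizer_of_forall ?_
    rintro _ ⟨y, hy, rfl⟩
    exact ⟨_, Normal.conj_mem inferInstance y hy t, by simp⟩
  refine ⟨map_le_range _ _, fun x hx g hg => by_contra fun k => ?_⟩
  obtain ⟨P, p1, ⟨c, p2⟩, p3, p4⟩ := wc.exists_F hs h1 sq
    ⟨(_, _), ⟨g, rfl⟩, ⟨1, (cj_one _).symm⟩, _, conj_mem_cj.2 hx, h1 hg, k⟩
  obtain ⟨F, rfl, f1, f2⟩ := pull P p1 fun x hx => sq c x (p2 hx)
  obtain ⟨-, w, hw, w1, w2⟩ := c2k f2 fun h => p3 (map_mono h)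
  obtain ⟨K, k1, k2⟩ := p4 _ (mem_map_of_mem j hw) (by rwa [mem_map_iff_mem hj])
  have e1 := w2 (K.comap j) fun y hy e => k2 _ (mem_map_of_mem j hy) ⟨_, e, by simp⟩
  have e2 : Nat.card (K.comap j) ≤ Nat.card K := by
    rw [← card_map_of_injective hj]
    exact card_le_of_le (map_comap_le _ _)
  omega

/-- `range j ⊓ L` is Sylow in `L = ⟨W^H⟩`; if it is not `W`, its image in `TZ / WZ = D₁₆` is a
nontrivial normal subgroup, so contains the image of `zq x24 = o 64`, an involution outside `WZ`;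
this contradicts `A16.mem_of_sc`. -/
theorem sylW (hj : Injective j) (hs : IsSylowIn 2 j.range ⊤) (hO : pPrimeCore 2 H = ⊥) :
    IsSylowIn 2 (WZ.map j) (normalClosure (WZ.map j : Set H)) := by
  have h1 := hs.inf_of_le_normalizer (N := normalClosure (WZ.map j : Set H)) (by
    rw [normalizer_eq_top])
  rw [top_inf_eq] at h1
  have hW : WZ ≤ (normalClosure (WZ.map j : Set H)).comap j := fun x hx =>
    subset_normalClosure (mem_map_of_mem j hx)
  suffices j.range ⊓ normalClosure (WZ.map j : Set H) = WZ.map j by rwa [this] at h1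
  refine le_antisymm ?_ (le_inf (map_le_range _ _) le_normalClosure)
  rintro _ ⟨⟨x, rfl⟩, hx⟩
  refine mem_map_of_mem j (mem_W.2 (by_contra fun e => ?_))
  set N := (normalClosure (WZ.map j : Set H)).comap j
  have hN : N.Normal := inferInstance
  have hx' : x ∈ N := hx
  have : ∃ y ∈ N, C2k.pr y = o 1 := by
    rcases fD _ e with e | e | e | ⟨g, e⟩
    · exact ⟨x, hx', e⟩
    · exact ⟨_, mul_mem hx' hx', by rw [map_mul, e]⟩
    · exact ⟨_, mul_mem (mul_mem hx' hx') (mul_mem hx' hx'), by rw [map_mul, map_mul, e]⟩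
    · refine ⟨_, mul_mem (hN.conj_mem x hx' (C2k.sc g)) (inv_mem hx'), ?_⟩
      rw [map_mul, map_mul, map_mul, map_inv, map_inv, C2k.pr_sc, e]
  obtain ⟨y, y1, y2⟩ := this
  have y3 : o 64 ∈ N := by
    have := mul_mem y1 (hW (mem_W.2 (show C2k.pr (y⁻¹ * o 64) = 1 by
      rw [map_mul, map_inv, y2, fE.1, inv_mul_cancel])))
    rwa [mul_inv_cancel_left] at this
  have := mem_of_sc hs hO (by
    rintro _ ⟨a, ha, rfl⟩ _ ⟨b, hb, rfl⟩
    rw [← map_mul, ← map_mul, comm_sq (fun x hx => sq_W hx) ha hb]) (scZ hj hs) (y := j (o 64)) ⟨_, rfl⟩ y3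
    (by rw [← map_mul, fE.2.1, map_one])
  rw [mem_map_iff_mem hj, mem_W, fE.1] at this
  exact fE.2.2 this

end CfsgLib.Har
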