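import Cfsg.Agent.Lib.Har.C2f
import Cfsg.Agent.Lib.Har.C2k
import Cfsg.Agent.Lib.A16.AEc

/-!
Project HAR (S1918, plans/HAR.md). Case `A ∼ A'`: a normal subgroup of `C(z)` (package C2H).
-/

set_option autoImplicit false
set_option Elab.async false
set_option linter.unusedSectionVars false
set_option synthInstance.maxSize 100000
set_option maxRecDepth 100000

namespace CfsgLib.Har

open Subgroup Equiv Function CfsgLib.W2 CfsgLib.W2.TG CfsgLib.Tech CfsgLib.PComp Cfsg CfsgLib.A16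
  CfsgLib.SylT

variable {G : Type*} [Group G] [Finite G] {J : TL →* G} {π : G → P16}
variable {y : G} {l k : Bool}

namespace C2H

section general

variable {X Y : Type*} [Group X] [Group Y]

theorem le_of_two [Finite X] {T K C H : Subgroup X} (hT : IsSylowIn 2 T K) (h1 : T ≤ H) (h2 : K ≤ C)
    (h3 : H.relIndex C = 2) : K ≤ H := by
  have a := relIndex_le_of_le_right (H := H) h2 (by omega)
  have b : H.relIndex K ≠ 0 := index_ne_zero_of_finite
  have d : H.relIndex K ≠ 2 := fun e => hT.not_dvd (e ▸ relIndex_dvd_of_le_left K h1)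
  exact relIndex_eq_one.1 (by omega)

theorem syl_comap [Finite X] (q : X →* Y) {W : Subgroup X} {L : Subgroup Y} (hW : IsPGroup 2 W)
    (hk : ∀ x, q x = 1 → (∃ n, x ^ 2 ^ n = 1) → x ∈ W) (h : IsSylowIn 2 (W.map q) L) :
    IsSylowIn 2 W (L.comap q) := by
  refine isSylowIn_of_maximal hW (map_le_iff_le_comap.1 h.le) fun R hR h1 h2 r hr => ?_
  have e := h.eq_of_le (hR.map q) (map_mono h1) (map_le_iff_le_comap.2 h2)
  obtain ⟨w, hw, ew⟩ : q r ∈ W.map q := e ▸ mem_map_of_mem q hr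
  have m : w⁻¹ * r ∈ R := mul_mem (inv_mem (h1 hw)) hr
  obtain ⟨n, hn⟩ := hR ⟨_, m⟩
  have := hk (w⁻¹ * r) (by rw [map_mul, map_inv, ew, inv_mul_cancel]) ⟨n, congrArg Subtype.val hn⟩
  exact (mul_mem_cancel_left (inv_mem hw)).1 this

theorem exists_M [Finite X] {L W T K : Subgroup X} [L.Normal] {u : X} (hW : IsSylowIn 2 W L)
    (hT : IsSylowIn 2 T K) (h1 : W ≤ T) (h2 : T ≤ normalizer (W : Set X))
    (hu : u ∈ normalizer (W : Set X)) (hn : u ∉ K)
    (hN : ∀ g ∈ normalizer (W : Set X), g ∈ K ∨ u * g ∈ K) :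
    ∃ M : Subgroup X, M.Normal ∧ K ≤ M ∧ u ∉ M := by
  have hC : normalizer (W : Set X) ⊔ L = ⊤ := eq_top_iff.2 fun g _ => by
    obtain ⟨n, hn, e⟩ := hW.frattini' (g := g) (le_normalizer_of_normal (mem_top g))
    exact (mul_mem_cancel_right (mem_sup_right hn)).1 (mem_sup_left e)
  have hi : (K ⊓ normalizer (W : Set X)).relIndex (normalizer (W : Set X)) = 2 :=
    relIndex_eq_two_iff_exists_notMem_and'.2 ⟨u, hu, fun e => hn e.1, fun b hb =>
      (hN b hb).elim (fun e => Or.inr ⟨e, hb⟩) fun e => Or.inl ⟨e, mul_mem hu hb⟩⟩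
  have h3 : L ⊓ normalizer (W : Set X) ≤ K ⊓ normalizer (W : Set X) :=
    le_of_two (hW.of_le (le_inf hW.le le_normalizer) inf_le_left)
      (le_inf (h1.trans hT.le) le_normalizer) inf_le_right hi
  have h4 := idx2_sup hC inf_le_right hi h3
  refine ⟨_, normal_of_index_eq_two h4, le_of_two hT ((le_inf hT.le h2).trans le_sup_left) le_top
    (by rw [relIndex_top_right]; exact h4), fun e => ?_⟩
  have : K ⊓ normalizer (W : Set X) ⊔ L = ⊤ := eq_top_iff.2 (hC.ge.trans (sup_le (fun b hb =>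
    (hN b hb).elim (fun e' => mem_sup_left ⟨e', hb⟩) fun e' =>
      (mul_mem_cancel_left e).1 (mem_sup_left ⟨e', mul_mem hu hb⟩)) le_sup_right))
  rw [this, index_top] at h4
  omega

theorem zp2 {a : X} {b : Y} (ha : a * a = 1) (hb : b * b = 1) (m : ℤ) :
    (a ^ m = 1 ∧ b ^ m = 1) ∨ (a ^ m = a ∧ b ^ m = b) := by
  have a2 : a ^ (2 : ℤ) = 1 := by rw [zpow_two, ha]
  have b2 : b ^ (2 : ℤ) = 1 := by rw [zpow_two, hb]
  obtain ⟨n, rfl | rfl⟩ := Int.even_or_odd' m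
  · left; simp only [zpow_mul, a2, b2, one_zpow, and_self]
  · right; simp only [zpow_add, zpow_mul, a2, b2, one_zpow, zpow_one, one_mul, and_self]

/-- a section of `zq` -/
noncomputable def sc (x : TZ) : TL := o (tab1 10 1023 0xfd3f6fc3f2ff3fefe3faec3b2ed3b6ee3baef3bedfb7cdeb78ddb74dcb70ceb38cfb3cccb30cdb34bc2f2bd2f6be2fabf2fead2b6ac2b2af2beae2ba9ea789fa7c9ca709da748fa3c8ea388da348ca30f8be0f9be4fabe8fbbece9ba4e8ba0ebbaceaba8dab68dbb6cd8b60d9b64cbb2ccab28c9b24c8b20b8ae0b9ae4baae8bbaeca9aa4a8aa0abaacaaaa89aa689ba6c98a6099a648ba2c8aa2889a2488a20f63daf73def43d2f53d6e639ae739ee4392e5396d6b58d7b5cd4b50d5b54c6b18c7b1cc4b10c5b14b72deb62dab52d6b42d2a729ea629aa5296a429297a5c96a5895a5494a5087a1c86a1885a1484a10f3bccf2bc8f1bc4f0bc0e3b8ce2b88e1b84e0b80d3b4cd2b48d1b44d0b40c3b0cc2b08c1b04c0b00b3accb2ac8b1ac4b0ac0a3a8ca2a88a1a84a0a8093a4c92a4891a4490a4083a0c82a0881a0480a007d1f67c1f27f1fe7e1fa6c1b26d1b66e1ba6f1be5f97c5e9785d9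745c9704e9384f93c4c9304d9343c0f23d0f63e0fa3f0fe2d0b62c0b22f0be2e0ba1e8781f87c1c8701d8740f83c0e8380d8340c830789e0799e47a9e87b9ec699a4689a06b9ac6a9a85a9685b96c58960599644b92c4a9284992448920388e0398e43a8e83b8ec298a4288a02b8ac2a8a81a8681b86c18860198640b82c0a8280982408820761da771de741d2751d66619a6719e6419265196569585795c5495055954469184791c4491045914370de360da350d6340d22709e2609a25096240921785c1685815854148500781c068180581404810739cc729c8719c4709c06398c6298861984609805394c5294851944509404390c429084190440900338cc328c8318c4308c02388c2288821884208801384c1284811844108400380c028080180400800 x.v)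

theorem sc_spec : ∀ x : TZ, x.v < 512 → zq (sc x) = x := by decide +kernel

theorem tz_cases (x : TZ) : ∃ t, x = zq t ∨ x = zq t * yz := by
  rcases zq_spec.2.2 x with h | h
  · exact ⟨_, Or.inl (sc_spec x h).symm⟩
  · exact ⟨_, Or.inr (by rw [sc_spec _ h, mul_assoc, zq_spec.1, mul_one])⟩

theorem zq_alg (l : Bool) (t : TL) : zq (alg l t) = yz * zq t * yz⁻¹ := by
  rw [inv_eq_of_mul_eq_one_right zq_spec.1, (zq_spec.2.1 t).1]
  cases l
  · rfl
  · exact (zq_spec.2.1 t).2.1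

theorem zq_ne (t : TL) : zq t ≠ yz := fun e => by
  have := (zq_spec.2.1 t).2.2.2.2
  rw [e] at this
  exact absurd this (by decide +kernel)

theorem exists_j [Finite X] {φ : TL →* X} {u : X} {l : Bool} (hk : ∀ t, φ t = 1 ↔ zq t = 1)
    (hr : ∀ t, u * φ t * u⁻¹ = φ (alg l t)) (hu : u * u = 1) (hn : u ∉ φ.range) :
    ∃ j : TZ →* X, Injective j ∧ (∀ t, j (zq t) = φ t) ∧ j yz = u := by
  have he : ∀ s t, zq s = zq t → φ s = φ t := fun s t e => by
    have := (hk (s⁻¹ * t)).2 (by rw [map_mul, map_inv, e, inv_mul_cancel])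
    rwa [map_mul, map_inv, inv_mul_eq_one] at this
  obtain ⟨j, e1, e2⟩ := amal zq (zpowersHom TZ yz) (fun s => by
      obtain ⟨t, e | e⟩ := tz_cases s
      · exact ⟨t, 1, by rw [map_one, mul_one, e]⟩
      · exact ⟨t, Multiplicative.ofAdd 1, by rw [e]; simp⟩) φ (zpowersHom X u)
    (fun n k e => by
      rw [zpowersHom_apply] at e ⊢
      rcases zp2 zq_spec.1 hu k.toAdd with ⟨a, b⟩ | ⟨a, b⟩
      · rw [b]; exact (hk n).2 (e.trans a)
      · exact absurd (e.trans a) (zq_ne n))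
    (fun k n => by
      rw [zpowersHom_apply]
      rcases zp2 zq_spec.1 hu k.toAdd with ⟨a, -⟩ | ⟨a, -⟩
      · exact ⟨n, by rw [a, one_mul, inv_one, mul_one]⟩
      · exact ⟨alg l n, by rw [a, zq_alg]⟩)
    (fun k n n' e => by
      rw [zpowersHom_apply] at e ⊢
      rcases zp2 zq_spec.1 hu k.toAdd with ⟨a, b⟩ | ⟨a, b⟩
      · rw [a, one_mul, inv_one, mul_one] at e
        rw [b, one_mul, inv_one, mul_one]; exact he _ _ e
      · rw [a, ← zq_alg l] at e
        rw [b, hr]; exact he _ _ e)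
  have f1 : ∀ t, j (zq t) = φ t := fun t => DFunLike.congr_fun e1 t
  have f2 : j yz = u := by simpa using DFunLike.congr_fun e2 (Multiplicative.ofAdd 1)
  refine ⟨j, (injective_iff_map_eq_one j).2 fun x hx => ?_, f1, f2⟩
  obtain ⟨t, rfl | rfl⟩ := tz_cases x
  · exact (hk t).1 ((f1 t).symm.trans hx)
  · rw [map_mul, f1, f2] at hx
    exact absurd ⟨t⁻¹, by rw [map_inv]; exact inv_eq_of_mul_eq_one_right hx⟩ hn

theorem twoZ : IsPGroup 2 TZ := IsPGroup.of_card (n := 10) card_eq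

theorem exists_L [Finite X] {j : TZ →* X} (hj : Injective j) (hs : IsSylowIn 2 j.range ⊤) :
    ∃ L : Subgroup X, L.Normal ∧ IsSylowIn 2 (WZ.map j) L := by
  have hk : ∀ x : X, QuotientGroup.mk' (pPrimeCore 2 X) x = 1 → (∃ n, x ^ 2 ^ n = 1) → x = 1 := by
    rintro x h1 ⟨n, hn⟩
    have h2 : x ∈ pPrimeCore 2 X := (QuotientGroup.eq_one_iff x).1 h1
    have h3 : (Nat.card (pPrimeCore 2 X)).Coprime (2 ^ n) :=
      (Core.coprime_card_pPrimeCore 2 X).pow_right n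
    exact orderOf_eq_one_iff.1 (Nat.eq_one_of_dvd_coprimes h3 (Subgroup.orderOf_dvd_natCard _ h2)
      (orderOf_dvd_of_pow_eq_one hn))
  have hj' : Injective ((QuotientGroup.mk' (pPrimeCore 2 X)).comp j) :=
    (injective_iff_map_eq_one _).2 fun x hx => by
      obtain ⟨n, hn⟩ := twoZ x
      exact hj ((hk (j x) hx ⟨n, by rw [← map_pow, hn, map_one]⟩).trans (map_one j).symm)
  have hs' := IsSylowIn.map' hs (QuotientGroup.mk' (pPrimeCore 2 X))
  rw [MonoidHom.map_range, MonoidHom.range_eq_top_of_surjective _ (QuotientGroup.mk'_surjective _)]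
    at hs'
  have := sylW hj' hs' (Core.pPrimeCore_quotient_pPrimeCore 2 X)
  rw [← map_map] at this
  exact ⟨_, inferInstance, syl_comap _ ((twoZ.to_subgroup WZ).map j)
    (fun x a b => hk x a b ▸ one_mem _) this⟩

end general

theorem tl_facts : (∀ t : TL, t * TL.z = TL.z * t) ∧ (∀ l, alg l TL.z = TL.z) ∧
    (∀ l t, TL.In 560 t → TL.In 560 (alg l t)) ∧ TL.In 560 TL.z ∧ TL.In 698 TL.x25 ∧
    ¬ TL.In 884 TL.x25 ∧ ∀ g ∈ [TL.x12, TL.x23, TL.x34, TL.x45], ∀ t, TL.In 560 t →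
      TL.In 560 (g * t * g⁻¹) := by decide +kernel

theorem QN (s : TL) : ∀ t, TL.In 560 t → TL.In 560 (s * t * s⁻¹) := by
  refine ind_of_genB TL.gen4 (P := fun s => ∀ t, TL.In 560 t → TL.In 560 (s * t * s⁻¹))
    (fun t ht => by rwa [one_mul, inv_one, mul_one]) (fun a ih g hg t ht => ?_) s
  have := ih _ (tl_facts.2.2.2.2.2.2 g hg t ht)
  rwa [show a * (g * t * g⁻¹) * a⁻¹ = a * g * t * (a * g)⁻¹ by group] at this

end C2H

open C2H in
/-- `H = C(z)`, `K₀ = ⟨z⟩ O(H)` normal in `H`, `f : H → H̃ = H / K₀`, `O(H̃) = 1` (the preimage is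
`⟨z⟩ × odd`, `cent_syl`). `j : TZ →* H̃` with `j (zq t) = f (J t)`, `j yz = f y` (`zq_spec`;
`amal` with `zq.range` and `zpowers yz`, or directly); `j` is injective with Sylow range (`syl`).
`W = j WZ = f (J Q)` is Sylow in `L = ⟨W^H̃⟩` (`sylW`), so `H̃ = L N(W)`; `N(W) = f N_H(J Q)`
(Frattini in `J Q · O(H)`). `N₁ = f (N(A) ⊓ N_H(J Q))` has index 2 in `N(W)` (`nQ`, `f y ∉ N₁`
because `K₀ ⊓ N(J Q)` centralizes `Q` modulo `z`, hence normalizes `A`), and `N_L(W) ≤ N₁`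
(`W ≤ N₁` and `|N_L(W) : W|` is odd). `A16.idx2_sup`: `L N₁` has index 2 in `H̃`, `f y ∉ L N₁`.
`H₀ = f⁻¹ (L N₁)` contains `T₀`, all elements of odd order, and all 2-elements of `N(A) ⊓ H` (they
are conjugate into `T₀` in `N(A) ⊓ H`). -/
theorem C2.exists_H0 (h : Hy J π) (c : C2 J y l k) : ∃ H0 : Subgroup G,
    (∀ g ∈ Cx (J TL.z), ∀ x ∈ H0, g * x * g⁻¹ ∈ H0) ∧ NA J ⊓ Cx (J TL.z) ≤ H0 ∧ y ∉ H0 := by
  obtain ⟨f1, f2, f3, f4, f5, f6, -⟩ := tl_facts
  have hJ : ∀ t, J t ∈ Cx (J TL.z) := fun t => mem_Cx.2 (by rw [← map_mul, f1, map_mul])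
  have hy : y ∈ Cx (J TL.z) := mem_Cx'.2 ((c.rel _).trans (by rw [f2]))
  set H := Cx (J TL.z) with hH
  let JH : TL →* H := J.codRestrict H hJ
  let yH : H := ⟨y, hy⟩
  have hZ : (zpowers (JH TL.z)).Normal := ⟨fun n hn g => by
    obtain ⟨m, rfl⟩ := hn
    have e : g * JH TL.z * g⁻¹ = JH TL.z := Subtype.ext (mem_Cx'.1 g.2)
    exact ⟨m, by simp only [← conj_zpow, e]⟩⟩
  let q := QuotientGroup.mk' (zpowers (JH TL.z))
  have hq : ∀ x, q x = 1 ↔ x ∈ zpowers (JH TL.z) := fun x => QuotientGroup.eq_one_iff x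
  have hinj : Injective JH := fun a b e => h.inj (congrArg Subtype.val e)
  obtain ⟨j, hj, j1, j2⟩ := exists_j (φ := q.comp JH) (u := q yH) (l := l)
    (fun t => ⟨fun e => by
      obtain ⟨m, hm⟩ := (hq _).1 e
      have : TL.z ^ m = t := hinj (by rw [map_zpow]; exact hm)
      rw [← this, map_zpow, (zq_spec.2.1 _).2.2.1.2 (Or.inr rfl), one_zpow], fun e => by
      rcases (zq_spec.2.1 _).2.2.1.1 e with rfl | rfl
      · exact map_one _
      · exact (hq _).2 (mem_zpowers _)⟩)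
    (fun t => by
      change q yH * q (JH t) * (q yH)⁻¹ = q (JH _)
      rw [← map_inv, ← map_mul, ← map_mul]
      exact congrArg q (Subtype.ext (c.rel t)))
    (by
      rw [← map_mul, hq]
      have e := c.sq
      cases k
      · exact (Subtype.ext e : yH * yH = 1) ▸ one_mem _
      · exact (Subtype.ext e : yH * yH = JH TL.z) ▸ mem_zpowers _)
    (by
      rintro ⟨t, e⟩
      obtain ⟨m, hm⟩ := (hq ((JH t)⁻¹ * yH)).1 (by
        rw [map_mul, map_inv]; exact inv_mul_eq_one.2 e)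
      refine c.nm h ⟨t * TL.z ^ m, ?_⟩
      have := congrArg Subtype.val hm
      rw [map_mul, map_zpow]
      change J TL.z ^ m = (J t)⁻¹ * y at this
      rw [this, mul_inv_cancel_left])
  have hT1 : T1 J y ≤ H := sup_le (by rintro _ ⟨t, rfl⟩; exact hJ t) (zpowers_le.2 hy)
  have s1 : IsSylowIn 2 ((T1 J y).subgroupOf H) ⊤ :=
    ⟨le_top, (c.syl h).pgroup.comap_subtype, by
      rw [relIndex_top_right]; exact ((c.syl h).of_le hT1 le_top).not_dvd⟩
  have s2 := IsSylowIn.map' s1 q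
  rw [MonoidHom.range_eq_top_of_surjective _ (QuotientGroup.mk'_surjective _)] at s2
  have s3 : IsSylowIn 2 j.range ⊤ := ⟨le_top, twoZ.of_surjective _ j.rangeRestrict_surjective,
    fun d => s2.not_dvd (d.trans (relIndex_dvd_of_le_left ⊤ (by
      rintro _ ⟨w, hw, rfl⟩
      rcases c.outer (mem_subgroupOf.1 hw) with ⟨t, e⟩ | ⟨t, e⟩
      · exact ⟨zq t, (j1 t).trans (congrArg q (Subtype.ext e))⟩
      · refine ⟨zq t * yz, ?_⟩
        rw [map_mul, j1, j2]
        exact (map_mul q _ _).symm.trans (congrArg q (Subtype.ext e.symm)))))⟩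
  obtain ⟨L, hL, s4⟩ := exists_L hj s3
  have e4 : WZ.map j = (TL.Q.map JH).map q := by
    refine le_antisymm ?_ ?_
    · rintro _ ⟨x, hx, rfl⟩
      have hx' : x.v < 64 := hx
      have e := sc_spec x (by omega)
      exact ⟨JH (sc x), mem_map_of_mem _ (mem_Q.2 ((zq_spec.2.1 _).2.2.2.1.1 (by rw [e]; exact hx'))),
        (j1 _).symm.trans (congrArg j e)⟩
    · rintro _ ⟨_, ⟨t, ht, rfl⟩, rfl⟩
      exact ⟨zq t, (zq_spec.2.1 _).2.2.2.1.2 ht, j1 t⟩
  rw [e4] at s4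
  have s5 := syl_comap q ((TL.two.to_subgroup TL.Q).map JH)
    (fun x a _ => zpowers_le.2 (mem_map_of_mem JH (mem_Q.2 f4)) ((hq x).1 a)) s4
  have s6 : IsSylowIn 2 JH.range ((NA J).subgroupOf H) := by
    have e : JH.range = J.range.subgroupOf H := by
      ext x
      exact ⟨fun ⟨t, e⟩ => ⟨t, congrArg Subtype.val e⟩, fun ⟨t, e⟩ => ⟨t, Subtype.ext e⟩⟩
    have s := h.syl.of_le (K := NA J ⊓ H)
      (le_inf h.syl.le (by rintro _ ⟨t, rfl⟩; exact hJ t)) inf_le_left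
    rw [e]
    refine ⟨comap_mono h.syl.le, h.syl.pgroup.comap_subtype, fun d => s.not_dvd ?_⟩
    rwa [← inf_subgroupOf_right (NA J) H, relIndex_subgroupOf inf_le_right] at d
  obtain ⟨M, hM, m1, m2⟩ := exists_M (u := yH) s5 s6 (map_le_range _ _)
    (by
      rintro _ ⟨s, rfl⟩
      refine mem_normalizer_of_forall ?_
      rintro _ ⟨t, ht, rfl⟩
      exact ⟨s * t * s⁻¹, QN s t ht, by simp only [map_mul, map_inv]⟩)
    (mem_normalizer_of_forall (by
      rintro _ ⟨t, ht, rfl⟩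
      exact ⟨alg l t, f3 l t ht, Subtype.ext (Eq.symm (c.rel t))⟩))
    (fun e => by
      have e1 := (mem_normalizer_iff_cj.1 (mem_subgroupOf.1 e)).symm.trans c.swap.1
      have e2 : J TL.x25 ∈ AP.map J := e1 ▸ mem_map_of_mem J (mem_AT.2 f5)
      exact f6 (mem_AP.1 ((mem_map_iff_mem h.inj).1 e2)))
    (fun g hg => c.nQ h (g := g) (mem_normalizer_of_forall (by
      rintro _ ⟨t, ht, rfl⟩
      obtain ⟨s, hs, e⟩ := conj_mem_of_mem_normalizer hg (mem_map_of_mem JH ht)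
      exact ⟨s, hs, congrArg Subtype.val e⟩)))
  refine ⟨M.map H.subtype, ?_, fun x hx => ⟨⟨x, hx.2⟩, m1 hx.1, rfl⟩, ?_⟩
  · rintro g hg _ ⟨x, hx, rfl⟩
    exact ⟨_, hM.conj_mem x hx ⟨g, hg⟩, rfl⟩
  · rintro ⟨x, hx, e⟩
    exact m2 ((Subtype.ext e : x = yH) ▸ hx)

end CfsgLib.Har
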