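import Cfsg.Agent.Lib.Har.Di1

/-!
Project HAR (S1918, plans/HAR.md). Case `A ∼ A'`: the Sylow subgroup (package C2S).
-/

set_option autoImplicit false
set_option Elab.async false
set_option linter.unusedSectionVars false
set_option synthInstance.maxSize 100000
set_option maxRecDepth 100000

namespace CfsgLib.Har

open Subgroup Equiv Function CfsgLib.W2 CfsgLib.W2.TG CfsgLib.Tech CfsgLib.PComp Cfsg CfsgLib.A16
  CfsgLib.SylT

variable {G : Type*} [Group G] [Finite G] {J : TL →* G} {π : G → P16}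
variable {y : G} {l k : Bool}

theorem c2s_alg : ∀ l t, alg l (alg l t) = t ∧ (TL.In 698 t → TL.In 884 (alg l t)) ∧
    (TL.In 884 t → TL.In 698 (alg l t)) ∧ (TL.In 960 t → TL.In 424 (alg l t)) ∧
    (TL.In 424 t → TL.In 960 (alg l t)) := by decide +kernel

theorem c2s_inv : ∀ (l k : Bool) t, t * alg l t * (if k then TL.z else 1) = 1 →
    k = false ∧ ∃ s, alg l s = s * t := by decide +kernel

theorem c2s_fix : ∀ l, cnt (fun t => alg l t = t) ≤ 16 := by decide +kernel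

theorem c2s_cnt {P P' : TL → Prop} [DecidablePred P'] (h : ∀ t, P t → P' t) :
    Nat.card {t // P t} ≤ cnt P' :=
  card_subtype P' ▸ Nat.card_le_card_of_injective _ (Subtype.impEmbedding P P' h).injective

theorem c2s_AB : TL.A ≠ TL.B := fun e =>
  (by decide +kernel : ¬ TL.In 424 TL.x13) (e.le (by decide +kernel : TL.In 960 TL.x13))

theorem C2.c2s_sq (c : C2 J y l k) : y * y = J (if k then TL.z else 1) := by
  rw [c.sq]; cases k <;> simp

theorem C2.c2s_mv (c : C2 J y l k) (t : TL) : y * J t = J (alg l t) * y := mul_inv_eq_iff_eq_mul.1 (c.rel t)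

theorem C2.c2s_cj (c : C2 J y l k) {X Y : Subgroup TL} (h1 : ∀ t ∈ X, alg l t ∈ Y) (h2 : ∀ t ∈ Y, alg l t ∈ X) :
    cj y (X.map J) = Y.map J := by
  refine le_antisymm (cj_le_iff.2 ?_) ?_
  · rintro _ ⟨t, ht, rfl⟩
    exact ⟨_, h1 t ht, Eq.symm (c.rel t)⟩
  · rintro _ ⟨t, ht, rfl⟩
    exact ⟨_, ⟨_, h2 t ht, rfl⟩, (c.rel _).trans (congrArg J (c2s_alg l t).1)⟩

theorem C2.norm (c : C2 J y l k) : y ∈ normalizer (J.range : Set G) := by
  refine mem_normalizer_fintype ?_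
  rintro _ ⟨t, rfl⟩
  exact ⟨_, Eq.symm (c.rel t)⟩

theorem C2.swap (c : C2 J y l k) : cj y (AT.map J) = AP.map J ∧ cj y (AP.map J) = AT.map J :=
  ⟨c.c2s_cj (fun t => (c2s_alg l t).2.1) fun t => (c2s_alg l t).2.2.1,
    c.c2s_cj (fun t => (c2s_alg l t).2.2.1) fun t => (c2s_alg l t).2.1⟩

theorem C2.c2s_swap (c : C2 J y l k) : cj y (TL.A.map J) = TL.B.map J ∧ cj y (TL.B.map J) = TL.A.map J :=
  ⟨c.c2s_cj (fun t => (c2s_alg l t).2.2.2.1) fun t => (c2s_alg l t).2.2.2.2,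
    c.c2s_cj (fun t => (c2s_alg l t).2.2.2.2) fun t => (c2s_alg l t).2.2.2.1⟩

theorem C2.nm (h : Hy J π) (c : C2 J y l k) : y ∉ J.range := fun e =>
  four_ne.1 (map_injective h.inj ((mem_normalizer_iff_cj.1 (h.syl.le e)).symm.trans c.swap.1))

theorem C2.outer (c : C2 J y l k) {w : G} (hw : w ∈ T1 J y) : w ∈ J.range ∨ ∃ t, w = J t * y := by
  let S : Subgroup G := Held.subOf
    { carrier := {w | w ∈ J.range ∨ ∃ t, w = J t * y}
      one_mem' := .inl (one_mem _)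
      mul_mem' := by
        rintro _ _ (⟨s, rfl⟩ | ⟨s, rfl⟩) (⟨t, rfl⟩ | ⟨t, rfl⟩)
        · exact .inl ⟨s * t, map_mul _ _ _⟩
        · exact .inr ⟨s * t, by rw [map_mul, mul_assoc]⟩
        · exact .inr ⟨s * alg l t, by rw [map_mul, mul_assoc, mul_assoc, c.c2s_mv]⟩
        · exact .inl ⟨s * alg l t * if k then TL.z else 1, by
            rw [map_mul, map_mul, ← c.c2s_sq, mul_assoc, mul_assoc, ← mul_assoc y, c.c2s_mv, mul_assoc]⟩ }
  exact (sup_le (fun x hx => .inl hx) (zpowers_le.2 (.inr ⟨1, by simp⟩)) : T1 J y ≤ S) hw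

theorem c2s_two {P : Subgroup G} (hP : IsPGroup 2 P) {g : G} (h1 : g ∈ normalizer (P : Set G)) (h2 : g * g ∈ P) :
    IsPGroup 2 (P ⊔ zpowers g : Subgroup G) := by
  obtain ⟨n, hn⟩ := hP ⟨_, h2⟩
  refine hP.to_sup_of_normal_left' (Core.isPGroup_zpowers_iff.2 ⟨n + 1, ?_⟩) (zpowers_le.2 h1)
  rw [pow_succ', pow_mul, sq]
  exact congrArg Subtype.val hn

theorem C2.idx (h : Hy J π) (c : C2 J y l k) : J.range.relIndex (T1 J y) = 2 ∧ IsPGroup 2 (T1 J y) := by
  refine ⟨relIndex_eq_two_iff_exists_notMem_and.2 ⟨y, mem_sup_right (mem_zpowers y), c.nm h, fun b hb => ?_⟩,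
    c2s_two h.syl.pgroup c.norm ⟨_, c.c2s_sq.symm⟩⟩
  rcases c.outer hb with e | ⟨t, rfl⟩
  · exact .inr e
  · exact .inl ⟨_, by rw [mul_assoc, c.c2s_sq, ← map_mul]⟩

/-- `(J t y)² = J (t · alg l t · z^k)`; decide: no solution for `k = true`; for `k = false` each of
the 64 solutions has the form `t = s⁻¹ · alg l s` (then `J s (J t y) (J s)⁻¹ = y`). -/
theorem C2.inv (h : Hy J π) (c : C2 J y l k) {t : TL} (e : J t * y * (J t * y) = 1) :
    k = false ∧ ∃ s, J s * (J t * y) * (J s)⁻¹ = y := by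
  rw [mul_assoc, ← mul_assoc y, c.c2s_mv, mul_assoc, c.c2s_sq, ← map_mul, ← map_mul, ← mul_assoc,
    ← map_one J] at e
  obtain ⟨e1, s, e2⟩ := c2s_inv l k t (h.inj e)
  exact ⟨e1, s, by rw [← mul_assoc, ← map_mul, ← e2, ← c.c2s_mv, mul_inv_cancel_right]⟩

theorem c2s_card (hJ : Injective J) (F : Subgroup G) :
    Nat.card (F.comap J) * J.range.relIndex F = Nat.card F := by
  rw [← card_map_of_injective hJ, map_comap_eq, Core.card_inf_mul_relIndex]

/-- If `F ≤ range J`: `TL.big` puts every element in `A ∪ B`, so `F ≤ A` or `F ≤ B`. Otherwise `F`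
contains a conjugate of `y` and `|F ⊓ T₀| ≥ 32`, but `alg l` fixes only 16 elements (`cnt`). -/
theorem C2.e64 (h : Hy J π) (c : C2 J y l k) {F : Subgroup G} (hF : F ≤ T1 J y)
    (h2 : ∀ x ∈ F, x * x = 1) (hc : 64 ≤ Nat.card F) : F = TL.A.map J ∨ F = TL.B.map J := by
  have cm : ∀ a ∈ F, ∀ b ∈ F, a * b = b * a := fun a ha b hb => by
    rw [← mul_one (b * a), ← h2 _ (mul_mem ha hb), ← mul_assoc, mul_assoc b a, ← mul_assoc a a, h2 a ha, one_mul,
      h2 b hb, one_mul]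
  by_cases hle : F ≤ J.range
  · have k1 := c2s_card h.inj F
    rw [relIndex_eq_one.2 hle, mul_one] at k1
    have k2 : ∀ t ∈ F.comap J, t * t = 1 := fun t ht => h.inj (by rw [map_mul, h2 _ ht, map_one])
    have k3 : ∀ t ∈ F.comap J, t ∈ TL.A ∨ t ∈ TL.B := fun t ht => TL.big t (k2 t ht)
      ((k1 ▸ hc).trans (c2s_cnt fun r hr => ⟨k2 r hr, h.inj (by rw [map_mul, map_mul, cm _ hr _ ht])⟩))
    have k4 : ∀ X : Subgroup TL, Nat.card X = 64 → F.comap J ≤ X → F = X.map J := fun X hX e => by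
      rw [← eq_of_le_of_card_ge e (by omega), map_comap_eq_self hle]
    by_contra! hn
    obtain ⟨a, ha, a1⟩ := SetLike.not_le_iff_exists.1 fun e => hn.1 (k4 _ TL.card_A e)
    obtain ⟨b, hb, b1⟩ := SetLike.not_le_iff_exists.1 fun e => hn.2 (k4 _ TL.card_B e)
    rcases k3 _ (mul_mem ha hb) with e | e
    · exact a1 ((mul_mem_cancel_right ((k3 b hb).resolve_right b1)).1 e)
    · exact b1 ((mul_mem_cancel_left ((k3 a ha).resolve_left a1)).1 e)
  obtain ⟨w, hw, w1⟩ := SetLike.not_le_iff_exists.1 hle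
  obtain ⟨t, rfl⟩ := (c.outer (hF hw)).resolve_left w1
  obtain ⟨-, s, e⟩ := c.inv h (h2 _ hw)
  have k1 := c2s_card h.inj (cj (J s) F)
  have k2 : J.range.relIndex (cj (J s) F) ≤ 2 := (c.idx h).1 ▸ relIndex_le_of_le_right
    ((cj_mono _ hF).trans (cj_eq_of_mem (mem_sup_left (show J s ∈ J.range from ⟨s, rfl⟩))).le) (by rw [(c.idx h).1]; decide)
  have k3 : Nat.card ((cj (J s) F).comap J) ≤ 16 := (c2s_cnt fun r hr => h.inj (by
    obtain ⟨x, hx, e1⟩ : J r ∈ cj (J s) F := hr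
    have e2 : J s * x * (J s)⁻¹ = J r := e1
    rw [← c.rel r, mul_inv_eq_iff_eq_mul, ← e2, ← e, conj_mul, conj_mul, cm _ hw _ hx])).trans (c2s_fix l)
  rw [card_cj] at k1
  have := Nat.mul_le_mul k3 k2
  omega

/-- Otherwise `exists_y` gives `g ∈ N(T₁) ∖ T₁`, `g² ∈ T₁`, so `T₁⟨g⟩` is a 2-group. `g` permutes
`{J A, J B}` (`e64`), and `T₀` is the stabilizer of `J A` in `T₁` (`y` exchanges `A`, `B`), so `g`
normalizes `T₀`. By `tri`: `g ∈ N(A)`, or `g y⁻¹ ∈ N(A)`; in these cases `eq_of_le` (applied to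
`T₀⟨g⟩` or `T₀⟨g y⁻¹⟩`) gives `g ∈ T₁`. In the third case `g y` maps `(A, A')` to `(A', A1)`,
contradicting `tri` for `g y` (`four_ne`). -/
theorem C2.syl (h : Hy J π) (c : C2 J y l k) : IsSylowIn 2 (T1 J y) ⊤ := by
  by_contra hn
  obtain ⟨g, -, g1, g2, g3⟩ := exists_y (c.idx h).2 le_top hn
  have hP := c2s_two (c.idx h).2 g1 g3
  have nX : ∀ X : Subgroup TL, (∀ s, ∀ x ∈ X, s * x * s⁻¹ ∈ X) → ∀ s, cj (J s) (X.map J) = X.map J := fun X hX s =>
    mem_normalizer_iff_cj.1 (mem_normalizer_fintype (by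
      rintro _ ⟨x, hx, rfl⟩
      exact ⟨_, hX s x hx, Eq.symm (W2.Rel.conj J s x)⟩))
  have k1 := c.e64 h (F := cj g⁻¹ (TL.A.map J))
    ((cj_mono _ ((map_le_range _ _).trans le_sup_left)).trans (mem_normalizer_iff_cj.1 (inv_mem g1)).le) (by
      rintro _ ⟨_, ⟨x, hx, rfl⟩, rfl⟩
      rw [← map_mul, ← map_mul, TL.A_sq x hx, map_one, map_one])
    (by rw [card_cj, card_map_of_injective h.inj, TL.card_A])
  have gN : g ∈ normalizer (J.range : Set G) := mem_normalizer_fintype (by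
    rintro _ ⟨s, rfl⟩
    refine (c.outer ((mem_normalizer_iff.1 g1 _).1 (mem_sup_left ⟨s, rfl⟩))).resolve_right ?_
    rintro ⟨t, e⟩
    have e1 : cj (J s) (cj g⁻¹ (TL.A.map J)) = cj g⁻¹ (TL.A.map J) := by
      rcases k1 with e1 | e1 <;> rw [e1]
      exacts [nX _ TL.A_conj s, nX _ TL.B_conj s]
    have e2 := congrArg (cj · (TL.A.map J)) e
    simp only [cj_mul] at e2
    rw [e1, cj_cj_inv, c.c2s_swap.1, nX _ TL.B_conj] at e2
    exact c2s_AB (map_injective h.inj e2))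
  have key : ∀ u ∈ T1 J y ⊔ zpowers g, u ∈ normalizer (J.range : Set G) → u ∈ NA J → u ∈ T1 J y :=
    fun u h1 h2 h3 => mem_sup_left ((h.eq_of_le (h.syl.pgroup.to_sup_of_normal_left' (hP.to_le (zpowers_le.2 h1))
      (zpowers_le.2 h2)) le_sup_left (sup_le h.syl.le (zpowers_le.2 h3))).le (mem_sup_right (mem_zpowers u)))
  have hy : y ∈ T1 J y := mem_sup_right (mem_zpowers y)
  have hg : g ∈ T1 J y ⊔ zpowers g := mem_sup_right (mem_zpowers g)
  obtain ⟨n1, n2, -, n4, -⟩ := four_ne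
  rcases h.tri gN with e | e | e
  · exact g2 (key g hg gN e)
  · exact g2 ((mul_mem_cancel_right hy).1 (key _ (mul_mem hg (mem_sup_left hy)) (mul_mem gN c.norm)
      (mem_normalizer_iff_cj.2 (by rw [cj_mul, c.swap.1, e.2]))))
  · have e1 : cj (g * y) (AT.map J) = AP.map J := by rw [cj_mul, c.swap.1, e.2]
    have e2 : cj (g * y) (AP.map J) = A1.map J := by rw [cj_mul, c.swap.2, e.1]
    rcases h.tri (mul_mem gN c.norm) with e' | e' | e'
    · exact n1 (map_injective h.inj ((mem_normalizer_iff_cj.1 e').symm.trans e1))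
    · exact n2 (map_injective h.inj (e'.2.symm.trans e2))
    · exact n4 (map_injective h.inj (e1.symm.trans e'.1))

end CfsgLib.Har
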