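import Cfsg.Agent.Lib.Har.C2h
import Cfsg.Agent.Lib.Transfer.Cocycle
import Cfsg.Agent.Lib.Transfer.Thompson

/-!
Project HAR (S1918, plans/HAR.md). Case `A ∼ A'` is impossible (package C2T).
-/

set_option autoImplicit false
set_option Elab.async false
set_option linter.unusedSectionVars false
set_option synthInstance.maxSize 100000
set_option maxRecDepth 100000

namespace CfsgLib.Har

open Subgroup Equiv Function CfsgLib.W2 CfsgLib.W2.TG CfsgLib.Tech CfsgLib.PComp Cfsg CfsgLib.A16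
  CfsgLib.SylT

variable {G : Type*} [Group G] [Finite G] {J : TL →* G} {π : G → P16}
variable {y : G} {l k : Bool}

theorem c2t_syl (h : Hy J π) : IsSylowIn 2 ((Cx TL.x14).map J) (NA J ⊓ Cx (J TL.x14)) := by
  have : Fact (Nat.Prime 2) := ⟨Nat.prime_two⟩
  have p0 : IsPGroup 2 ((Cx TL.x14).map J) := (TL.two.to_subgroup _).map J
  have l0 : (Cx TL.x14).map J ≤ NA J ⊓ Cx (J TL.x14) := by
    rintro _ ⟨t, ht, rfl⟩
    exact ⟨h.memN t, mem_Cx.2 (by rw [← map_mul, ← map_mul, mem_Cx.1 ht])⟩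
  obtain ⟨R, hR, h1⟩ := exists_isSylowIn_ge p0 l0
  obtain ⟨g, hg, h2⟩ := h.syl.exists_cj_le hR.pgroup (hR.le.trans inf_le_left)
  obtain ⟨s, hs⟩ := h2 (conj_mem_cj.2 (h1 (mem_map_of_mem J (mem_Cx.2 rfl : TL.x14 ∈ Cx TL.x14))))
  have r : W2.Rel J g TL.x14 s := hs.symm
  have h3 : cj g R ≤ (Cx s).map J := fun x hx => by
    obtain ⟨t, rfl⟩ := h2 hx
    refine mem_map_of_mem J (mem_Cx.2 (h.inj ?_))
    have := mem_Cx.1 (hR.le (mem_cj.1 hx)).2
    rw [map_mul, map_mul, hs]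
    calc _ = g * (g⁻¹ * J t * g * J TL.x14) * g⁻¹ := by group
      _ = _ := by rw [this]; group
  have h4 : Cx s ≠ ⊤ := fun e => by
    have k : ∀ t, s * t = t * s := fun t => (mem_Cx.1 (e.ge (mem_top t))).symm
    rcases TL.center_eq s (k _) (k _) (k _) (k _) with rfl | rfl
    · exact absurd (r.uniq' h.inj W2.Rel.one rfl) (by decide +kernel)
    · have e1 := congrArg (fun m : P16 => m (π g 0)) (h.rel_pi hg r)
      have k1 : (∀ q, i16 TL.z q ≠ q) ∧ i16 TL.x14 0 = 0 := by decide +kernel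
      exact k1.1 _ (by simpa [k1.2] using e1)
  have h5 : Nat.card (Cx s) ≤ 512 := by
    have a := (Cx s).card_mul_index
    have b : (Cx s).index ≠ 1 := fun e => h4 (index_eq_one.1 e)
    have d : (Cx s).index ≠ 0 := index_ne_zero_of_finite
    rw [TL.card_T] at a
    nlinarith [show 2 ≤ (Cx s).index by omega]
  have h6 : Nat.card (Cx TL.x14) = 512 :=
    (card_subgroup _ (fun x => x * TL.x14 = TL.x14 * x) fun _ => mem_Cx).trans (by decide +kernel)
  refine hR.of_card_le p0 l0 ?_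
  rw [← card_cj g R, card_map_of_injective h.inj, h6]
  exact (card_le_of_le h3).trans ((card_map_of_injective h.inj).le.trans h5)

theorem c2t_fin (h : Hy J π) {m : G} {w r : TL} (e : W2.Rel J m w TL.z) (hr : r * w = w * r)
    (hm : m * J r * m⁻¹ ∈ NA J) : m * J r * m⁻¹ ∈ NA J ⊓ Cx (J TL.z) :=
  ⟨hm, mem_Cx.2 (by
    rw [← show m * J w * m⁻¹ = J TL.z from e]
    calc _ = m * J (r * w) * m⁻¹ := by rw [map_mul]; group
      _ = _ := by rw [hr, map_mul]; group)⟩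

theorem C2.move (h : Hy J π) (c : C2 J y l k) {H0 : Subgroup G}
    (h1 : ∀ g ∈ Cx (J TL.z), ∀ x ∈ H0, g * x * g⁻¹ ∈ H0) (h2 : NA J ⊓ Cx (J TL.z) ≤ H0) {w : TL}
    (e : IsConj (J TL.z) (J w)) :
    ∃ m, W2.Rel J m w TL.z ∧ ∀ r, r * w = w * r → m * J r * m⁻¹ ∈ H0 := by
  have : Fact (Nat.Prime 2) := ⟨Nat.prime_two⟩
  obtain ⟨n, hn, r1⟩ := h.typ (c2f_inv h e).1 (c2f_inv h e).2
  rcases c.zcl h e with a | a <;> rw [a] at r1
  · exact ⟨n, r1, fun r hr => h2 (c2t_fin h r1 hr (mul_mem (mul_mem hn (h.memN r)) (inv_mem hn)))⟩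
  obtain ⟨g, hg, h3⟩ := (c2t_syl h).exists_cj_le
    (isPGroup_cj n ((TL.two.to_subgroup (Cx w)).map J)) (cj_le_iff.2 (by
      rintro _ ⟨t, ht, rfl⟩
      refine mem_inf.2 ⟨mul_mem (mul_mem hn (h.memN t)) (inv_mem hn), mem_Cx.2 ?_⟩
      rw [← show n * J w * n⁻¹ = J TL.x14 from r1]
      calc _ = n * J (t * w) * n⁻¹ := by rw [map_mul]; group
        _ = _ := by rw [mem_Cx.1 ht, map_mul]; group))
  obtain rfl := c.l_eq h
  obtain ⟨n', hn', r2⟩ := h.typ (t := TL.x25) (by decide +kernel) (by decide +kernel)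
  have k1 : tyr TL.x25 = TL.z ∧ alg false TL.x25 = TL.x14 := by decide +kernel
  have r3 : W2.Rel J (n' * (y⁻¹ * (g * n))) w TL.z := (r2.of_eq rfl k1.1).comp
    (((c.rel TL.x25).of_eq rfl k1.2).symm.comp ((W2.Rel.of_comm (mem_Cx.1 hg.2)).comp r1))
  refine ⟨_, r3, fun r hr => h2 (c2t_fin h r3 hr ?_)⟩
  have h4 := h.syl.le (conj_mem_of_mem_normalizer' c.norm (map_le_range J _
    (h3 (conj_mem_cj.2 (conj_mem_cj.2 (mem_map_of_mem J (mem_Cx.2 hr : r ∈ Cx w)))))))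
  convert mul_mem (mul_mem hn' h4) (inv_mem hn') using 1
  group

theorem C2.false (h : Hy J π) (c : C2 J y l k) (hG : ∀ M : Subgroup G, M.index ≠ 2) : False := by
  obtain ⟨H0, h1, h2, h3⟩ := c.exists_H0 h
  have hz : y * J TL.z = J TL.z * y :=
    ((c.rel TL.z).of_eq rfl (by cases l <;> decide +kernel)).comm
  have fin : ∀ g s w, g * y * g⁻¹ = J s → g * J TL.z * g⁻¹ = J w → False := fun g s w e1 e2 => by
    obtain ⟨m, r, hm⟩ := c.move h h1 h2 (isConj_iff.2 ⟨g, e2⟩)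
    have h4 := hm s (h.inj (by
      rw [map_mul, map_mul, ← e1, ← e2]
      calc _ = g * (y * J TL.z) * g⁻¹ := by group
        _ = _ := by rw [hz]; group))
    have h5 := (r.comp (show W2.Rel J g TL.z w from e2)).comm
    refine h3 ?_
    convert h1 _ (inv_mem (mem_Cx.2 h5)) _ h4 using 1
    rw [← e1]; group
  have odd : ¬ 2 ∣ (T1 J y).index := by simpa using (c.syl h).not_dvd
  have z1 : J TL.z ≠ 1 := fun e => TL.z_ne (h.inj (e.trans (map_one J).symm))
  have zz : J TL.z * J TL.z = 1 := by rw [← map_mul, TL.zz, map_one]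
  cases k
  · have out : ∀ {g : G} {x t : TL}, x * x = 1 → g * J x * g⁻¹ = J t * y → IsConj (J x) y :=
      fun {g x t} hx e => by
        obtain ⟨-, s, hs⟩ := c.inv h (t := t) (by
          rw [← e]
          calc _ = g * J (x * x) * g⁻¹ := by rw [map_mul]; group
            _ = 1 := by rw [hx, map_one]; group)
        exact (isConj_iff.2 ⟨g, e⟩).trans (isConj_iff.2 ⟨_, hs⟩)
    obtain ⟨t, ⟨s, hs⟩, ht⟩ := Transfer.thompson_transfer_extremal hG odd (c.idx h).1 (u := y) c.sq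
      (R := T1 J y ⊓ centralizer {y}) ((c.idx h).2.to_le inf_le_left) inf_le_right
    obtain rfl := c.l_eq h
    have k1 : alg false TL.t0 = TL.t0 ∧ TL.t0 * TL.t0 = 1 ∧ TL.t0 * TL.z * (TL.t0 * TL.z) = 1 ∧
        TL.t0 * TL.z ≠ 1 ∧ tyr (TL.t0 * TL.z) = TL.t0 := by decide +kernel
    have a1 := ht (J TL.z) ⟨mem_sup_left ⟨_, rfl⟩, mem_Cx.2 hz.symm⟩
    have a2 := ht (J TL.t0) ⟨mem_sup_left ⟨_, rfl⟩, mem_Cx.2 ((c.rel TL.t0).of_eq rfl k1.1).comm.symm⟩
    rcases c.outer a1 with ⟨w, hw⟩ | ⟨a, ha⟩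
    · exact fin t⁻¹ s w (by rw [inv_inv, hs]) (by rw [inv_inv, hw])
    have b1 := out (g := t⁻¹) TL.zz (by rw [inv_inv, ha])
    rcases c.outer a2 with ⟨b, hb⟩ | ⟨b, hb⟩
    · have b2 := out (g := t⁻¹) (t := b * a) k1.2.2.1 (by
        rw [map_mul, map_mul, mul_assoc (J b), ← ha, hb]; group)
      exact c.nt0 h (b1.trans (b2.symm.trans (k1.2.2.2.2 ▸ c2f_tyr h k1.2.2.1 k1.2.2.2.1)))
    · exact c.nt0 h (b1.trans (out (g := t⁻¹) k1.2.1 (by rw [inv_inv, hb])).symm)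
  · have yy : y * y = J TL.z := c.sq
    have o4 : orderOf y = 2 ^ 2 := by
      have : Fact (Nat.Prime 2) := ⟨Nat.prime_two⟩
      refine orderOf_eq_prime_pow (n := 1) (by rwa [pow_one, pow_two, yy]) ?_
      rw [pow_succ, pow_mul, pow_one, pow_two, pow_two, yy, zz]
    rcases Transfer.thompson_transfer_large_order odd (c.idx h).1 o4 (fun x hx nx => by
      obtain ⟨t, rfl⟩ := (c.outer hx).resolve_left nx
      by_contra hn
      have a := orderOf_pos (J t * y)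
      have b : orderOf (J t * y) ∣ 2 := by
        have : orderOf (J t * y) = 1 ∨ orderOf (J t * y) = 2 := by norm_num at hn; omega
        rcases this with e | e <;> rw [e]
        exact one_dvd 2
      exact absurd (c.inv h (by rw [← pow_two]; exact orderOf_dvd_iff_pow_eq_one.1 b)).1 (by simp))
      with ⟨K, -, hK, -⟩ | ⟨g, s, hs⟩
    · exact hG K hK
    · exact fin g s (s * s) hs.symm (by rw [map_mul, hs, ← yy]; group)

end CfsgLib.Har
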