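import Cfsg.Agent.Lib.Har.Rho3

/-!
Project HAR (S1918, plans/HAR.md). The classes of involutions (package CLS).
-/

set_option autoImplicit false
set_option Elab.async false
set_option linter.unusedSectionVars false
set_option synthInstance.maxSize 100000
set_option maxRecDepth 100000

namespace CfsgLib.Har

open Subgroup Equiv Function CfsgLib.W2 CfsgLib.W2.TG CfsgLib.Tech CfsgLib.PComp Cfsg CfsgLib.A16
  CfsgLib.SylT

noncomputable section

/-- the block `i` of `e` is replaced by `u_i` if it is nonzero -/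
def nb (i : Fin 4) (e : EG) : EG :=
  if Nat.land e.v (ue i).v = 0 then e else o (Nat.lor e.v (ue i).v)

theorem nb_spec : ∀ i e, nb i e = e ∨ nb i e = sV i e ∨ nb i e = sV i (sV i e) := by decide +kernel

def nz (e : EG) : EG := nb 1 (nb 2 (nb 3 e))

theorem nz_tE : ∀ e, tE (nb 0 (nz e)) = bW (nb 0 (nz e)) := by decide +kernel

theorem nz_cl : ∀ e, ol (nb 0 (nz e)) = cl (inc (iw (eps e))) ∧
    (ol (nb 0 (nz e)) = 4 → nb 0 (nz e) = ze) := by decide +kernel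

theorem nz_cl' : ∀ e : EG, Nat.land e.v 3 = 0 → nb 0 (nz e) = nz e ∧
    ol (eb 0 * nz e) = cl (eB (eb 0) * inc (iw (eps e))) ∧
    (ol (eb 0 * nz e) = 4 → nb 0 (nz (ue 0 * e)) = ze) ∧
    e = wd [eb 2, eb 3, eb 4, eb 5, eb 6, eb 7] (e.v / 4) := by decide +kernel

theorem sV_conj : ∀ i, ∃ p ∈ ([1, o 48, o 64, o 112] : List P8),
    ∀ a, cE (trH p) (sV 0 a) = sV i (cE (trH p) a) := by decide +kernel

def can (k : ℕ) : EG := o (2 ^ (2 * k - 1) - 1)

theorem can_step : ∀ a : EG, a = can (ol a) ∨ (tau1 a).v < a.v ∨ ∃ p q : Fin 8,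
    (a * (eb p * eb q)).v < a.v ∧ ol (a * (eb p * eb q)) = ol a ∧
      eB (a * (eb p * eb q)) = liftB (swap p q) * eB a * (liftB (swap p q))⁻¹ := by decide +kernel

end

variable {G : Type*} [Group G] [Finite G] {J : TW →* G} {ρ σ d : G} {f : G → WB} {r : Fin 4 → G}

/-- conjugacy under `M` -/
def Cn (J : TW →* G) (M : Subgroup G) (a b : TW) : Prop := ∃ m ∈ M, W2.Rel J m a b

theorem Cn.refl (M : Subgroup G) (a : TW) : Cn J M a a := ⟨1, one_mem _, by simp [W2.Rel]⟩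

theorem Cn.trans {M : Subgroup G} {a b c : TW} (h : Cn J M a b) (k : Cn J M b c) : Cn J M a c :=
  let ⟨m, hm, e⟩ := h
  let ⟨n, hn, e'⟩ := k
  ⟨n * m, mul_mem hn hm, e'.comp e⟩

theorem Cn.isConj {M : Subgroup G} {a b : TW} (h : Cn J M a b) : IsConj (J a) (J b) :=
  let ⟨_, _, e⟩ := h
  e.isConj

theorem Cn.blk {M : Subgroup G} {s : G} (hs : s ∈ M) {i : Fin 4}
    (h : ∀ a, W2.Rel (J.comp tE) s a (sV i a)) {t : TW} (ht : W2.Rel J s t t) (e : EG) :
    Cn J M (t * tE e) (t * tE (nb i e)) := by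
  have k : ∀ e, Cn J M (t * tE e) (t * tE (sV i e)) := fun e => ⟨s, hs, ht.mul (h e)⟩
  rcases nb_spec i e with h | h | h <;> rw [h]
  exacts [Cn.refl _ _, k e, (k e).trans (k _)]

theorem Cn.nz {M : Subgroup G} {t : TW} (h : ∀ i, i ≠ 0 → ∃ s ∈ M,
    (∀ a, W2.Rel (J.comp tE) s a (sV i a)) ∧ W2.Rel J s t t) (e : EG) :
    Cn J M (t * tE e) (t * tE (nz e)) := by
  obtain ⟨s1, a1, b1, c1⟩ := h 1 (by decide)
  obtain ⟨s2, a2, b2, c2⟩ := h 2 (by decide)
  obtain ⟨s3, a3, b3, c3⟩ := h 3 (by decide)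
  exact ((Cn.blk a3 b3 c3 _).trans (Cn.blk a2 b2 c2 _)).trans (Cn.blk a1 b1 c1 _)

theorem Cn.all {M : Subgroup G} (h : ∀ i, ∃ s ∈ M, ∀ a, W2.Rel (J.comp tE) s a (sV i a)) (e : EG) :
    Cn J M (tE e) (bW (nb 0 (Har.nz e))) := by
  obtain ⟨s, a, b⟩ := h 0
  have := (Cn.nz (t := 1) (fun i _ => let ⟨s, a, b⟩ := h i; ⟨s, a, b, W2.Rel.one⟩) e).trans
    (Cn.blk a b W2.Rel.one _)
  rwa [one_mul, one_mul, nz_tE] at this

theorem iT_tE_inc (e : EG) : iT (tE e) = inc (iw (eps e)) := DFunLike.congr_fun iT_i1 (eps e)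

theorem FB.nf (hf : FB J f) {a : TW} (ha : a * a = 1) {M : Subgroup G} (hM : N0 J ≤ M) :
    (∃ e, Cn J M a (tE e) ∧ ol (nb 0 (nz e)) = cl (iT a)) ∨
      ∃ e : EG, Nat.land e.v 3 = 0 ∧ Cn J M a (bW (eb 0) * tE e) ∧ ol (eb 0 * nz e) = cl (iT a) := by
  obtain ⟨c, δ, e, h1, h2⟩ := nf_inv (w := iT a) (by rw [← map_mul, ha, map_one])
  obtain ⟨g, hg, -, k⟩ := hf.wf1 h1.symm
  have h3 : cl (iT a) = cl (c * iT a * c⁻¹) := by rw [cl, cl, wtB_conj]
  rw [h3, h1]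
  cases δ
  · simp only [Bool.false_eq_true, if_false, one_mul] at k ⊢
    exact .inl ⟨e, ⟨g, hM hg, k⟩, by rw [iT_tE_inc, (nz_cl e).1]⟩
  · simp only [if_true] at k ⊢
    exact .inr ⟨e, h2 rfl, ⟨g, hM hg, k⟩, by rw [map_mul, iT_tE_inc, iT_bW, (nz_cl' e (h2 rfl)).2.1]⟩

/-- `nf_inv` and `wf1`: `a ∼ t₀^δ e` under `N₀`; powers of the `r i` (they centralize `t₀` for
`i ≠ 0`) move every nonzero block component of `e` to `u_i`; the result `b` lies in `B'` and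
`ol b = cl (iT a)`. -/
theorem RD.toB (hf : FB J f) (hr : RD J r d) {a : TW} (ha : a * a = 1) :
    ∃ b, ol b = cl (iT a) ∧ IsConj (J a) (J (bW b)) := by
  rcases hf.nf ha le_top with ⟨e, h1, h2⟩ | ⟨e, h0, h1, h2⟩
  · exact ⟨_, h2, (h1.trans (Cn.all (fun i => ⟨r i, mem_top _, hr.act i⟩) e)).isConj⟩
  · have := h1.trans (Cn.nz (fun i hi => ⟨r i, mem_top _, hr.act i, hr.ct i hi⟩) e)
    rw [← (nz_cl' e h0).1, nz_tE, (nz_cl' e h0).1, ← map_mul] at this
    exact ⟨_, h2, this.isConj⟩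

theorem RD.can (hf : FB J f) (hr : RD J r d) (a : EG) :
    IsConj (J (bW a)) (J (bW (can (ol a)))) := by
  induction h : a.v using Nat.strong_induction_on generalizing a with
  | _ n ih =>
    subst h
    rcases can_step a with h | h | ⟨p, q, h1, h2, h3⟩
    · rw [← h]
    · have k : ∀ a, ol (tau1 a) = ol a := by decide +kernel
      exact (hr.dB a).isConj.trans (k a ▸ ih _ h _ rfl)
    · obtain ⟨g, -, -, k⟩ := hf.wf1 (a := bW a) (b := bW (a * (eb p * eb q)))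
        (by rw [iT_bW, iT_bW, h3])
      exact k.isConj.trans (h2 ▸ ih _ h1 _ rfl)

/-- `toB`, `ctrl`; conversely vectors of the same weight are conjugate by `s8`, and `tau1` joins the
weights `2k - 1` and `2k`. -/
theorem RD.fus (h : TU J ρ σ) (hf : FB J f) (hr : RD J r d) : Fus J := by
  intro a b ha hb
  obtain ⟨a', a1, a2⟩ := hr.toB hf ha
  obtain ⟨b', b1, b2⟩ := hr.toB hf hb
  rw [← a1, ← b1]
  refine ⟨fun e => h.ctrl (a2.symm.trans (e.trans b2)), fun e => ?_⟩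
  exact (a2.trans (hr.can hf a')).trans (e ▸ (b2.trans (hr.can hf b')).symm)

/-- In the normal form `t₀^δ e` of class 4 all blocks `1, 2, 3` of `e` are nonzero; if `δ`, `d` maps it
to `u₀ e ∈ E`. Conjugates of `r 0` under elements of `T` act on `E` as 3-cycles on the other blocks. -/
theorem RD.cls_z (hf : FB J f) (hr : RD J r d) {M : Subgroup G} (h1 : N0 J ≤ M) (h2 : r 0 ∈ M)
    (h3 : d ∈ M) {a : TW} (ha : a * a = 1) (hc : cl (iT a) = 4) :
    ∃ m ∈ M, W2.Rel J m a (bW ze) := by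
  have k : ∀ i, ∃ s ∈ M, ∀ a, W2.Rel (J.comp tE) s a (sV i a) := fun i => by
    obtain ⟨p, -, hp⟩ := sV_conj i
    obtain ⟨g, hg, -, k⟩ := hf.wf (iT (i1 (trH p))) ⊤ fun a _ =>
      ⟨i1 (trH p) * a * (i1 (trH p))⁻¹, by simp only [map_mul, map_inv]⟩
    have k1 : ∀ a, W2.Rel (J.comp tE) g a (cE (trH p) a) := fun a => k (tE a) (mem_top _) _ (by
      change iT (i1 (eps _)) = _ * iT (i1 (eps _)) * _
      rw [eps_cE]; simp only [map_mul, map_inv])
    refine ⟨g * r 0 * g⁻¹, mul_mem (mul_mem (h1 hg) h2) (inv_mem (h1 hg)), fun a => ?_⟩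
    obtain ⟨a, rfl⟩ := (cE (trH p)).surjective a
    rw [← hp]
    exact ((k1 _).comp (hr.act 0 a)).comp (k1 a).symm
  rcases hf.nf ha h1 with ⟨e, a1, a2⟩ | ⟨e, h0, a1, a2⟩
  · exact (nz_cl e).2 (a2.trans hc) ▸ a1.trans (Cn.all k e)
  · obtain ⟨-, -, b1, b2⟩ := nz_cl' e h0
    have b3 : W2.Rel (J.comp tE) d e e := by
      rw [b2]
      refine W2.Rel.wd (List.forall₂_same.2 fun x hx => ?_) _
      simp only [List.mem_cons, List.not_mem_nil, or_false] at hx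
      rcases hx with rfl | rfl | rfl | rfl | rfl | rfl <;> exact hr.dE _ (by decide)
    have b4 : W2.Rel J d (bW (eb 0)) (tE (ue 0)) := by
      have := hr.dB (eb 0)
      rw [(by decide +kernel : tau1 (eb 0) = ue 0)] at this
      rw [(tE_facts.1 0).2]
      exact this
    have b5 : Cn J M (bW (eb 0) * tE e) (tE (ue 0 * e)) := by
      rw [map_mul]
      exact ⟨d, h3, W2.Rel.mul b4 (show W2.Rel J d (tE e) (tE e) from b3)⟩
    exact b1 (a2.trans hc) ▸ (a1.trans b5).trans (Cn.all k _)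

end CfsgLib.Har
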