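import Cfsg.Agent.Lib.Har.E256a

/-!
Project HAR (S1918, plans/HAR.md). The elementary abelian subgroups of order 256 of `TW` (package E256).
-/

set_option autoImplicit false
set_option Elab.async false
set_option linter.unusedSectionVars false
set_option synthInstance.maxSize 100000
set_option maxRecDepth 100000

namespace CfsgLib.Har

open Subgroup Equiv Function CfsgLib.W2 CfsgLib.W2.TG CfsgLib.Tech CfsgLib.PComp Cfsg CfsgLib.A16
  CfsgLib.SylT

/-- `p` is a product of `x_i`, `i ∈ I` -/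
abbrev XI (I : Fin 16) (p : P8) : Prop := Nat.land p.v (Nat.sub 127 I.val) = 0
/-- `e` is even on the blocks in `I` -/
abbrev EI (I : Fin 16) (e : EG) : Prop := apf (o I.val) e = e

theorem XI_lt : ∀ I p, XI I p → p.v < 16 := by decide +kernel

theorem XI_self : ∀ I, XI I (o I.val) := by decide +kernel

theorem X_comm {p q : P8} (hp : p.v < 16) (hq : q.v < 16) : p * q = q * p :=
  (by decide +kernel : ∀ p : P8, p.v < 16 → ∀ q : P8, q.v < 16 → p * q = q * p) p hp q hq

theorem XI_mul : ∀ I p, XI I p → p * p = 1 ∧ ∀ q, XI I q → XI I (p * q) := by decide +kernel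

theorem EI_mul {I : Fin 16} {e f : EG} (h : EI I e) (k : EI I f) : EI I (e * f) := by
  rw [EI, apf_add, h, k]

theorem EI_ap {I : Fin 16} {e : EG} (h : EI I e) {p : P8} (hp : p.v < 16) : EI I (aP p e) := by
  rw [EI, aP_apply, ← apf_mul, X_comm (XI_lt _ _ (XI_self I)) hp, apf_mul, h]

theorem EI_fix : ∀ I p, XI I p → ∀ e, (EI I e → apf p e = e) ∧ EI I (e * apf p e) := by decide +kernel

/-- the explicit form of `AI` -/
noncomputable def BI (I : Fin 16) : Subgroup TW := Held.subOf
  { carrier := {x | XI I x.right ∧ EI I x.left}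
    one_mem' := ⟨Nat.zero_and _, map_one (aP _)⟩
    mul_mem' := fun ha hb => ⟨(XI_mul _ _ ha.1).2 _ hb.1, EI_mul ha.2 (EI_ap hb.2 (XI_lt _ _ ha.1))⟩ }

theorem mem_BI {I : Fin 16} {x : TW} : x ∈ BI I ↔ XI I x.right ∧ EI I x.left := Iff.rfl

theorem gI_eq : ∀ I q, gI I q = if bit I.val (q.val / 2) then
    ⟨if q.val % 2 = 0 then 1 else o (3 * 4 ^ (q.val / 2)), o (2 ^ (q.val / 2))⟩ else ⟨eb q, 1⟩ := by
  decide +kernel

theorem AI_eq (I : Fin 16) : AI I = BI I := by
  refine le_antisymm ((closure_le _).2 ?_) fun x hx => ?_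
  · rintro _ ⟨q, rfl⟩
    exact (by decide +kernel : ∀ I q, XI I (gI I q).right ∧ EI I (gI I q).left) I q
  · have g : ∀ q, gI I q ∈ AI I := fun q => Subgroup.subset_closure ⟨q, rfl⟩
    rw [← SemidirectProduct.inl_left_mul_inr_right x]
    refine mul_mem (map_mem_of_sp bW (D := 1) (gs := List.ofFn fun q => (gI I q).left) ?_ ?_)
      (map_mem_of_sp pW (D := 1) (gs := List.ofFn fun q => (gI I q).right) ?_ ?_)
    · intro a ha
      obtain ⟨q, rfl⟩ := List.mem_ofFn.1 ha
      rcases (by decide +kernel : ∀ I q, bW (gI I q).left = gI I q ∨ ∃ r, bW (gI I q).left = gI I q * gI I r) I q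
        with e | ⟨r, e⟩ <;> rw [e]
      exacts [g q, mul_mem (g q) (g r)]
    · simp only [gI_eq]
      exact (by decide +kernel : ∀ I e, EI I e → bit (sp (List.ofFn fun q : Fin 8 => (if bit I.val (q.val / 2) then
        ⟨if q.val % 2 = 0 then 1 else o (3 * 4 ^ (q.val / 2)), o (2 ^ (q.val / 2))⟩ else ⟨eb q, 1⟩ : TW).left) 1)
        e.v = true) I _ hx.2
    · intro a ha
      obtain ⟨q, rfl⟩ := List.mem_ofFn.1 ha
      rcases (by decide +kernel : ∀ I q, (gI I q).right = 1 ∨ ∃ r, pW (gI I q).right = gI I r) I q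
        with e | ⟨r, e⟩ <;> rw [e]
      exacts [map_one pW ▸ one_mem _, g r]
    · simp only [gI_eq]
      exact (by decide +kernel : ∀ I p, XI I p → bit (sp (List.ofFn fun q : Fin 8 => (if bit I.val (q.val / 2) then
        ⟨if q.val % 2 = 0 then 1 else o (3 * 4 ^ (q.val / 2)), o (2 ^ (q.val / 2))⟩ else ⟨eb q, 1⟩ : TW).right) 1)
        p.v = true) I _ hx.1

theorem card_prod (S : Subgroup TW) (P : EG → Prop) (Q : P8 → Prop) [DecidablePred P] [DecidablePred Q]
    (h : ∀ x, x ∈ S ↔ P x.left ∧ Q x.right) : Nat.card S = cnt P * cnt Q := by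
  rw [← TG.card_subtype, ← TG.card_subtype, ← Nat.card_prod]
  exact Nat.card_congr ((SemidirectProduct.equivProd.subtypeEquiv h).trans Equiv.subtypeProdEquivProd)

theorem card_BI (I : Fin 16) : Nat.card (BI I) = 256 := by
  rw [card_prod _ (EI I) (XI I) fun _ => and_comm]
  revert I; decide +kernel

theorem conj_right (x y : TW) : (x * y * x⁻¹).right = x.right * y.right * x.right⁻¹ := rfl

theorem conj_left (x y : TW) : (x * y * x⁻¹).left =
    x.left * apf (x.right * y.right * x.right⁻¹) x.left * aP x.right y.left := by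
  simp only [SemidirectProduct.mul_left, SemidirectProduct.inv_left, SemidirectProduct.mul_right]
  rw [← MulAut.mul_apply, ← map_mul, inv_eq_of_mul_eq_one_right (EG.sq _), mul_right_comm]
  rfl

theorem cj_BI {I K : Fin 16} {p : P8} (h : p * o I.val * p⁻¹ = o K.val) : cj (pW p) (BI I) = BI K := by
  refine eq_of_le_of_card_ge (cj_le_iff.2 fun y hy => ⟨?_, ?_⟩) (by rw [card_cj, card_BI, card_BI])
  · exact (by decide +kernel : ∀ (p : P8) (I K : Fin 16), p * o I.val * p⁻¹ = o K.val → ∀ q, XI I q →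
      XI K (p * q * p⁻¹)) p I K h _ hy.1
  · rw [conj_left, SemidirectProduct.left_inr, SemidirectProduct.right_inr, ← aP_apply, map_one, one_mul, one_mul,
      EI, ← h, aP_apply, ← apf_mul, inv_mul_cancel_right, apf_mul, hy.2]

theorem card_range {P : Type*} [Group P] [Finite P] (f : P →* TW) : Nat.card f.range ≤ Nat.card P :=
  Nat.card_le_card_of_surjective _ f.rangeRestrict_surjective

theorem two_TW : IsPGroup 2 TW := IsPGroup.of_card card_TW

theorem AI_zero : AI 0 = bW.range := by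
  refine eq_of_le_of_card_ge ((closure_le _).2 ?_) (by rw [AI_eq, card_BI]; exact (card_range _).trans card_eq.le)
  rintro _ ⟨q, rfl⟩
  exact ⟨eb q, by rw [gI, if_neg ((by decide +kernel : ∀ q : Fin 8, ¬ bit (0 : Fin 16).val (q.val / 2) = true) q)]⟩

theorem AI_top : AI 15 = tE.range := by
  refine eq_of_le_of_card_ge ((closure_le _).2 ?_) (by rw [AI_eq, card_BI]; exact (card_range _).trans card_eq.le)
  rintro _ ⟨q, rfl⟩
  exact ⟨eb q, by rw [gI, if_pos ((by decide +kernel : ∀ q : Fin 8, bit (15 : Fin 16).val (q.val / 2) = true) q)]⟩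

theorem AI_sq (I : Fin 16) : ∀ x ∈ AI I, x * x = 1 := fun x hx => by
  rw [AI_eq] at hx
  refine SemidirectProduct.ext ?_ (XI_mul _ _ hx.1).1
  rw [SemidirectProduct.mul_left, aP_apply, (EI_fix _ _ hx.1 _).1 hx.2]
  exact EG.sq _

/-- `|A_I ⊓ A_K| = 2^(8 - |I Δ K|)`; `x ∈ A_I` iff `x.right` is a product of `x_i`, `i ∈ I`, and
`x.left` is even on the blocks in `I`. -/
theorem card_inf (I K : Fin 16) : Nat.card ↥(AI I ⊓ AI K) * 2 ^ wI (Nat.xor I.val K.val) = 256 := by
  rw [AI_eq, AI_eq, card_prod (BI I ⊓ BI K) (fun e => EI I e ∧ EI K e) (fun p => XI I p ∧ XI K p) fun x =>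
    ⟨fun h => ⟨⟨h.1.2, h.2.2⟩, h.1.1, h.2.1⟩, fun h => ⟨⟨h.2.1, h.1.1⟩, h.2.2, h.1.2⟩⟩]
  revert I K; decide +kernel

/-- `Y = F.map rightHom` is elementary abelian in `P8`, `F ⊓ B' ≤ C_{B'}(Y)`, `|C_{B'}(Y)| = 2^{orbits}`;
`|Y| · 2^{orbits} ≥ 256` forces `Y` to be generated by transpositions `x_i`, `i ∈ I` (an orbit of
length `2^k` contributes at most `k + 1 ≤ 2^k`, with equality iff `k ≤ 1`), `F ⊓ B' = C_{B'}(Y)`, and
each `w ∈ F` satisfies `w² = 1` and centralizes `C_{B'}(Y)`. (Alternative: `F ⊓ range i1` has order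
`≥ 128`, use `A16.exists_Y`.) -/
theorem big_TW {F : Subgroup TW} (h : ∀ x ∈ F, x * x = 1) (hc : 256 ≤ Nat.card F) : ∃ I, F = AI I := by
  classical
  have c : Nat.card F = Nat.card (F.comap bW) * Nat.card (F.map (SemidirectProduct.rightHom : TW →* P8)) := by
    rw [← ((SemidirectProduct.rightHom : TW →* P8).domRestrict F).ker.card_mul_index, index_ker, MonoidHom.domRestrict_range,
      ← card_map_of_injective (K := F.comap bW) (f := bW) SemidirectProduct.inl_injective, map_comap_eq,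
      SemidirectProduct.range_inl_eq_ker_rightHom, MonoidHom.ker_domRestrict,
      ← card_map_of_injective F.subtype_injective, subgroupOf_map_subtype]
  obtain ⟨i, hi, h1⟩ := exists_elP (Y := F.map SemidirectProduct.rightHom) (by
    rintro _ ⟨x, hx, rfl⟩; rw [← map_mul, h x hx, map_one])
  have h2 : ∀ f ∈ F, f.right.v < 16 := by
    rcases (elP_size i hi).2 with k | k
    · intro f hf
      have := (h1 f.right).1 ⟨f, hf, rfl⟩
      rw [bit_eq] at this
      by_contra hn
      rw [Nat.testBit_eq_false_of_lt (k.trans_le (Nat.pow_le_pow_right (i := 16) two_pos (not_lt.1 hn)))] at this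
      cases this
    · have k1 : ∀ e ∈ F.comap bW, ∀ k < 4, apf (o (gnP i k)) e = e := fun e he k hk => by
        obtain ⟨f, hf, e'⟩ := (h1 (o (gnP i k))).2 (by rw [v_o (gnP_lt i k)]; exact (elP_size i hi).1 k hk)
        have := congrArg SemidirectProduct.left (comm_sq h hf he)
        simp only [SemidirectProduct.mul_left, SemidirectProduct.left_inl, SemidirectProduct.right_inl, map_one,
          MulAut.one_apply] at this
        rw [← e']
        exact mul_left_cancel (this.trans (mul_comm _ _))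
      have k2 : Nat.card (F.comap bW) ≤ cnt (FxP i) := by
        rw [← TG.card_subtype]
        exact Nat.card_le_card_of_injective (fun e => ⟨e.1, k1 _ e.2 0 (by decide), k1 _ e.2 1 (by decide),
          k1 _ e.2 2 (by decide), k1 _ e.2 3 (by decide)⟩) fun a b e => Subtype.ext (Subtype.mk.inj e)
      rw [c, card_subgroup _ _ h1] at hc
      exact absurd (hc.trans ((Nat.mul_le_mul_right _ k2).trans k)) (by decide)
  obtain ⟨I, hI⟩ := (by decide +kernel : ∀ a b c d : Bool, ∃ I : Fin 16, ∀ k : Fin 4,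
    bit I.val k.val = ![a, b, c, d] k) (∃ f ∈ F, bit f.right.v 0) (∃ f ∈ F, bit f.right.v 1)
    (∃ f ∈ F, bit f.right.v 2) (∃ f ∈ F, bit f.right.v 3)
  have h3 : ∀ k : Fin 4, bit I.val k.val = true ↔ ∃ f ∈ F, bit f.right.v k.val = true := fun k => by
    rw [hI]; fin_cases k <;> simp
  have h4 : ∀ f ∈ F, apf f.right f.left = f.left := fun f hf => by
    have := congrArg SemidirectProduct.left (h f hf)
    rw [SemidirectProduct.mul_left, SemidirectProduct.one_left, ← EG.sq f.left] at this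
    exact mul_left_cancel this
  have h5 : ∀ f ∈ F, ∀ k : Fin 4, bit f.right.v k.val = true → apf (o (2 ^ k.val)) f.left = f.left :=
    fun f hf k hk => (by decide +kernel : ∀ p : P8, p.v < 16 → ∀ k : Fin 4, bit p.v k.val = true → ∀ e,
      apf p e = e → apf (o (2 ^ k.val)) e = e) _ (h2 f hf) k hk _ (h4 f hf)
  refine ⟨I, eq_of_le_of_card_ge (fun f hf => ?_) (by rwa [AI_eq, card_BI])⟩
  rw [AI_eq]
  refine ⟨(by decide +kernel : ∀ (I : Fin 16) (p : P8), p.v < 16 → (∀ k : Fin 4, bit p.v k.val = true →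
      bit I.val k.val = true) → XI I p) I _ (h2 f hf) fun k hk => (h3 k).2 ⟨f, hf, hk⟩,
    (by decide +kernel : ∀ (I : Fin 16) (e : EG), (∀ k : Fin 4, bit I.val k.val = true →
      apf (o (2 ^ k.val)) e = e) → EI I e) I _ fun k hk => ?_⟩
  obtain ⟨g, hg, k1⟩ := (h3 k).1 hk
  by_cases k2 : bit f.right.v k.val = true
  · exact h5 f hf k k2
  have k3 := h5 _ (mul_mem hg hf) k ((by decide +kernel : ∀ p : P8, p.v < 16 → ∀ q : P8, q.v < 16 → ∀ k : Fin 4,
    bit p.v k.val = true → ¬ bit q.v k.val = true → bit (p * q).v k.val = true) _ (h2 g hg) _ (h2 f hf) k k1 k2)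
  rw [SemidirectProduct.mul_left, apf_add, h5 g hg k k1, mul_left_cancel_iff, aP_apply, ← apf_mul,
    X_comm ((by decide +kernel : ∀ k : Fin 4, (o (2 ^ k.val) : P8).v < 16) k) (h2 g hg), apf_mul] at k3
  exact (aP g.right).injective k3

theorem AI_norm (I K : Fin 16) : AI K ≤ normalizer (AI I : Set TW) := fun x hx => by
  rw [AI_eq] at hx ⊢
  refine mem_normalizer_of_forall fun y hy => ?_
  have e : x.right * y.right * x.right⁻¹ = y.right := by
    rw [X_comm (XI_lt _ _ hx.1) (XI_lt _ _ hy.1), mul_inv_cancel_right]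
  rw [mem_BI, conj_left, conj_right, e]
  exact ⟨hy.1, EI_mul (EI_fix _ _ hy.1 _).2 (EI_ap hy.2 (XI_lt _ _ hx.1))⟩

/-- `P8` acts on the blocks as `D₈` -/
theorem AI_conj (I K : Fin 16) (h : wI I.val = wI K.val) (h2 : wI I.val ≠ 2 ∨ I.val + K.val = 15) :
    ∃ t, cj t (AI I) = AI K := by
  obtain ⟨p, hp⟩ := (by decide +kernel : ∀ I K : Fin 16, wI I.val = wI K.val → (wI I.val ≠ 2 ∨ I.val + K.val = 15) →
    ∃ p : P8, p * o I.val * p⁻¹ = o K.val) I K h h2
  exact ⟨pW p, by rw [AI_eq, AI_eq, cj_BI hp]⟩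

theorem AI_normal {I : Fin 16} (h : ∀ t, cj t (AI I) = AI I) : I = 0 ∨ I = 15 := by
  rcases (by decide +kernel : ∀ I : Fin 16, (I = 0 ∨ I = 15) ∨ ∃ p : P8, ¬ XI I (p * o I.val * p⁻¹)) I with e | ⟨p, hp⟩
  · exact e
  have k := h (pW p)
  rw [AI_eq] at k
  exact absurd (k.le (conj_mem_cj.2 (show pW (o I.val) ∈ BI I from ⟨XI_self I, map_one (aP _)⟩))).1 hp

theorem cent_bW {x : TW} (h : ∀ e, x * bW e = bW e * x) : x ∈ bW.range := by
  rw [SemidirectProduct.range_inl_eq_ker_rightHom]
  refine (by decide +kernel : ∀ p : P8, (∀ q, apf p (eb q) = eb q) → p = 1) _ fun q => ?_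
  have := congrArg SemidirectProduct.left (h (eb q))
  simp only [SemidirectProduct.mul_left, SemidirectProduct.left_inl, SemidirectProduct.right_inl, map_one,
    MulAut.one_apply] at this
  exact mul_left_cancel (this.trans (mul_comm _ _))

theorem center_TW {x : TW} (h : ∀ t, x * t = t * x) : x = 1 ∨ x = bW ze := by
  obtain ⟨e, rfl⟩ := cent_bW fun e => h _
  rcases (by decide +kernel : ∀ e : EG, (∀ g ∈ gP, apf g e = e) → e = 1 ∨ e = ze) e (fun g _ => by
    have := congrArg SemidirectProduct.left (h (pW g))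
    simpa [aP_apply] using this.symm) with rfl | rfl
  exacts [Or.inl (map_one _), Or.inr rfl]

theorem iT_inj : Injective iT := (injective_iff_map_eq_one _).2 fun x hx => by
  rw [← SemidirectProduct.inl_left_mul_inr_right x] at hx ⊢
  rw [map_mul, iT_bW, iT_pW] at hx
  have h1 : x.right = 1 := pw_inj (by
    have := congrArg WB.s hx
    rw [WB.mul_s, eB_s, one_mul] at this
    exact this.trans (map_one _).symm)
  rw [h1, map_one, map_one, mul_one] at hx
  rw [h1, (by decide +kernel : ∀ e, eB e = 1 → e = 1) _ hx, map_one, map_one, one_mul]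

theorem i1_inj : Injective i1 := fun a b h => iw_inj (by
  have := (DFunLike.congr_fun iT_i1 a).symm.trans ((congrArg iT h).trans (DFunLike.congr_fun iT_i1 b))
  exact WD.ext' (fun q => congrFun (congrArg WB.b this) q) fun q => congrArg (fun w : WB => w.s q) this)

/-- `range i1` is the kernel of `x ↦ par x.left` -/
theorem mem_i1 {x : TW} : x ∈ i1.range ↔ par x.left = false := by
  refine ⟨fun ⟨s, e⟩ => e ▸ (by decide +kernel : ∀ b, par (iB b) = false) _, fun h => ?_⟩
  refine ⟨bet (o (x.left.v / 2)) * trH x.right, ?_⟩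
  rw [map_mul, i1_bet, i1_trH, (by decide +kernel : ∀ e : EG, par e = false → iB (o (e.v / 2)) = e) _ h,
    SemidirectProduct.inl_left_mul_inr_right]

end CfsgLib.Har
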