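import Cfsg.Agent.Lib.Har.Sh
import Cfsg.Agent.Lib.Har.E256

/-!
Project HAR (S1918, plans/HAR.md). Normalizing a section over `P8` (package COC).
-/

set_option autoImplicit false
set_option Elab.async false
set_option linter.unusedSectionVars false
set_option synthInstance.maxSize 100000
set_option maxRecDepth 100000

namespace CfsgLib.Har

open Subgroup Equiv Function CfsgLib.W2 CfsgLib.W2.TG CfsgLib.Tech CfsgLib.PComp Cfsg CfsgLib.A16
  CfsgLib.SylT

private theorem coc_inj : Injective eB := (injective_iff_map_eq_one _).2 fun e h =>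
  (by decide +kernel : ∀ e : EG, (∀ q, bv e.v q = 0) → e = 1) e fun q => by
    rw [← eB_b, h]; rfl

private theorem coc_dec (x : WB) : ∃ e, x = eB e * liftB x.s := by
  have hi : Injective fun e : EG => bv e.v := fun a b h => coc_inj (WB.ext h rfl)
  have hb : Bijective fun e : EG => bv e.v :=
    (Nat.bijective_iff_injective_and_card _).2 ⟨hi, by rw [card_eq]; simp⟩
  obtain ⟨e, he⟩ := hb.2 x.b
  refine ⟨e, WB.ext' (fun p => ?_) fun p => ?_⟩
  · rw [← he]
    exact (add_zero _).symm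
  · rfl

private theorem coc_mul (a b : EG) (p : P8) (t : Perm (Fin 8)) :
    eB a * liftB (pw p) * (eB b * liftB t) = eB (a * aP p b) * liftB (pw p * t) := by
  rw [map_mul, map_mul, eB_aP]; group

private theorem coc_s (a : EG) (t : Perm (Fin 8)) : (eB a * liftB t).s = t := one_mul t

private theorem coc_can {a b : EG} {s t : Perm (Fin 8)} (h : eB a * liftB s = eB b * liftB t) :
    a = b := by
  have h1 : s = t := by rw [← coc_s a s, h, coc_s]
  rw [h1] at h
  exact coc_inj (mul_right_cancel h)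

private theorem coc_fix {b : EG} {s t : Perm (Fin 8)} {p : P8}
    (h : liftB (pw p) * (eB b * liftB s) = eB b * liftB s * liftB t) : aP p b = b := by
  have h1 := coc_mul 1 b p s
  rw [map_one, one_mul, one_mul, h, mul_assoc, ← map_mul] at h1
  exact (coc_can h1).symm

private theorem coc_V : ∀ c : EG, (∀ i, aP (pv i) c = c) → c = 1 ∨ c = ze := by decide +kernel

private theorem coc_ze : eB ze = zB := by decide +kernel

private theorem coc_odd {s : Perm (Fin 8)} (hs : s ^ 21 = 1) {b : EG} (hb : b = 1 ∨ b = ze)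
    (ho : Odd (orderOf (eB b * liftB s))) : b = 1 := by
  refine hb.resolve_right fun h => ?_
  have hc : Commute zB (liftB s) := WB.ext' (fun p => by simp [zB, liftB, inc, lift]) fun p => by simp [zB]
  have h2 : zB ^ 2 = 1 := by decide +kernel
  have h3 : zB ≠ 1 := by decide +kernel
  have h4 : (zB * liftB s) ^ 21 = zB := by
    rw [hc.mul_pow, ← map_pow, hs, map_one, mul_one, show 21 = 2 * 10 + 1 from rfl, pow_succ, pow_mul, h2,
      one_pow, one_mul]
  have h5 := orderOf_pow_dvd (x := zB * liftB s) 21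
  rw [h4, orderOf_eq_prime h2 h3] at h5
  rw [h, coc_ze] at ho
  exact (Nat.not_even_iff_odd.2 ho) (even_iff_two_dvd.2 h5)

/-- the sign as an element of `ZMod 2` -/
private def sg2 (s : Perm (Fin 8)) : ZMod 2 := if Perm.sign s = 1 then 0 else 1

private theorem sg2_mul (s t : Perm (Fin 8)) : sg2 (s * t) = sg2 s + sg2 t := by
  unfold sg2
  rw [map_mul]
  rcases Int.units_eq_one_or (Perm.sign s) with h | h <;>
    rcases Int.units_eq_one_or (Perm.sign t) with k | k <;> rw [h, k] <;> decide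

private def twB : WB ≃* WB where
  toFun x := ⟨fun p => x.b p + sg2 x.s, x.s⟩
  invFun x := ⟨fun p => x.b p + sg2 x.s, x.s⟩
  left_inv x := WB.ext' (fun p => by simp only [add_assoc, WD.aa, add_zero]) fun _ => rfl
  right_inv x := WB.ext' (fun p => by simp only [add_assoc, WD.aa, add_zero]) fun _ => rfl
  map_mul' x y := WB.ext' (fun p => by simp only [WB.mul_b, WB.mul_s, sg2_mul]; ring) fun _ => rfl

private theorem coc_fin (f : TW →* WB) (h1 : ∀ e, f (bW e) = eB e)
    (h2 : ∀ p ∈ gP, f (pW p) = liftB (pw p)) (t : TW) : f t = iT t := by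
  refine DFunLike.congr_fun (SemidirectProduct.hom_ext (f := f) (g := iT) (MonoidHom.ext fun e => ?_)
    (hom_ext gP_gen fun p hp => ?_)) t
  · exact (h1 e).trans (iT_bW e).symm
  · exact (h2 p hp).trans (iT_pW p).symm

private theorem coc1 (g : TW →* WB) (h1 : ∀ e, g (bW e) = eB e) (h2 : ∀ p, (g (pW p)).s = pw p)
    (h3 : ∀ i, g (pW (pv i)) = liftB (pw (pv i))) {w : WB}
    (hw : w.s = r8) (hv : W2.Rel g w (pW (o 15)) (pW (o 48)) ∧ W2.Rel g w (pW (o 48)) (pW (o 64)) ∧
      W2.Rel g w (pW (o 64)) (pW (o 15)))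
    (ho : Odd (orderOf w) ∧ Odd (orderOf (g (pW (o 10)) * w)) ∧ Odd (orderOf (g (pW (o 32)) * w))) :
    ∃ Θ : WB ≃* WB, ∀ t, Θ (g t) = iT t := by
  have a0 : g (pW (o 15)) = liftB (pw (o 15)) := h3 0
  have a1 : g (pW (o 48)) = liftB (pw (o 48)) := h3 1
  have a2 : g (pW (o 64)) = liftB (pw (o 64)) := h3 2
  obtain ⟨b, hb⟩ := coc_dec w
  rw [hw] at hb
  have hr : ∀ p q : P8, g (pW p) = liftB (pw p) → g (pW q) = liftB (pw q) → W2.Rel g w (pW p) (pW q) →
      aP q b = b := fun p q hp hq h => by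
    refine coc_fix (s := r8) (t := pw p) ?_
    rw [← hb, ← hp, ← hq, ← h, inv_mul_cancel_right]
  have hb1 : b = 1 := by
    refine coc_odd (s := r8) (by decide +kernel) (coc_V b fun i => ?_) (hb ▸ ho.1)
    fin_cases i
    · exact hr _ _ a2 a0 hv.2.2
    · exact hr _ _ a0 a1 hv.1
    · exact hr _ _ a1 a2 hv.2.1
  rw [hb1, map_one, one_mul] at hb
  let S : Subgroup P8 := (g.comp pW).eqLocus (liftB.comp pw)
  have hS : ∀ p, p ∈ S ↔ g (pW p) = liftB (pw p) := fun _ => Iff.rfl
  have hn : ∀ x : P8, (∀ i, x⁻¹ * pv i * x ∈ S) →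
      ∃ c, (c = 1 ∨ c = ze) ∧ g (pW x) = eB c * liftB (pw x) := fun x hx => by
    obtain ⟨c, hc⟩ := coc_dec (g (pW x))
    rw [h2] at hc
    refine ⟨c, coc_V c fun i => coc_fix (s := pw x) (t := pw (x⁻¹ * pv i * x)) ?_, hc⟩
    rw [← hc, ← h3, ← (hS _).1 (hx i), ← map_mul, ← map_mul, ← map_mul, ← map_mul]
    congr 2; group
  have m3 : ∀ p ∈ ([o 15, o 48, o 64] : List P8), p ∈ S := by
    simp only [List.forall_mem_cons]
    exact ⟨a0, a1, a2, by simp⟩
  have hx : ∀ x : P8, (∀ i, bit (sp ([o 15, o 48, o 64] : List P8) 3) (x⁻¹ * pv i * x).v = true) →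
      (pw x * r8) ^ 21 = 1 → Odd (orderOf (g (pW x) * w)) → g (pW x) = liftB (pw x) := fun x k1 k2 k3 => by
    obtain ⟨c, hc, hc2⟩ := hn x fun i => mem_of_sp m3 (k1 i)
    rw [hc2, hb, mul_assoc, ← map_mul] at k3
    rw [hc2, coc_odd k2 hc k3, map_one, one_mul]
  have a3 := hx (o 10) (by decide +kernel) (by decide +kernel) ho.2.1
  have a4 := hx (o 32) (by decide +kernel) (by decide +kernel) ho.2.2
  have m5 : ∀ p ∈ ([o 15, o 48, o 64, o 10, o 32] : List P8), p ∈ S := by
    simp only [List.forall_mem_cons]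
    exact ⟨a0, a1, a2, a3, a4, by simp⟩
  have k5 : ∀ i, bit (sp ([o 15, o 48, o 64, o 10, o 32] : List P8) 6)
      ((o 1 : P8)⁻¹ * pv i * o 1).v = true := by decide +kernel
  obtain ⟨c, hc, hc2⟩ := hn (o 1) fun i => mem_of_sp m5 (k5 i)
  rcases hc with rfl | rfl
  · rw [map_one, one_mul] at hc2
    refine ⟨MulEquiv.refl _, coc_fin g h1 ?_⟩
    simp only [gP, List.forall_mem_cons]
    exact ⟨hc2, a1, a2, a4, by simp⟩
  · refine ⟨twB, coc_fin (twB.toMonoidHom.comp g) (fun e => ?_) ?_⟩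
    · change twB (g _) = _
      rw [h1]
      refine WB.ext' (fun p => ?_) fun _ => rfl
      change _ + sg2 1 = _
      rw [sg2, map_one, if_pos rfl, add_zero]
    · simp only [gP, List.forall_mem_cons]
      refine ⟨?_, ?_, ?_, ?_, by simp⟩ <;> change twB (g _) = _
      · rw [hc2]; decide +kernel
      · rw [a1]; decide +kernel
      · rw [a2]; decide +kernel
      · rw [a4]; decide +kernel

/-- `g (pW p) = eB (c p) · liftB (pw p)` with `c` a cocycle `P8 → EG`. By `shE`, after conjugation by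
some `eB a` (first `Θ`), `c (pv i) = 1`. Then `w = eB b · liftB r8` normalizes `liftB V` as `r8` does,
so `b` is fixed by `V`, `b ∈ {1, ze}`, and `b = 1` as `w` has odd order (`zB` is central). In the same
way `c (o 10), c (o 32) ∈ {1, ze}` (they normalize `V`), and they are `1` since `g (pW (o 10)) w`,
`g (pW (o 32)) w` have odd order. Then `c (o 1) ∈ {1, ze}` (relations of `P8`, decide over 256
values); in the second case compose with the automorphism `x ↦ x · zB^{sign x.s}`. -/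
theorem coc (g : TW →* WB) (h1 : ∀ e, g (bW e) = eB e) (h2 : ∀ p, (g (pW p)).s = pw p) {w : WB}
    (hw : w.s = r8) (hv : W2.Rel g w (pW (o 15)) (pW (o 48)) ∧ W2.Rel g w (pW (o 48)) (pW (o 64)) ∧
      W2.Rel g w (pW (o 64)) (pW (o 15)))
    (ho : Odd (orderOf w) ∧ Odd (orderOf (g (pW (o 10)) * w)) ∧ Odd (orderOf (g (pW (o 32)) * w))) :
    ∃ Θ : WB ≃* WB, ∀ t, Θ (g t) = iT t := by
  choose c hc using fun i => coc_dec (g (pW (pv i)))
  simp only [h2] at hc
  have k1 : ∀ i, pv i * pv i = 1 ∧ ∀ j, pv i * pv j = pv j * pv i := by decide +kernel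
  obtain ⟨a, ha⟩ := shE c (fun i => by
      have h := coc_mul (c i) (c i) (pv i) (pw (pv i))
      rw [← hc, ← map_mul, ← map_mul, (k1 i).1, map_one, map_one, ← one_mul 1, ← map_one eB] at h
      nth_rw 2 [map_one eB] at h
      rw [← map_one liftB] at h
      exact (coc_can h).symm)
    (fun i j => by
      have h := coc_mul (c i) (c j) (pv i) (pw (pv j))
      have h' := coc_mul (c j) (c i) (pv j) (pw (pv i))
      rw [← hc, ← hc, ← map_mul, ← map_mul] at h h'
      rw [(k1 i).2 j, h'] at h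
      exact (coc_can h).symm)
  let φ : WB ≃* WB := MulAut.conj (eB a)
  have hφ : ∀ x, φ x = eB a * x * (eB a)⁻¹ := fun _ => rfl
  have hs : ∀ x, (φ x).s = x.s := fun x => by
    rw [hφ, WB.mul_s, WB.mul_s, WB.inv_s, eB_s, inv_one, mul_one, one_mul]
  have hr : ∀ p q, W2.Rel g w p q → W2.Rel (φ.toMonoidHom.comp g) (φ w) p q := fun p q h => by
    change φ w * φ (g p) * (φ w)⁻¹ = φ (g q)
    rw [← map_inv, ← map_mul, ← map_mul, h]
  have hor : ∀ p, orderOf ((φ.toMonoidHom.comp g) p * φ w) = orderOf (g p * w) := fun p => by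
    change orderOf (φ (g p) * φ w) = _
    rw [← map_mul, MulEquiv.orderOf_eq]
  have g1 : ∀ e, (φ.toMonoidHom.comp g) (bW e) = eB e := fun e => by
    change φ (g _) = _
    rw [h1, hφ, ← map_mul, mul_comm a e, map_mul, mul_inv_cancel_right]
  have g3 : ∀ i, (φ.toMonoidHom.comp g) (pW (pv i)) = liftB (pw (pv i)) := fun i => by
    change φ (g _) = _
    rw [hφ, hc, ha, ← mul_assoc, ← map_mul, ← mul_assoc, EG.sq, one_mul, eB_aP]
    group
  obtain ⟨Θ, hΘ⟩ := coc1 (φ.toMonoidHom.comp g) g1 (fun p => (hs _).trans (h2 p)) g3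
    (w := φ w) ((hs w).trans hw) ⟨hr _ _ hv.1, hr _ _ hv.2.1, hr _ _ hv.2.2⟩
    ⟨by rw [MulEquiv.orderOf_eq]; exact ho.1, by rw [hor]; exact ho.2.1, by rw [hor]; exact ho.2.2⟩
  exact ⟨φ.trans Θ, hΘ⟩

end CfsgLib.Har
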