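import Cfsg.Agent.Lib.Har.Defs2

/-!
Project HAR (S1918, plans/HAR.md): generators of the regular group `V`.
-/

set_option autoImplicit false
set_option Elab.async false
set_option synthInstance.maxSize 100000
set_option maxRecDepth 100000

namespace CfsgLib.Har

open Subgroup Equiv Function CfsgLib.W2 CfsgLib.W2.TG CfsgLib.Tech CfsgLib.PComp Cfsg CfsgLib.A16
  CfsgLib.SylT

noncomputable section

def vv (i : Fin 3) : TL := ![TL.x25, TL.x35, TL.x45] i
def pv (i : Fin 3) : P8 := ![o 15, o 48, o 64] i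
def pp (i : Fin 3) : Fin 8 := ![1, 2, 4] i

theorem vv_facts : ∀ i, i0 (vv i) = trH (pv i) ∧ pw (pv i) 0 = pp i ∧ TL.In 698 (vv i) ∧
    vv i * vv i = 1 ∧ ∀ j, vv i * vv j = vv j * vv i := by decide +kernel

variable {G : Type*} [Group G]

/-- the group `⟨T₀, y⟩` -/
abbrev T1 (J : TL →* G) (y : G) : Subgroup G := J.range ⊔ zpowers y

end

end CfsgLib.Har
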