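import Cfsg.Agent.Lib.Har.Defs3

/-!
Project HAR (S1918, plans/HAR.md). Automorphisms of `TL` permute `A, A₁, A', A₁'` (package DI0).
-/

set_option autoImplicit false
set_option Elab.async false
set_option linter.unusedSectionVars false
set_option synthInstance.maxSize 100000
set_option maxRecDepth 100000

namespace CfsgLib.Har

open Subgroup Equiv Function CfsgLib.W2 CfsgLib.W2.TG CfsgLib.Tech CfsgLib.PComp Cfsg CfsgLib.A16
  CfsgLib.SylT

namespace Di0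

def Pw (w : TL) : Prop := w * w = 1 ∧ cnt (fun r : TL => r * w = w * r) = 128 ∧
  (∀ c, w * (c * w * c⁻¹) = c * w * c⁻¹ * w) ∧ cnt (fun r : TL => r * r = 1 ∧ r * w = w * r) < 64

theorem key : ∀ w : TL, w * w = 1 → cnt (fun r : TL => r * w = w * r) = 128 →
    (∀ c, w * (c * w * c⁻¹) = c * w * c⁻¹ * w) → cnt (fun r : TL => r * r = 1 ∧ r * w = w * r) < 64 →
    TL.In 698 w ∨ TL.In 698 (ku w) ∨ TL.In 884 w ∨ TL.In 884 (TL.γ (ku (TL.γ w))) := by decide +kernel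

theorem pw0 : Pw TL.x45 ∧ Pw TL.x12 := by unfold Pw; decide +kernel

theorem Pw.map {w : TL} (h : Pw w) (α : MulAut TL) : Pw (α w) := by
  obtain ⟨h1, h2, h3, h4⟩ := h
  refine ⟨by rw [← map_mul, h1, map_one], ?_, fun c => ?_, ?_⟩
  · rw [← h2, ← card_subtype, ← card_subtype]
    exact (Nat.card_congr (α.toEquiv.subtypeEquiv fun r => by
      change _ ↔ α r * α w = α w * α r
      rw [← map_mul, ← map_mul, α.injective.eq_iff])).symm
  · obtain ⟨c, rfl⟩ := α.surjective c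
    simpa using congrArg α (h3 c)
  · refine lt_of_eq_of_lt ?_ h4
    rw [← card_subtype, ← card_subtype]
    exact (Nat.card_congr (α.toEquiv.subtypeEquiv fun r => by
      change _ ↔ α r * α r = 1 ∧ α r * α w = α w * α r
      rw [← map_mul, ← map_mul, ← map_mul, α.injective.eq_iff, map_eq_one_iff α α.injective])).symm

theorem nAT : AT.Normal := ⟨fun x hx c => TL.conj_of_gen (X := AT) (by decide +kernel :
  ∀ g ∈ [TL.x12, TL.x23, TL.x34, TL.x45], ∀ x, TL.In 698 x → TL.In 698 (g * x * g⁻¹)) c x hx⟩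
theorem nAP : AP.Normal := ⟨fun x hx c => TL.conj_of_gen (X := AP) (by decide +kernel :
  ∀ g ∈ [TL.x12, TL.x23, TL.x34, TL.x45], ∀ x, TL.In 884 x → TL.In 884 (g * x * g⁻¹)) c x hx⟩
theorem nA1 : A1.Normal := nAT.comap _
theorem nA1P : A1P.Normal := nAP.comap _

theorem cAT : Nat.card AT = 16 := (card_subgroup _ _ fun _ => mem_AT).trans (by decide +kernel)
theorem cAP : Nat.card AP = 16 := (card_subgroup _ _ fun _ => mem_AP).trans (by decide +kernel)
theorem cA1 : Nat.card A1 = 16 := (card_subgroup _ _ fun _ => mem_A1).trans (by decide +kernel)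
theorem cA1P : Nat.card A1P = 16 := (card_subgroup _ _ fun _ => mem_A1P).trans (by decide +kernel)

theorem gAT {Y : Subgroup TL} (hY : Y.Normal) (h : TL.x45 ∈ Y) : AT ≤ Y := fun t ht =>
  mem_of_sp (gs := [1, TL.x34, TL.x23 * TL.x34, TL.x12 * TL.x23 * TL.x34].map fun c => c * TL.x45 * c⁻¹)
    (D := 2) (fun _ hg => by obtain ⟨c, -, rfl⟩ := List.mem_map.1 hg; exact hY.conj_mem _ h c)
    (by change TL.In 698 t at ht; revert t; decide +kernel)

theorem gAP {Y : Subgroup TL} (hY : Y.Normal) (h : TL.x12 ∈ Y) : AP ≤ Y := fun t ht =>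
  mem_of_sp (gs := [1, TL.x23, TL.x34 * TL.x23, TL.x45 * TL.x34 * TL.x23].map fun c => c * TL.x12 * c⁻¹)
    (D := 2) (fun _ hg => by obtain ⟨c, -, rfl⟩ := List.mem_map.1 hg; exact hY.conj_mem _ h c)
    (by change TL.In 884 t at ht; revert t; decide +kernel)

theorem img (α : MulAut TL) {S : Subgroup TL} {w : TL} (hw : Pw w) (hS : Nat.card S = 16)
    (hg : ∀ {Y : Subgroup TL}, Y.Normal → w ∈ Y → S ≤ Y) :
    (S.map α.toMonoidHom = AT ∨ S.map α.toMonoidHom = A1) ∨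
      (S.map α.toMonoidHom = AP ∨ S.map α.toMonoidHom = A1P) := by
  have k : ∀ X : Subgroup TL, X.Normal → Nat.card X = 16 → α w ∈ X → S.map α.toMonoidHom = X :=
    fun X h1 h2 h3 => eq_of_le_of_card_ge (map_le_iff_le_comap.2 (hg (h1.comap _) h3))
      (by rw [h2, card_map_of_injective α.injective, hS])
  obtain ⟨h1, h2, h3, h4⟩ := hw.map α
  rcases key _ h1 h2 h3 h4 with e | e | e | e
  exacts [.inl (.inl (k _ nAT cAT e)), .inl (.inr (k _ nA1 cA1 e)), .inr (.inl (k _ nAP cAP e)),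
    .inr (.inr (k _ nA1P cA1P e))]

theorem bad (α : MulAut TL) {u : TL} (h1 : u ≠ 1) (h2 : u ≠ TL.z) (a : u ∈ AT.map α.toMonoidHom)
    (b : u ∈ AP.map α.toMonoidHom) : False := by
  have k : ∀ t, TL.In 698 t → TL.In 884 t → t = 1 ∨ t = TL.z := by decide +kernel
  obtain ⟨s, hs, rfl⟩ := a
  obtain ⟨t, ht, e⟩ := b
  obtain rfl : t = s := α.injective e
  rcases k t hs ht with rfl | rfl
  · exact h1 (map_one _)
  · have c : ∀ x, α TL.z * x = x * α TL.z := fun x => by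
      obtain ⟨x, rfl⟩ := α.surjective x
      rw [← map_mul, ← map_mul, TL.zc]
    rcases TL.center_eq _ (c _) (c _) (c _) (c _) with e | e
    exacts [h1 e, h2 e]

theorem sup_eq {X Y : Subgroup TL} (gs : List TL) (hX : X ≤ TL.Q) (hY : Y ≤ TL.Q)
    (h : ∀ g ∈ gs, g ∈ X ∨ g ∈ Y) (h' : ∀ t, TL.InQ t → bit (sp gs 3) t.v = true) : X ⊔ Y = TL.Q :=
  le_antisymm (sup_le hX hY) fun t ht =>
    mem_of_sp (fun g hg => (h g hg).elim mem_sup_left mem_sup_right) (h' t ht)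

end Di0

open Di0 in
/-- `w = α x45` satisfies `w² = 1`, `|C(w)| = 128`, `w` commutes with its conjugates, and fewer than
`64` involutions commute with `w`; by `decide` such a `w` lies in one of the four normal subgroups
`AT, A1, AP, A1P` (all of order 16). `AT` is generated by the conjugates of `x45`, so
`α AT ≤ X`, and equality holds by cardinality. The same for `x12 = γ x45` and `AP`. Finally
`AT ⊓ AP = ⟨z⟩` has two elements while `AT ⊓ A1 ∋ x25` and `AP ⊓ A1P ∋ x14` have four. -/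
theorem aut_four (α : MulAut TL) :
    ((AT.map α.toMonoidHom = AT ∨ AT.map α.toMonoidHom = A1) ∧
      (AP.map α.toMonoidHom = AP ∨ AP.map α.toMonoidHom = A1P)) ∨
    ((AT.map α.toMonoidHom = AP ∨ AT.map α.toMonoidHom = A1P) ∧
      (AP.map α.toMonoidHom = AT ∨ AP.map α.toMonoidHom = A1)) := by
  have f : (TL.x25 ≠ 1 ∧ TL.x25 ≠ TL.z ∧ TL.In 698 TL.x25 ∧ TL.In 698 (ku TL.x25)) ∧
      TL.x14 ≠ 1 ∧ TL.x14 ≠ TL.z ∧ TL.In 884 TL.x14 ∧ TL.In 884 (TL.γ (ku (TL.γ TL.x14))) := by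
    decide +kernel
  obtain ⟨⟨a1, a2, a3, a4⟩, b1, b2, b3, b4⟩ := f
  rcases img α pw0.1 cAT gAT with h | h <;> rcases img α pw0.2 cAP gAP with h' | h'
  · refine (bad α a1 a2 ?_ ?_).elim
    · rcases h with h | h <;> rw [h] <;> assumption
    · rcases h' with h | h <;> rw [h] <;> assumption
  · exact .inl ⟨h, h'⟩
  · exact .inr ⟨h, h'⟩
  · refine (bad α b1 b2 ?_ ?_).elim
    · rcases h with h | h <;> rw [h] <;> assumption
    · rcases h' with h | h <;> rw [h] <;> assumption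

/-- `Q = X Y` for these pairs -/
theorem Q_eq : AT ⊔ AP = TL.Q ∧ A1 ⊔ AP = TL.Q ∧ AT ⊔ A1P = TL.Q ∧ A1 ⊔ A1P = TL.Q := by
  have l1 : AT ≤ TL.Q := (by decide +kernel : ∀ t, TL.In 698 t → TL.InQ t)
  have l2 : A1 ≤ TL.Q := (by decide +kernel : ∀ t, TL.In 698 (ku t) → TL.InQ t)
  have l3 : AP ≤ TL.Q := (by decide +kernel : ∀ t, TL.In 884 t → TL.InQ t)
  have l4 : A1P ≤ TL.Q := (by decide +kernel : ∀ t, TL.In 884 (TL.γ (ku (TL.γ t))) → TL.InQ t)
  refine ⟨Di0.sup_eq [TL.x25, TL.x35, TL.x45, TL.x12, TL.x13, TL.x14] l1 l3 ?_ (by decide +kernel),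
    Di0.sup_eq [ku TL.x25, ku TL.x35, ku TL.x45, TL.x12, TL.x13, TL.x14] l2 l3 ?_ (by decide +kernel),
    Di0.sup_eq [TL.x25, TL.x35, TL.x45, kp TL.x12, kp TL.x13, kp TL.x14] l1 l4 ?_ (by decide +kernel),
    Di0.sup_eq [ku TL.x25, ku TL.x35, ku TL.x45, kp TL.x12, kp TL.x13, kp TL.x14] l2 l4 ?_
      (by decide +kernel)⟩ <;>
  simp only [mem_AT, mem_AP, mem_A1, mem_A1P] <;> decide +kernel

theorem four_ne : AT ≠ AP ∧ AT ≠ A1 ∧ AT ≠ A1P ∧ AP ≠ A1 ∧ AP ≠ A1P ∧ A1 ≠ A1P := by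
  have k : ∀ {X Y : Subgroup TL} (t : TL), t ∈ X → t ∉ Y → X ≠ Y := fun t h1 h2 e => h2 (e ▸ h1)
  refine ⟨k TL.x45 ?_ ?_, k TL.x45 ?_ ?_, k TL.x45 ?_ ?_, k TL.x12 ?_ ?_, k TL.x12 ?_ ?_,
    k (ku TL.x45) ?_ ?_⟩ <;>
  simp only [mem_AT, mem_AP, mem_A1, mem_A1P] <;> decide +kernel

/-- the automorphism induced by an element of `N(T₀)` -/
theorem exists_aut {G : Type*} [Group G] [Finite G] {J : TL →* G} (hJ : Injective J) {g : G}
    (hg : g ∈ normalizer (J.range : Set G)) : ∃ α : MulAut TL, (∀ t, W2.Rel J g t (α t)) ∧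
      ∀ S : Subgroup TL, cj g (S.map J) = (S.map α.toMonoidHom).map J := by
  obtain ⟨θ, h, -⟩ := A16.exists_aut hJ
  refine ⟨θ ⟨g, hg⟩, h ⟨g, hg⟩, fun S => ?_⟩
  rw [cj, map_map, map_map]
  exact congrArg (S.map ·) (MonoidHom.ext (h ⟨g, hg⟩))

end CfsgLib.Har
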