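import Cfsg.Agent.Lib.Har.Aq
import Cfsg.Agent.Lib.Har.Di0

/-!
Project HAR (S1918, plans/HAR.md). The action of `N(T₀)` on the four subgroups (package DI1).
-/

set_option autoImplicit false
set_option Elab.async false
set_option linter.unusedSectionVars false
set_option synthInstance.maxSize 100000
set_option maxRecDepth 100000

namespace CfsgLib.Har

open Subgroup Equiv Function CfsgLib.W2 CfsgLib.W2.TG CfsgLib.Tech CfsgLib.PComp Cfsg CfsgLib.A16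
  CfsgLib.SylT

variable {G : Type*} [Group G] [Finite G] {J : TL →* G} {π : G → P16}

theorem di1_ku : ∀ t, ku (ku t) = t ∧ (TL.In 560 t → TL.In 560 (ku t)) ∧ (TL.In 884 t → TL.In 884 (ku t)) := by
  decide +kernel

theorem di1_rT : ∃ t, TL.In 560 t ∧ TL.In 698 (ku t) ∧ ¬ TL.In 698 (ku (rT t)) := by decide +kernel

theorem di1_AQ : AT ≤ TL.Q ∧ AP ≤ TL.Q ∧ A1 ≤ TL.Q ∧ A1P ≤ TL.Q :=
  ⟨Q_eq.1 ▸ le_sup_left, Q_eq.1 ▸ le_sup_right, Q_eq.2.1 ▸ le_sup_left, Q_eq.2.2.1 ▸ le_sup_right⟩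

theorem di1_mem {α : MulAut TL} {S X : Subgroup TL} (e : S.map α.toMonoidHom = X) (t : TL) :
    (t ∈ S → α t ∈ X) ∧ (t ∈ X → α.symm t ∈ S) :=
  e ▸ ⟨fun ht => ⟨t, ht, rfl⟩, mem_map_equiv.1⟩

theorem di1_Q {α : MulAut TL} {X Y : Subgroup TL} (e1 : AT.map α.toMonoidHom = X) (e2 : AP.map α.toMonoidHom = Y)
    (e : X ⊔ Y = TL.Q) : TL.Q.map α.toMonoidHom = TL.Q := by
  conv_lhs => rw [← Q_eq.1]
  rw [Subgroup.map_sup, e1, e2, e]

theorem di1_N {n : G} {w : TL → TL} (r : ∀ t, TL.In 560 t → W2.Rel J n t (w t))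
    (hA : ∀ t, TL.In 698 t → TL.In 698 (w t)) : n ∈ NA J := mem_normalizer_fintype (by
  rintro _ ⟨t, ht, rfl⟩
  exact ⟨w t, hA t ht, Eq.symm (r t (di1_AQ.1 ht))⟩)

theorem Hy.di1_w (h : Hy J π) {g : G} {α : MulAut TL} (r : ∀ t, W2.Rel J g t (α t)) {X Y : Subgroup TL}
    (e1 : AT.map α.toMonoidHom = X) (e2 : AP.map α.toMonoidHom = Y) (e : X ⊔ Y = TL.Q)
    (hX : ∀ t ∈ X, wQ t ∈ X) (hY : ∀ t ∈ Y, wQ t ∈ Y) : False := by
  have q := di1_mem (di1_Q e1 e2 e)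
  obtain ⟨w1, w2, t, ht, ht'⟩ := wQ_spec
  obtain ⟨n, -, hn⟩ := h.aq (α := fun t => α.symm (wQ (α t)))
    (fun s hs t ht => by rw [map_mul, w2 _ ((q s).1 hs) _ ((q t).1 ht), map_mul])
    (fun t ht => (q _).2 (w1 _ ((q t).1 ht)).1)
    (fun t ht e => by
      have := (w1 _ ((q t).1 ht)).2.1
      rw [(map_eq_one_iff _ α.symm.injective).1 e, (by decide +kernel : wQ 1 = 1)] at this
      exact (map_eq_one_iff _ α.injective).1 this.symm)
    (fun t ht => (di1_mem e1 _).2 (hX _ ((di1_mem e1 t).1 ht)))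
    (fun t ht => (di1_mem e2 _).2 (hY _ ((di1_mem e2 t).1 ht)))
  have k : ∀ t, TL.In 560 t → W2.Rel J (g * n * g⁻¹) t (wQ t) := fun t ht =>
    (((r _).comp (hn _ ((q t).2 ht))).comp (r (α.symm t)).symm).of_eq (by simp) (by simp)
  exact ht' (h.nq (di1_N k fun t ht => (w1 t (di1_AQ.1 ht)).2.2.1 ht) (fun t ht => ⟨_, (w1 t ht).1, k t ht⟩) ht
    (k t (di1_AQ.2.1 ht)))

theorem Hy.di1_r (h : Hy J π) {g : G} {α : MulAut TL} (r : ∀ t, W2.Rel J g t (α t))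
    (e1 : AT.map α.toMonoidHom = AP) (e2 : AP.map α.toMonoidHom = A1) : False := by
  have q := di1_mem (di1_Q e1 e2 (by rw [sup_comm, Q_eq.2.1]))
  obtain ⟨ρ, hρ, -, rq⟩ := h.exists_rho
  have p : ∀ t, TL.In 884 t → TL.In 884 (rT t) := fun t ht =>
    h.nq hρ (fun t ht => ⟨_, (rT_spec.2 t ht).1, rq t ht⟩) ht (rq t (di1_AQ.2.1 ht))
  have k : ∀ t, TL.In 560 t → W2.Rel J (g⁻¹ * ρ * g) t (α.symm (rT (α t))) := fun t ht =>
    ((((r (α.symm (rT (α t)))).symm.of_eq (α.apply_symm_apply _) rfl).comp (rq _ ((q t).1 ht))).comp (r t))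
  obtain ⟨t, tq, ht, ht'⟩ := di1_rT
  have := h.nq (di1_N k fun t ht => (di1_mem e1 _).2 (p _ ((di1_mem e1 t).1 ht)))
    (fun t ht => ⟨_, (q _).2 (rT_spec.2 _ ((q t).1 ht)).1, k t ht⟩) ((di1_mem e2 t).2 ht) (k _ ((q t).2 tq))
  have := (di1_mem e2 _).1 this
  rw [α.apply_symm_apply, α.apply_symm_apply] at this
  exact ht' this


/-- Let `α` be induced by `g`, `(X, Y) = (α A, α A')` as in `aut_four`; `α Q = Q` (`Q_eq`).
Conjugating `aq` and `nq` by `g`: (i) every automorphism of `Q` normalizing `X` and `Y` is induced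
by an element of `N(J X)` (apply `aq` to `α⁻¹ w α`); (ii) `N(J X) ⊓ N(J Q)` normalizes `J Y`.
`(A, ·)`: first alternative. `(A1, A1')`, `(A1', A1)`, `(A1', A)`: `wQ` normalizes `X`, `Y`
(`wQ_spec`), so it is induced by some `n`; `n` normalizes `A` and `Q`, so it normalizes `A'` by `nq`,
against the last clause of `wQ_spec`. `(A', A1)`: `ρ` (`exists_rho`) normalizes `Q` and `A'`, so by
(ii) it normalizes `A1`, but `rT` does not preserve `A1` (decide). -/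
theorem Hy.tri (h : Hy J π) {g : G} (hg : g ∈ normalizer (J.range : Set G)) : g ∈ NA J ∨
    (cj g (AT.map J) = AP.map J ∧ cj g (AP.map J) = AT.map J) ∨
    (cj g (AT.map J) = A1.map J ∧ cj g (AP.map J) = AP.map J) := by
  obtain ⟨α, r, c⟩ := exists_aut h.inj hg
  have w0 : ∀ t ∈ AT, wQ t ∈ AT := fun t ht => (wQ_spec.1 t (di1_AQ.1 ht)).2.2.1 ht
  have w1 : ∀ t ∈ A1, wQ t ∈ A1 := fun t ht => (wQ_spec.1 t (di1_AQ.2.2.1 ht)).2.2.2.1 ht
  have w2 : ∀ t ∈ A1P, wQ t ∈ A1P := fun t ht => (wQ_spec.1 t (di1_AQ.2.2.2 ht)).2.2.2.2 ht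
  rcases aut_four α with ⟨e1 | e1, e2⟩ | ⟨e1 | e1, e2 | e2⟩
  · exact Or.inl (mem_normalizer_iff_cj.2 (by rw [c, e1]))
  · rcases e2 with e2 | e2
    · exact Or.inr (Or.inr ⟨by rw [c, e1], by rw [c, e2]⟩)
    · exact (h.di1_w r e1 e2 Q_eq.2.2.2 w1 w2).elim
  · exact Or.inr (Or.inl ⟨by rw [c, e1], by rw [c, e2]⟩)
  · exact (h.di1_r r e1 e2).elim
  · exact (h.di1_w r e1 e2 (by rw [sup_comm, Q_eq.2.2.1]) w2 w0).elim
  · exact (h.di1_w r e1 e2 (by rw [sup_comm, Q_eq.2.2.2]) w2 w1).elim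

/-- `ku ∘ α` normalizes `A` and `A'` (`ku` is an involution fixing `A'` pointwise), so it is induced on
`Q` by `n ∈ N(A)` (`aq`); `b = g n⁻¹`. -/
theorem Hy.bq (h : Hy J π) {g : G} (hg : g ∈ normalizer (J.range : Set G))
    (h1 : cj g (AT.map J) = A1.map J) (h2 : cj g (AP.map J) = AP.map J) : ∃ b, BQ J b := by
  obtain ⟨α, r, c⟩ := exists_aut h.inj hg
  have e1 := map_injective h.inj ((c _).symm.trans h1)
  have e2 := map_injective h.inj ((c _).symm.trans h2)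
  have q := di1_mem (di1_Q e1 e2 Q_eq.2.1)
  obtain ⟨n, -, hn⟩ := h.aq (α := fun t => ku (α t)) (fun s _ t _ => by rw [map_mul, map_mul])
    (fun t ht => (di1_ku _).2.1 ((q t).1 ht))
    (fun t _ e => by
      have := (di1_ku (α t)).1
      rw [e, map_one] at this
      exact (map_eq_one_iff _ α.injective).1 this.symm)
    (fun t ht => (di1_mem e1 t).1 ht) (fun t ht => (di1_ku _).2.2 ((di1_mem e2 t).1 ht))
  refine ⟨g * n⁻¹, fun t ht => ?_⟩
  exact ((r _).comp (hn _ ((q _).2 ((di1_ku t).2.1 ht))).symm).of_eq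
    (by rw [α.apply_symm_apply, (di1_ku t).1]) (α.apply_symm_apply _)

end CfsgLib.Har
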