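import Cfsg.Agent.Lib.Har.Di0

/-!
Project HAR (S1918, plans/HAR.md). Normal form of an element exchanging `A` and `A'` (package DI2).
-/

set_option autoImplicit false
set_option Elab.async false
set_option linter.unusedSectionVars false
set_option synthInstance.maxSize 100000
set_option maxRecDepth 100000

namespace CfsgLib.Har

open Subgroup Equiv Function CfsgLib.W2 CfsgLib.W2.TG CfsgLib.Tech CfsgLib.PComp Cfsg CfsgLib.A16
  CfsgLib.SylT

variable {G : Type*} [Group G] [Finite G] {J : TL →* G}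

namespace Di2

open TL

noncomputable abbrev cm (a b : TL) : TL := a * b * a⁻¹ * b⁻¹

theorem f1 : ∀ q, In 884 q → ∀ p, In 698 p → p * q = q * p → (In 1012 q ∨ In 954 p) ∨
    ∃ g : TL, g * q * g⁻¹ = x12 ∧ g * p * g⁻¹ = x45 := by decide +kernel

theorem f2 : ∀ q, In 1012 q ∨ In 954 q → ∃ u : TL, u * u = q := by decide +kernel

theorem f3 : ∀ u : TL, u * u ≠ x12 ∧ u * u ≠ x45 := by decide +kernel

theorem f4 : ∀ b : TL, b * b = 1 → b * x12 = x12 * b → ∀ c : TL, c * c = 1 → c * x45 = x45 * c →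
    cm (cm (cm x45 b) c) x12 = z → cm x45 b * cm b c = cm b c * cm x45 b → cm b c * cm c x12 = cm c x12 * cm b c →
    ∃ g : TL, In 566 g ∧ g * x12 * g⁻¹ = x12 ∧ g * x45 * g⁻¹ = x45 ∧ (g * b * g⁻¹ = x34 ∨ g * b * g⁻¹ = x34 * z) ∧
      (g * c * g⁻¹ = x23 ∨ g * c * g⁻¹ = x23 * z) := by decide +kernel

theorem f5 : ∀ s : TL, s * x12 * s⁻¹ = x12 → s * x45 * s⁻¹ = x45 → s * x23 * s⁻¹ = x23 * z → s * x34 * s⁻¹ ≠ x34 * z := by
  decide +kernel

theorem f6 : x12 * x45 = x45 * x12 ∧ x23 * x23 = 1 ∧ x23 * x45 = x45 * x23 ∧ x34 * x34 = 1 ∧ x34 * x12 = x12 * x34 ∧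
    cm (cm (cm x12 x23) x34) x45 = z ∧ cm x12 x23 * cm x23 x34 = cm x23 x34 * cm x12 x23 ∧
    cm x23 x34 * cm x34 x45 = cm x34 x45 * cm x23 x34 := by decide +kernel

theorem f7 : (gm x12 = x45 ∧ gm x23 = x34 ∧ gm x34 = x23 ∧ gm x45 = x12) ∧
    al1 x12 = x45 ∧ al1 x23 = x34 * z ∧ al1 x34 = x23 * z ∧ al1 x45 = x12 := by decide +kernel

theorem aut_z (α : MulAut TL) : α z = z := by
  have h : ∀ g, α z * g = g * α z := fun g => by
    obtain ⟨g, rfl⟩ := α.surjective g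
    rw [← map_mul, ← zc, map_mul]
  exact (center_eq _ (h _) (h _) (h _) (h _)).resolve_left fun e => z_ne (α.map_eq_one_iff.1 e)

/-- `y` induces `α` -/
def St (J : TL →* G) (y : G) (α : MulAut TL) : Prop := (∀ t, W2.Rel J y t (α t)) ∧ y * y ∈ J.range

theorem St.shift {y : G} {α : MulAut TL} (h : St J y α) (g : TL) : St J (J g * y) (MulAut.conj g * α) :=
  ⟨fun t => (W2.Rel.conj J g (α t)).comp (h.1 t), by
    rw [show J g * y * (J g * y) = J g * (y * J g * y⁻¹) * (y * y) by group, h.1 g]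
    exact mul_mem (mul_mem ⟨_, rfl⟩ ⟨_, rfl⟩) h.2⟩

theorem St.good (hJ : Injective J) {y : G} {α : MulAut TL} (h : St J y α) (l : Bool)
    (e : ∀ g ∈ [x12, x23, x34, x45], α g = alg l g ∧ α (α g) = g) : ∃ y' l k, C2 J y' l k := by
  obtain ⟨s, hs⟩ := h.2
  have k : ∀ g ∈ [x12, x23, x34, x45], s * g = g * s := fun g hg => mul_inv_eq_iff_eq_mul.1
    (((W2.Rel.conj J s g).uniq hJ (hs ▸ (h.1 _).comp (h.1 g)) rfl).trans (e g hg).2)
  have e1 : α.toMonoidHom = alg l := hom_ext gen4 fun g hg => (e g hg).1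
  have r : ∀ t, W2.Rel J y t (alg l t) := fun t => e1 ▸ h.1 t
  rcases center_eq s (k _ (by simp)) (k _ (by simp)) (k _ (by simp)) (k _ (by simp)) with rfl | rfl
  exacts [⟨y, l, false, r, hs.symm.trans (map_one J)⟩, ⟨y, l, true, r, hs.symm⟩]

theorem St.fin (hJ : Injective J) {y : G} {α : MulAut TL} (h : St J y α) (h1 : α x12 = x45) (h2 : α x45 = x12)
    (h3 : α x23 = x34 ∨ α x23 = x34 * z) (h4 : α x34 = x23 ∨ α x34 = x23 * z) : ∃ y' l k, C2 J y' l k := by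
  obtain ⟨s, hs⟩ := h.2
  have k : ∀ g, s * g * s⁻¹ = α (α g) := fun g => (W2.Rel.conj J s g).uniq hJ (hs ▸ (h.1 _).comp (h.1 g)) rfl
  obtain ⟨⟨a1, a2, a3, a4⟩, b1, b2, b3, b4⟩ := f7
  rcases h3 with h3 | h3 <;> rcases h4 with h4 | h4
  · refine h.good hJ false fun g hg => ?_
    simp only [List.mem_cons, List.not_mem_nil, or_false] at hg
    rcases hg with rfl | rfl | rfl | rfl
    exacts [⟨h1.trans a1.symm, by rw [h1, h2]⟩, ⟨h3.trans a2.symm, by rw [h3, h4]⟩, ⟨h4.trans a3.symm, by rw [h4, h3]⟩,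
      ⟨h2.trans a4.symm, by rw [h2, h1]⟩]
  · exact absurd (by rw [k, h4, map_mul, h3, aut_z]) (f5 s (by rw [k, h1, h2]) (by rw [k, h2, h1]) (by rw [k, h3, h4]))
  · exact absurd (by rw [k, h4, h3]) (f5 s (by rw [k, h1, h2]) (by rw [k, h2, h1]) (by rw [k, h3, map_mul, h4, aut_z]))
  · refine h.good hJ true fun g hg => ?_
    simp only [List.mem_cons, List.not_mem_nil, or_false] at hg
    rcases hg with rfl | rfl | rfl | rfl
    exacts [⟨h1.trans b1.symm, by rw [h1, h2]⟩, ⟨h3.trans b2.symm, by rw [h3, map_mul, h4, aut_z, mul_assoc, zz, mul_one]⟩,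
      ⟨h4.trans b3.symm, by rw [h4, map_mul, h3, aut_z, mul_assoc, zz, mul_one]⟩, ⟨h2.trans b4.symm, by rw [h2, h1]⟩]

theorem St.mid (hJ : Injective J) {y : G} {α : MulAut TL} (h : St J y α) (h1 : α x12 = x45) (h2 : α x45 = x12) :
    ∃ y' l k, C2 J y' l k := by
  obtain ⟨-, a1, a2, a3, a4, a5, a6, a7⟩ := f6
  replace a1 := congrArg α a1
  replace a2 := congrArg α a2
  replace a3 := congrArg α a3
  replace a4 := congrArg α a4
  replace a5 := congrArg α a5
  replace a6 := congrArg α a6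
  replace a7 := congrArg α a7
  simp only [map_mul, map_inv, map_one, h1, h2, aut_z] at a1 a2 a3 a4 a5 a6 a7
  obtain ⟨g, -, b1, b2, b3, b4⟩ := f4 _ a1 a2 _ a3 a4 a5 a6 a7
  exact (h.shift g).fin hJ (by rw [MulAut.mul_apply, h1]; exact b2) (by rw [MulAut.mul_apply, h2]; exact b1) b3 b4

end Di2

/-- Let `α` be induced by `y`. `α x45 ∈ A'` has `|C| = 128`, so it is conjugate to `x12`; replace `y`
by `J s · y` to get `α x45 = x12`. `α x12 ∈ A` has `|C| = 128` and commutes with `x12`, so it is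
conjugate to `x45` under `C(x12)`; so also `α x12 = x45`. `b = α x23`, `c = α x34` lie in `TL.AB`
(`TL.big`), `b` commutes with `x12`, `c` with `x45`, and `[[[x45, b], c], x12] = z` (from
`[[[x12, x23], x34], x45] = z`, `[p, q] = p q p⁻¹ q⁻¹`, `α z = z`): 64 pairs `(b, c)`, each conjugate
under `C(x12) ⊓ C(x45)` to one with `b ∈ {x34, x34 z}`, `c ∈ {x23, x23 z}` (decide). `α²` is
conjugation by the `s` with `J s = y²`; `s` centralizes `x12`, `x45` and `s x23 s⁻¹ = x23 z^ν`,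
`s x34 s⁻¹ = x34 z^ν`; decide: `ν = 0` and `s ∈ {1, z}`. So `α = alg l` on the generators
(`hom_ext TL.gen4`). -/
theorem exists_c2 (hJ : Injective J) {y : G} (hy : y ∈ normalizer (J.range : Set G))
    (h1 : cj y (AT.map J) = AP.map J) (h2 : cj y (AP.map J) = AT.map J) (hs : y * y ∈ J.range) :
    ∃ y' l k, C2 J y' l k := by
  obtain ⟨α, r, c⟩ := exists_aut hJ hy
  have e1 := map_injective hJ ((c _).symm.trans h1)
  have e2 := map_injective hJ ((c _).symm.trans h2)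
  have k : ∀ x, TL.In 1012 (α x) ∨ TL.In 954 (α x) → ∃ u, u * u = x := fun x hx => by
    obtain ⟨u, hu⟩ := Di2.f2 _ hx
    exact ⟨α.symm u, α.injective (by rw [map_mul, α.apply_symm_apply, hu])⟩
  rcases Di2.f1 (α TL.x45) (e1.le ⟨_, (by decide +kernel : TL.In 698 TL.x45), rfl⟩) (α TL.x12)
    (e2.le ⟨_, (by decide +kernel : TL.In 884 TL.x12), rfl⟩) (by rw [← map_mul, ← map_mul, Di2.f6.1]) with
    (h | h) | ⟨g, a1, a2⟩
  · obtain ⟨u, hu⟩ := k _ (.inl h)
    exact absurd hu (Di2.f3 u).2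
  · obtain ⟨u, hu⟩ := k _ (.inr h)
    exact absurd hu (Di2.f3 u).1
  · exact (Di2.St.shift ⟨r, hs⟩ g).mid hJ a2 a1

end CfsgLib.Har
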