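import Cfsg.Agent.Lib.Har.Bas

/-!
Project HAR (S1918, plans/HAR.md). `x` normalizes `B` (package ETA1).
-/

set_option autoImplicit false
set_option Elab.async false
set_option linter.unusedSectionVars false
set_option synthInstance.maxSize 100000
set_option maxRecDepth 100000

namespace CfsgLib.Har

open Subgroup Equiv Function CfsgLib.W2 CfsgLib.W2.TG CfsgLib.Tech CfsgLib.PComp Cfsg CfsgLib.A16
  CfsgLib.SylT

variable {G : Type*} [Group G] [Finite G] {J : TL →* G} {π : G → P16}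
variable {β : BG →* G} {ρ σ : G} {ε : Bool} {e : EG →* G}

theorem eta1_even : ∀ a : EG, par a = false → ∃ k < 64, TL.In 960 (o k : TL) ∧
    (ge (i0 (o k)) = a ∨ ge (i0 (o k)) * ue 0 = a) := by decide +kernel

theorem eta1_u : ∀ c : BG, eps (ge (bet c)) = bet c → par (ge (bet c)) = false ∧ ∃ i < 2, ∃ j < 2, ∃ k < 2, ∃ l < 2,
    c = ub 0 ^ i * ub 1 ^ j * ub 2 ^ k * ub 3 ^ l ∧ ge (bet c) = ue 0 ^ i * ue 1 ^ j * ue 2 ^ k * ue 3 ^ l := by
  decide +kernel

theorem eta1_th : ∀ ε : Bool, ∀ g ∈ gB, ∀ k < 64, par (ge (i0 (o k))) = false ∧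
    eps (ge (bet (g * th ε (o k) g))) = bet (g * th ε (o k) g) := by decide +kernel

theorem eta1_c : ∀ k < 64, (o k : TL) * TL.x12 = TL.x12 * o k → TL.In 884 (o k : TL) ∧
    bet (gb (i0 (o k))) = eps (ge (i0 (o k))) := by decide +kernel

theorem ES.eta1_E (he : ES J β ε σ e) {c : BG} (hc : eps (ge (bet c)) = bet c) : β c = e (ge (bet c)) := by
  obtain ⟨-, i, -, j, -, k, -, l, -, e1, e2⟩ := eta1_u c hc
  rw [e2]
  conv_lhs => rw [e1]
  simp only [map_mul, map_pow, he.eu]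

theorem ES.eta1_par (hb : BS J π β ρ ε) (he : ES J β ε σ e) (b : BG) :
    ∀ a, par a = false → ∃ a', par a' = false ∧ W2.Rel e (β b) a a' := by
  refine ind_of_genB gB_gen (P := fun b => ∀ a, par a = false → ∃ a', par a' = false ∧ W2.Rel e (β b) a a')
    (fun a ha => ⟨a, ha, by simp [W2.Rel]⟩) (fun b ih g hg a ha => ?_) b
  suffices H : ∃ a', par a' = false ∧ W2.Rel e (β g) a a' by
    obtain ⟨a', h1, h2⟩ := H
    obtain ⟨a'', h3, h4⟩ := ih a' h1
    exact ⟨a'', h3, map_mul β b g ▸ h4.comp h2⟩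
  obtain ⟨k, hk, hF, e1⟩ := eta1_even a ha
  obtain ⟨p1, p2⟩ := eta1_th ε g hg k hk
  have r1 : W2.Rel e (β g) (ge (i0 (o k))) (ge (bet (g * th ε (o k) g)) * ge (i0 (o k))) := by
    have := hb.act (o k) g
    rw [W2.Rel] at this ⊢
    rw [map_mul, ← he.eta1_E p2, he.eF _ hF, map_mul, ← this, ← map_inv β g, inv_eq_of_mul_eq_one_right (BG.sq g)]
    group
  have p3 : par (ge (bet (g * th ε (o k) g)) * ge (i0 (o k))) = false := by
    rw [par_mul, p1, (eta1_u _ p2).1]; rfl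
  rcases e1 with rfl | rfl
  · exact ⟨_, p3, r1⟩
  · refine ⟨_, ?_, r1.mul (q' := ue 0) (W2.Rel.of_comm ?_)⟩
    · rw [par_mul, p3]; decide +kernel
    · rw [he.eu, ← map_mul, mul_comm, map_mul]

theorem eta1_comm {H : Type*} [Group H] {a b : H} (ha : a * a = 1) (hb : b * b = 1) (h : a * b * (a * b) = 1) :
    Commute a b := by
  rw [Commute, SemiconjBy, ← inv_eq_of_mul_eq_one_right h, mul_inv_rev, inv_eq_of_mul_eq_one_right ha,
    inv_eq_of_mul_eq_one_right hb]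

/-- `x = e (eb 0)`, `c(b) = x · β b · x⁻¹ · β b⁻¹ ∈ E`. `β b` normalizes `E` and `E₁ = F⟨u⟩` (index 2),
so `c(b) = J f · u^k`, `f ∈ F`. `x β b x⁻¹ = c(b) β b` is an involution, so `J f` commutes with
`β b`: `th ε f b = b`. With `γ = β (o 85) = J x12`: `x γ x⁻¹ = γ u` (from `x12`), so
`c(b · o 85) = c(b) u` and `J f` also commutes with `β b · γ`, hence with `J x12`; decide:
`f ∈ A'`, so `c(b) = β c` with `c ∈ ⟨ub i⟩`. -/
theorem ES.eta1 (h : Hy J π) (hb : BS J π β ρ ε) (he : ES J β ε σ e) (b : BG) :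
    ∃ c, (∃ a, bet c = eps a) ∧ W2.Rel β (e (eb 0)) b (b * c) := by
  have sqE : ∀ a, e a * e a = 1 := fun a => by rw [← map_mul, EG.sq, map_one]
  have sqB : ∀ a, β a * β a = 1 := fun a => by rw [← map_mul, BG.sq, map_one]
  have xi : (e (eb 0))⁻¹ = e (eb 0) := inv_eq_of_mul_eq_one_right (sqE _)
  obtain ⟨a, ha⟩ := (mem_normalizer_iff.1 (he.nB b) (e (eb 0))).1 ⟨_, rfl⟩
  have pa : par (eb 0 * a) = false := by
    by_contra hp
    obtain ⟨a', h1, h2⟩ := he.eta1_par hb b a (by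
      rw [par_mul, show par (eb 0) = true by decide +kernel] at hp
      revert hp; cases par a <;> simp)
    have h3 : e a' = e (eb 0) := by
      rw [← h2, ha, ← mul_assoc, ← mul_assoc, sqB, one_mul, mul_assoc, ← mul_inv_rev, sqB, inv_one, mul_one]
    rw [he.inj h3] at h1
    exact absurd h1 (by decide +kernel)
  obtain ⟨k, hk, hF, e1⟩ := eta1_even _ pa
  obtain ⟨u, u1, u2, u3⟩ : ∃ u : BG, (∃ a, bet u = eps a) ∧ Commute (J (o k)) (β u) ∧
      e (eb 0) * β b * (e (eb 0))⁻¹ = J (o k) * β (u * b) := by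
    have e2 : e (eb 0) * β b * (e (eb 0))⁻¹ = e (eb 0 * a) * β b := by rw [map_mul, ha, xi]; group
    rcases e1 with e1 | e1
    · exact ⟨1, ⟨1, by rw [map_one, map_one]⟩, by rw [map_one]; exact Commute.one_right _, by
        rw [e2, ← e1, he.eF _ hF, one_mul]⟩
    · refine ⟨ub 0, ⟨_, z_facts.2.2.2.2.2 0⟩, ?_, by rw [e2, ← e1, map_mul, he.eF _ hF, he.eu, map_mul, mul_assoc]⟩
      rw [← he.eF _ hF, ← he.eu]
      exact (Commute.all _ _).map e
  have cu : Commute (J (o k)) (β (ub 0)) := by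
    rw [← he.eF _ hF, ← he.eu]
    exact (Commute.all _ _).map e
  have f2 : J (o k) * J (o k) = 1 := by rw [← he.eF _ hF, sqE]
  have g1 : β (o 85) = J TL.x12 := by
    rw [← hb.a _ (by decide +kernel), i0_tr.2.2.2.2.2.2.1, gb_bet]
  have g2 : e (eb 0) * β (o 85) * (e (eb 0))⁻¹ = β (ub 0 * o 85) := by
    have := he.x12
    rw [W2.Rel, ← g1] at this
    rw [map_mul, ← he.eu, show ue 0 = eb 0 * eb 1 by decide +kernel, map_mul, ← this, xi]
    group
  have c1 : Commute (J (o k)) (β (u * b)) := eta1_comm f2 (sqB _) (by rw [← u3, conj_mul, sqB]; group)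
  have c2 : Commute (J (o k)) (β (u * b * (ub 0 * o 85))) := eta1_comm f2 (sqB _) (by
    rw [map_mul β (u * b), ← mul_assoc (J _) (β (u * b)), ← u3, ← g2, conj_mul, conj_mul, ← map_mul, sqB]; group)
  have c3 : Commute (J (o k)) (J TL.x12) := by
    have := cu.inv_right.mul_right (c1.inv_right.mul_right c2)
    rwa [map_mul β (u * b), inv_mul_cancel_left, map_mul, inv_mul_cancel_left, g1] at this
  obtain ⟨p1, p2⟩ := eta1_c k hk (h.inj (by rw [map_mul, map_mul, c3.eq]))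
  obtain ⟨a', ha'⟩ := u1
  refine ⟨gb (i0 (o k)) * u, ⟨ge (i0 (o k)) * a', by rw [map_mul, map_mul, p2, ha']⟩, ?_⟩
  rw [W2.Rel, u3, ← hb.a _ p1, ← map_mul, mul_comm b, mul_assoc]

end CfsgLib.Har
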