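import Cfsg.Agent.Lib.Har.Defs3

/-!
Project HAR (S1918, plans/HAR.md). Cocycles and endomorphisms for the regular group `V` (package SH).
-/

set_option autoImplicit false
set_option Elab.async false
set_option linter.unusedSectionVars false
set_option synthInstance.maxSize 100000
set_option maxRecDepth 100000

namespace CfsgLib.Har

open Subgroup Equiv Function CfsgLib.W2 CfsgLib.W2.TG CfsgLib.Tech CfsgLib.PComp Cfsg CfsgLib.A16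
  CfsgLib.SylT

/-- `B` is generated by the `tb 0 (pp i)` as a module for `V` -/
theorem sh_indB {P : BG → Prop} (h1 : P 1) (hm : ∀ a b, P a → P b → P (a * b))
    (hv : ∀ i a, P a → P (cB (i0 (vv i)) a)) (ht : ∀ i, P (tb 0 (pp i))) (b : BG) : P b := by
  refine ind_of_genB gB_gen h1 (fun a ha g hg => hm _ _ ha ?_) b
  rcases (by decide +kernel : ∀ g ∈ gB, (∃ i, g = tb 0 (pp i)) ∨
      (∃ i j, g = tb 0 (pp i) * cB (i0 (vv i)) (tb 0 (pp j))) ∨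
      g = tb 0 (pp 0) * cB (i0 (vv 0)) (tb 0 (pp 1) * cB (i0 (vv 1)) (tb 0 (pp 2)))) g hg with
    ⟨i, rfl⟩ | ⟨i, j, rfl⟩ | rfl
  exacts [ht i, hm _ _ (ht i) (hv _ _ (ht j)), hm _ _ (ht _) (hv _ _ (hm _ _ (ht _) (hv _ _ (ht _))))]

/-- `V` permutes the basis of `B'` transitively -/
theorem sh_indE {P : EG → Prop} (h1 : P 1) (hm : ∀ a b, P a → P b → P (a * b))
    (hv : ∀ i a, P a → P (aP (pv i) a)) (ht : P (eb 0)) (b : EG) : P b := by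
  refine ind_of_genB gE_gen h1 (fun a ha g hg => hm _ _ ha ?_) b
  rcases (by decide +kernel : ∀ g ∈ gE, g = eb 0 ∨ (∃ i, g = aP (pv i) (eb 0)) ∨
      (∃ i j, g = aP (pv i) (aP (pv j) (eb 0))) ∨ g = aP (pv 0) (aP (pv 1) (aP (pv 2) (eb 0)))) g hg with
    rfl | ⟨i, rfl⟩ | ⟨i, j, rfl⟩ | rfl
  exacts [ht, hv _ _ ht, hv _ _ (hv _ _ ht), hv _ _ (hv _ _ (hv _ _ ht))]

theorem sh_tw : ∀ φ i b, tw φ (cB (i0 (vv i)) b) = cB (i0 (vv i)) (tw φ b) := by decide +kernel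

theorem sh_cB (s t : TL) (b : BG) : cB (i0 s) (cB (i0 t) b) = cB (i0 (s * t)) b := by
  rw [map_mul, map_mul, MulAut.mul_apply]

theorem sh_iB (i : Fin 3) (b : BG) : iB (cB (i0 (vv i)) b) = aP (pv i) (iB b) := by
  rw [(vv_facts i).1, iB_cB]

/-- `H¹(V, B) = 2`. Decide: `c i` lies in the fixed space (16 elements) of `vv i`; nest the
quantifiers (`∀ c0, h → ∀ c1, h → h → ∀ c2, …`). -/
theorem sh (c : Fin 3 → BG) (h1 : ∀ i, c i * cB (i0 (vv i)) (c i) = 1)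
    (h2 : ∀ i j, c i * cB (i0 (vv i)) (c j) = c j * cB (i0 (vv j)) (c i)) :
    ∃ b, (∀ i, c i = b * cB (i0 (vv i)) b) ∨ ∀ i, c i = b * cB (i0 (vv i)) b * tb 0 (pp i) := by
  obtain ⟨b, hb⟩ := (by decide +kernel : ∀ c0 : BG, c0 * cB (i0 (vv 0)) c0 = 1 → ∀ c1 : BG, c1 * cB (i0 (vv 1)) c1 = 1 →
    c0 * cB (i0 (vv 0)) c1 = c1 * cB (i0 (vv 1)) c0 → ∀ c2 : BG, c2 * cB (i0 (vv 2)) c2 = 1 →
    c0 * cB (i0 (vv 0)) c2 = c2 * cB (i0 (vv 2)) c0 → c1 * cB (i0 (vv 1)) c2 = c2 * cB (i0 (vv 2)) c1 →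
    ∃ b, (c0 = b * cB (i0 (vv 0)) b ∧ c1 = b * cB (i0 (vv 1)) b ∧ c2 = b * cB (i0 (vv 2)) b) ∨
      (c0 = b * cB (i0 (vv 0)) b * tb 0 (pp 0) ∧ c1 = b * cB (i0 (vv 1)) b * tb 0 (pp 1) ∧
        c2 = b * cB (i0 (vv 2)) b * tb 0 (pp 2)))
    _ (h1 0) _ (h1 1) (h2 0 1) _ (h1 2) (h2 0 2) (h2 1 2)
  refine ⟨b, hb.imp (fun k i => ?_) fun k i => ?_⟩ <;> fin_cases i
  exacts [k.1, k.2.1, k.2.2, k.1, k.2.1, k.2.2]

/-- `c i = δ (tb 0 (pp i))` is a cocycle, and `B` is generated by the `V`-conjugates of the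
`tb 0 (pp i)`, so `δ` is determined by `c`. By `sh`, `δ` is multiplication by `b` (not injective: it
kills `zb`) or by `1 + b` in the group algebra; decide that `1 + b` acts as `cB (i0 a) * tw φ`. -/
theorem endB (δ : MulAut BG) (h : ∀ i, δ * cB (i0 (vv i)) = cB (i0 (vv i)) * δ) :
    ∃ a, TL.In 698 a ∧ ∃ φ, δ = cB (i0 a) * tw φ := by
  have e : ∀ i b, δ (cB (i0 (vv i)) b) = cB (i0 (vv i)) (δ b) := fun i b => DFunLike.congr_fun (h i) b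
  have k := (by decide +kernel : ∀ i, tb 0 (pp i) * cB (i0 (vv i)) (tb 0 (pp i)) = 1 ∧
    ∀ j, tb 0 (pp i) * cB (i0 (vv i)) (tb 0 (pp j)) = tb 0 (pp j) * cB (i0 (vv j)) (tb 0 (pp i)))
  obtain ⟨b, hb | hb⟩ := sh (fun i => δ (tb 0 (pp i))) (fun i => by rw [← e, ← map_mul, (k i).1, map_one])
    fun i j => by rw [← e, ← e, ← map_mul, ← map_mul, (k i).2 j]
  · refine absurd (δ.injective (a₂ := 1) ?_) (by decide +kernel : zb ≠ 1)
    rw [(by decide +kernel : zb = tb 0 (pp 0) * cB (i0 (vv 1)) (tb 0 (pp 0)) *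
      cB (i0 (vv 2)) (tb 0 (pp 0) * cB (i0 (vv 1)) (tb 0 (pp 0)))), map_mul, e, map_mul, e, hb 0, map_one]
    exact (by decide +kernel : ∀ b, b * cB (i0 (vv 0)) b * cB (i0 (vv 1)) (b * cB (i0 (vv 0)) b) *
      cB (i0 (vv 2)) (b * cB (i0 (vv 0)) b * cB (i0 (vv 1)) (b * cB (i0 (vv 0)) b)) = 1) b
  · obtain ⟨v, φ, hv⟩ := (by decide +kernel : ∀ b, ∃ v φ, ∀ i,
      b * cB (i0 (vv i)) b * tb 0 (pp i) = cB (i0 (va v)) (tw φ (tb 0 (pp i)))) b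
    refine ⟨va v, va_mem v, φ, MulEquiv.ext (sh_indB (by simp) (fun a a' e1 e2 => by rw [map_mul, map_mul, e1, e2])
      (fun i a e1 => ?_) fun i => (hb i).trans (hv i))⟩
    rw [e, e1, MulAut.mul_apply, MulAut.mul_apply, sh_tw, sh_cB, sh_cB,
      (by decide +kernel : ∀ i v, vv i * va v = va v * vv i)]

/-- `E` is a free module for `⟨x35, x45⟩`. -/
theorem shF (c1 c2 : EG) (h1 : c1 * cE (i0 TL.x35) c1 = 1) (h2 : c2 * cE (i0 TL.x45) c2 = 1)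
    (h3 : c1 * cE (i0 TL.x35) c2 = c2 * cE (i0 TL.x45) c1) :
    ∃ a, c1 = a * cE (i0 TL.x35) a ∧ c2 = a * cE (i0 TL.x45) a := (by decide +kernel : ∀ c1 : EG, c1 * cE (i0 TL.x35) c1 = 1 → ∀ c2 : EG, c2 * cE (i0 TL.x45) c2 = 1 →
    c1 * cE (i0 TL.x35) c2 = c2 * cE (i0 TL.x45) c1 →
      ∃ a, c1 = a * cE (i0 TL.x35) a ∧ c2 = a * cE (i0 TL.x45) a) c1 h1 c2 h2 h3

/-- `B'` is the free module of rank one for `V`. -/
theorem shE (c : Fin 3 → EG) (h1 : ∀ i, c i * aP (pv i) (c i) = 1)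
    (h2 : ∀ i j, c i * aP (pv i) (c j) = c j * aP (pv j) (c i)) :
    ∃ a, ∀ i, c i = a * aP (pv i) a := by
  obtain ⟨a, k⟩ := (by decide +kernel : ∀ c0 : EG, c0 * aP (pv 0) c0 = 1 → ∀ c1 : EG, c1 * aP (pv 1) c1 = 1 →
    c0 * aP (pv 0) c1 = c1 * aP (pv 1) c0 → ∀ c2 : EG, c2 * aP (pv 2) c2 = 1 →
    c0 * aP (pv 0) c2 = c2 * aP (pv 2) c0 → c1 * aP (pv 1) c2 = c2 * aP (pv 2) c1 →
    ∃ a, c0 = a * aP (pv 0) a ∧ c1 = a * aP (pv 1) a ∧ c2 = a * aP (pv 2) a)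
    _ (h1 0) _ (h1 1) (h2 0 1) _ (h1 2) (h2 0 2) (h2 1 2)
  refine ⟨a, fun i => ?_⟩
  fin_cases i
  exacts [k.1, k.2.1, k.2.2]

/-- `δ` is determined by `c = δ (eb 0)` (`V` permutes the basis regularly), `c` is odd (`δ ze ≠ 1`);
for each of the 128 odd `c` find `v ∈ V` and `φ` (decide on the basis). -/
theorem endE (δ : MulAut EG) (h : ∀ i, δ * aP (pv i) = aP (pv i) * δ) :
    ∃ (v : P8) (φ : Fin 8), (∀ b, δ (iB b) = aP v (iB (tw φ b))) ∧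
      (φ = 0 → ∃ ε, ∀ a, δ a = aP v (alE ε a)) := by
  have e : ∀ i a, δ (aP (pv i) a) = aP (pv i) (δ a) := fun i a => DFunLike.congr_fun (h i) a
  obtain ⟨v, hv, φ, k1, k2⟩ := (by decide +kernel : ∀ c : EG,
    c * aP (pv 0) c * aP (pv 1) (c * aP (pv 0) c) * aP (pv 2) (c * aP (pv 0) c * aP (pv 1) (c * aP (pv 0) c)) ≠ 1 →
      ∃ v : P8, (∀ i, pv i * v = v * pv i) ∧ ∃ φ : Fin 8, (∀ i, c * aP (pv i) c = aP v (iB (tw φ (tb 0 (pp i))))) ∧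
        (φ = 0 → ∃ ε, c = aP v (alE ε (eb 0)))) (δ (eb 0)) (by
    simp only [← e, ← map_mul]
    rw [Ne, map_eq_one_iff _ δ.injective]
    decide +kernel)
  have c : ∀ i a, aP (pv i) (aP v a) = aP v (aP (pv i) a) := fun i a => by
    rw [← MulAut.mul_apply, ← map_mul, hv, map_mul, MulAut.mul_apply]
  refine ⟨v, φ, sh_indB (by simp) (fun a a' e1 e2 => by simp only [map_mul, e1, e2]) (fun i a e1 => ?_) fun i => ?_,
    fun h0 => (k2 h0).imp fun ε k => ?_⟩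
  · rw [sh_iB, e, e1, sh_tw, sh_iB, c]
  · rw [← k1, ← e, ← map_mul, (by decide +kernel : ∀ i, iB (tb 0 (pp i)) = eb 0 * aP (pv i) (eb 0))]
  · obtain ⟨f, f1, f2⟩ : ∃ f : EG →* EG, (∀ a, alE ε a = f a) ∧ ∀ p a, f (aP p a) = aP p (f a) := by
      cases ε
      exacts [⟨.id _, fun _ => rfl, fun _ _ => rfl⟩, ⟨alH, fun _ => rfl, alH_aP⟩]
    simp only [f1] at k ⊢
    exact sh_indE (by simp) (fun a a' e1 e2 => by simp only [map_mul, e1, e2])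
      (fun i a e1 => by rw [e, e1, f2, c]) k

/-- an automorphism trivial on `A'` commuting with `V` is some `tw φ` -/
theorem endB' (δ : MulAut BG) (h : ∀ i, δ * cB (i0 (vv i)) = cB (i0 (vv i)) * δ)
    (h1 : ∀ t, TL.In 884 t → δ (gb (i0 t)) = gb (i0 t)) : ∃ φ, δ = tw φ := by
  obtain ⟨a, ha, φ, rfl⟩ := endB δ h
  obtain ⟨v, rfl⟩ := exists_va a ha
  refine ⟨φ, MulEquiv.ext fun b => ?_⟩
  exact (by decide +kernel : ∀ v φ, (∀ t ∈ [TL.x12, TL.x13, TL.x14], cB (i0 (va v)) (tw φ (gb (i0 t))) = gb (i0 t)) →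
    ∀ b, cB (i0 (va v)) b = b) v φ (fun t ht => h1 t ((by decide +kernel :
      ∀ t ∈ [TL.x12, TL.x13, TL.x14], TL.In 884 t) t ht)) _

end CfsgLib.Har
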