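import Cfsg.Agent.Lib.Har.Bas
import Cfsg.Agent.Lib.Har.Sh
import Cfsg.Agent.Lib.L33.Tool

/-!
Project HAR (S1918, plans/HAR.md). The 2-subgroups of `C(A') ⊓ N(B)` (package NB).
-/

set_option autoImplicit false
set_option Elab.async false
set_option linter.unusedSectionVars false
set_option synthInstance.maxSize 100000
set_option maxRecDepth 100000

namespace CfsgLib.Har

open Subgroup Equiv Function CfsgLib.W2 CfsgLib.W2.TG CfsgLib.Tech CfsgLib.PComp Cfsg CfsgLib.A16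
  CfsgLib.SylT

variable {G : Type*} [Group G] [Finite G] {J : TL →* G} {π : G → P16}
variable {β : BG →* G} {ρ σ : G} {ε : Bool} {e : EG →* G}

namespace NB

noncomputable abbrev ac (i : Fin 3) : MulAut BG := cB (i0 (vv i))
abbrev tt (i : Fin 3) : BG := tb 0 (pp i)
abbrev DD (J : TL →* G) (β : BG →* G) : Subgroup G :=
  centralizer (AP.map J : Set G) ⊓ normalizer (β.range : Set G)

theorem f0 : ∀ i, ph3 (vv i) = 0 := by decide +kernel

theorem f1 : ∀ v : Fin 16, ∃ a b c d : Fin 2,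
    va v = TL.z ^ a.val * vv 0 ^ b.val * vv 1 ^ c.val * vv 2 ^ d.val := by decide +kernel

theorem f2 : TL.In 884 TL.z ∧ TL.In 884 TL.x12 ∧ TL.In 884 TL.x13 ∧ TL.In 884 TL.x14 ∧ ∀ v : Fin 16,
    TL.x12 * va v = va v * TL.x12 → TL.x13 * va v = va v * TL.x13 → TL.x14 * va v = va v * TL.x14 →
      TL.In 884 (va v) := by decide +kernel

theorem f3 : ∀ i t, TL.In 884 t → TL.In 884 ((vv i)⁻¹ * t * vv i) := by decide +kernel

theorem f4 : ∀ φ i b, ¬ ∀ j, ac j (tw φ b * tt i * ac i b) = tw φ b * tt i * ac i b * tw φ (tt j) * tt j := by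
  decide +kernel

theorem f5 : ∀ ε φ, φ ≠ 0 → ∃ ψ, (∃ b, tw φ b = b ∧ tw ψ b ≠ b) ∧ (∃ b, tw φ b ≠ b) ∧
    ((∀ b, sR (tw φ (sR⁻¹ b)) = tw ψ b) ∨ ∀ b, th ε TL.x23 (tw φ ((th ε TL.x23)⁻¹ b)) = tw ψ b) := by
  decide +kernel

theorem f6 : (∀ φ ψ, ∃ χ, ∀ b, tw φ (tw ψ b) = tw χ b) ∧ (∀ φ b, tw φ (tw φ b) = b) ∧
    ∀ φ t, TL.In 884 t → tw φ (gb (i0 t)) = gb (i0 t) := by decide +kernel

theorem cB' (a b : BG) : β a * β b = β b * β a := by rw [← map_mul, mul_comm, map_mul]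

theorem mb (a : BG) : β a ∈ β.range := ⟨a, rfl⟩

theorem binv (a : BG) : (β a)⁻¹ = β a := inv_eq_of_mul_eq_one_right (by rw [← map_mul, BG.sq, map_one])

theorem vsq (i : Fin 3) : J (vv i) * J (vv i) = 1 := by rw [← map_mul, (vv_facts i).2.2.2.1, map_one]

/-- the nontrivial cocycle -/
def Y (J : TL →* G) (β : BG →* G) (y : G) : Prop := ∀ i, J (vv i) * y * (J (vv i))⁻¹ = y * β (tt i)

variable (h : Hy J π) (hb : BS J π β ρ ε)
include hb

theorem rel (i : Fin 3) (b : BG) : J (vv i) * β b * (J (vv i))⁻¹ = β (ac i b) := by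
  have := hb.act (vv i) b
  rwa [th, f0, ite_self, tw_zero, one_mul] at this

theorem two : IsPGroup 2 β.range :=
  isPGroup_iff_mem.2 (by rintro _ ⟨b, rfl⟩; exact ⟨1, by rw [pow_one, pow_two, ← map_mul, BG.sq, map_one]⟩)

theorem card : Nat.card β.range = 128 := by
  rw [← Nat.card_congr (MonoidHom.ofInjective hb.inj).toEquiv, card_eq]

theorem B_le : β.range ≤ DD J β := by
  rintro _ ⟨b, rfl⟩
  refine ⟨mem_centralizer_iff.2 ?_, le_normalizer ⟨b, rfl⟩⟩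
  rintro _ ⟨t, ht, rfl⟩
  rw [← hb.a t ht, cB']

theorem vB (i : Fin 3) : J (vv i) ∈ normalizer (β.range : Set G) :=
  mem_normalizer_of_forall (by rintro _ ⟨b, rfl⟩; exact ⟨_, (rel hb i b).symm⟩)

theorem vD (i : Fin 3) : J (vv i) ∈ normalizer (DD J β : Set G) :=
  mem_normalizer_of_forall fun g hg => by
    refine mem_inf.2 ⟨mem_centralizer_iff.2 ?_,
      mul_mem (mul_mem (vB hb i) (mem_inf.1 hg).2) (inv_mem (vB hb i))⟩
    rintro _ ⟨t, ht, rfl⟩
    have := mem_centralizer_iff.1 hg.1 _ ⟨_, f3 i t ht, rfl⟩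
    rw [map_mul, map_mul, map_inv] at this
    calc _ = J (vv i) * ((J (vv i))⁻¹ * J t * J (vv i) * g) * (J (vv i))⁻¹ := by group
      _ = _ := by rw [this]; group

theorem exists_tw {y : G} (hy : y ∈ DD J β) (Yy : Y J β y) : ∃ φ, ∀ b, y * β b * y⁻¹ = β (tw φ b) := by
  let θ := (MonoidHom.ofInjective hb.inj)
  let δ : MulAut BG := (θ.trans (β.range.normalizerMonoidHom ⟨y, hy.2⟩)).trans θ.symm
  have hδ : ∀ b, β (δ b) = y * β b * y⁻¹ := fun b => MonoidHom.apply_ofInjective_symm hb.inj _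
  refine (endB' δ (fun i => MulEquiv.ext fun b => hb.inj ?_) fun t ht => hb.inj ?_).imp
    fun φ e b => by rw [← e, hδ]
  · rw [MulAut.mul_apply, MulAut.mul_apply, hδ, ← rel hb, ← rel hb, hδ]
    calc _ = y * (β (tt i) * (J (vv i) * β b * (J (vv i))⁻¹) * (β (tt i))⁻¹) * y⁻¹ := by
          rw [rel hb, cB' (tt i), mul_inv_cancel_right]
      _ = y * β (tt i) * (J (vv i) * β b * (J (vv i))⁻¹) * (y * β (tt i))⁻¹ := by group
      _ = _ := by rw [← Yy i]; group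
  · rw [hδ, hb.a t ht, ← mem_centralizer_iff.1 hy.1 _ ⟨t, ht, rfl⟩, mul_inv_cancel_right]

include h

theorem L0 {g : G} (hg : g ∈ centralizer (AP.map J : Set G)) (h2 : ∃ k, g ^ 2 ^ k = 1)
    (hc : ∀ i, J (vv i) * g * (J (vv i))⁻¹ = g) : g ∈ β.range := by
  have c := fun t (ht : TL.In 884 t) => mem_centralizer_iff.1 hg _ ⟨t, ht, rfl⟩
  have c' : ∀ i, Commute (J (vv i)) g := fun i => mul_inv_eq_iff_eq_mul.1 (hc i)
  refine (h.cent2 (g := g) (fun t ht => ?_) h2).elim fun a ha => ?_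
  swap
  · obtain ⟨ha, rfl⟩ := ha
    obtain ⟨v, rfl⟩ := exists_va a ha
    have k := fun t ht => h.inj ((map_mul J _ _).trans ((c t ht).trans (map_mul J _ _).symm))
    exact ⟨_, hb.a _ (f2.2.2.2.2 v (k _ f2.2.1) (k _ f2.2.2.1) (k _ f2.2.2.2.1))⟩
  · obtain ⟨v, rfl⟩ := exists_va t ht
    obtain ⟨a, b, c₁, d, e⟩ := f1 v
    rw [e, map_mul, map_mul, map_mul, map_pow, map_pow, map_pow, map_pow]
    exact ((((Commute.pow_left (c _ f2.1) _).mul_left ((c' 0).pow_left _)).mul_left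
      ((c' 1).pow_left _)).mul_left ((c' 2).pow_left _)).symm

variable {S : Subgroup G} (hS : IsPGroup 2 S) (SD : S ≤ DD J β)
include hS SD

theorem L1 (BS' : β.range ≤ S) {r : G} (hr : r ∈ S)
    (hc : ∀ i, r⁻¹ * (J (vv i) * r * (J (vv i))⁻¹) ∈ β.range) :
    r ∈ β.range ∨ ∃ b, Y J β (r * β b) := by
  choose c hc using hc
  have e : ∀ i, J (vv i) * r * (J (vv i))⁻¹ = r * β (c i) := fun i => by rw [hc]; group
  have e2 : ∀ i j, J (vv i) * J (vv j) * r * (J (vv i) * J (vv j))⁻¹ = r * β (c i * ac i (c j)) := fun i j => by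
    rw [map_mul, ← rel hb, ← mul_assoc r, ← e, conj_mul, ← e]; group
  refine (sh c (fun i => hb.inj ?_) fun i j => hb.inj ?_).elim fun b H => ?_
  rotate_right
  · have e3 : ∀ i, J (vv i) * (r * β b) * (J (vv i))⁻¹ = r * β (c i * ac i b) := fun i => by
      rw [← conj_mul, e, rel hb, map_mul, mul_assoc]
    rcases H with H | H
    · refine .inl ((mul_mem_cancel_right (mb b)).1 (L0 h hb (SD (mul_mem hr (BS' ⟨b, rfl⟩))).1
        (isPGroup_iff_mem.1 hS _ (mul_mem hr (BS' ⟨b, rfl⟩))) fun i => ?_))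
      rw [e3, H, mul_assoc b, BG.sq, mul_one]
    · refine .inr ⟨b, fun i => ?_⟩
      rw [e3, H, mul_right_comm (b * _), mul_assoc b, BG.sq, mul_one, map_mul, mul_assoc]
  · have := e2 i i
    rw [vsq, one_mul, inv_one, mul_one] at this
    rw [map_one]
    exact (left_eq_mul.1 this)
  · have := e2 i j
    rw [← map_mul, (vv_facts i).2.2.2.2 j, map_mul, e2] at this
    exact (mul_left_cancel this).symm

theorem L2 {y y' : G} (hy : y ∈ S) (hy' : y' ∈ S) (a : Y J β y) (a' : Y J β y') : y' * y⁻¹ ∈ β.range :=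
  L0 h hb (SD (mul_mem hy' (inv_mem hy))).1 (isPGroup_iff_mem.1 hS _ (mul_mem hy' (inv_mem hy))) fun i => by
    rw [← conj_mul, ← conj_inv, a, a']; group

end NB

open NB

/-- `D = C(A') ⊓ N(B) ⊇ B` is normalized by `A`; it suffices to bound a Sylow subgroup `S ⊇ B` of `D`
normalized by `A` (`syl_inv`). (1) If `r ∈ S` and `c i = [r, J (vv i)] ∈ B` for all `i`, then `c`
is a cocycle; by `sh`, `r b` centralizes `A` (then `r b ∈ A ⊓ C(A') = ⟨z⟩ ≤ B` by `cent2`) or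
`[r b, v i] = tb 0 (pp i)`. So such `r` form a group `B₁` with `|B₁ : B| ≤ 2`. (2) Suppose
`|S| > 256`; then `B₁ = B⟨y⟩ < S` (`step` for `P = B`), `J v · y · J v⁻¹ = y c_v`, `c_v = tb 0 (v 0)` for all
`v ∈ A`; `y` acts on `B` as `tw φ` (`endB'`). `step` for `P = B₁` gives `r ∈ S ∖ B₁` with
`[r, v] ∈ B₁`, and `[r, v] ∉ B` for some `v = vv i`, i.e. `v r v⁻¹ = r y b`; `v² = 1` gives
`y b · y c_v · b^v = 1`, so `y² ≡ c_v b b^v` modulo `zb`. Also `y² ∈ B` is fixed by `V` modulo `zb`.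
Decide: for all `i, b`, `tb 0 (pp i) · b · v_i b` is not fixed modulo `zb` by all of `V` (its weight is
`2 mod 4`, `A'` has weights `0, 4, 8`). -/
theorem BS.bound (h : Hy J π) (hb : BS J π β ρ ε) {R : Subgroup G} (h2 : IsPGroup 2 R)
    (hc : R ≤ centralizer (AP.map J : Set G)) (hn : R ≤ normalizer (β.range : Set G)) :
    Nat.card R ≤ 256 := by
  let V : Subgroup G := closure (Set.range fun i => J (vv i))
  have hV : IsPGroup 2 V := h.syl.pgroup.to_le ((closure_le _).2 (by rintro _ ⟨i, rfl⟩; exact ⟨_, rfl⟩))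
  have nV : ∀ {X : Subgroup G}, (∀ i, J (vv i) ∈ normalizer (X : Set G)) → V ≤ normalizer (X : Set G) :=
    fun hX => (closure_le _).2 (by rintro _ ⟨i, rfl⟩; exact hX i)
  have mV : ∀ i, J (vv i) ∈ V := fun i => subset_closure ⟨i, rfl⟩
  obtain ⟨S, hS, BS', VS⟩ := syl_inv hV (nV (vD hb)) (two hb) (B_le hb) (nV (vB hb))
  refine (hS.card_le h2 (le_inf hc hn)).trans ?_
  have key : ∀ {P : Subgroup G} {r : G}, r ∈ normalizer (P : Set G) → (∀ v ∈ V, r * v * r⁻¹ * v⁻¹ ∈ P) →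
      ∀ i, r⁻¹ * (J (vv i) * r * (J (vv i))⁻¹) ∈ P := fun {P r} hr H i => by
    have := conj_mem_of_mem_normalizer' hr (inv_mem (H _ (mV i)))
    rwa [show r⁻¹ * (r * J (vv i) * r⁻¹ * (J (vv i))⁻¹)⁻¹ * r = r⁻¹ * (J (vv i) * r * (J (vv i))⁻¹) by group]
      at this
  by_cases h1 : S ≤ β.range
  · exact (card_le_of_le h1).trans (by rw [card hb]; norm_num)
  obtain ⟨r, rS, rB, rN, H⟩ := step hS.pgroup hV BS' VS (nV (vB hb)) h1
  obtain ⟨b, Yy⟩ := (L1 h hb hS.pgroup hS.le BS' rS (key rN H)).resolve_left rB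
  have yS : r * β b ∈ S := mul_mem rS (BS' ⟨b, rfl⟩)
  have yB : r * β b ∉ β.range := fun e => rB ((mul_mem_cancel_right (mb b)).1 e)
  generalize r * β b = y at Yy yS yB
  clear rS rB rN H
  obtain ⟨φ, hφ⟩ := exists_tw hb (hS.le yS) Yy
  have hφ' : ∀ b, β b * y = y * β (tw φ b) := fun b => by
    have := hφ (tw φ b)
    rw [f6.2.1] at this
    rw [← this]; group
  have yn : ∀ k ∈ β.range, y * k * y⁻¹ ∈ β.range := by rintro _ ⟨k, rfl⟩; exact ⟨_, (hφ k).symm⟩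
  have sq : ∀ i, J (vv i) * (y * y) * (J (vv i))⁻¹ = y * y * β (tw φ (tt i) * tt i) := fun i => by
    rw [← conj_mul, Yy, map_mul, mul_assoc y (β _), ← mul_assoc (β _), hφ']; group
  have y2 : y * y ∈ β.range := by
    refine (L1 h hb hS.pgroup hS.le BS' (mul_mem yS yS) fun i => ⟨tw φ (tt i) * tt i, by rw [sq]; group⟩).resolve_right ?_
    rintro ⟨b', Y'⟩
    have := L2 h hb hS.pgroup hS.le yS (mul_mem (mul_mem yS yS) (BS' ⟨b', rfl⟩)) Yy Y'
    rw [show y * y * β b' * y⁻¹ = y * (y * β b' * y⁻¹) by group] at this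
    exact yB ((mul_mem_cancel_right (yn _ ⟨b', rfl⟩)).1 this)
  have yP : y ∈ β.range ⊔ zpowers y := mem_sup_right (mem_zpowers y)
  by_cases h3 : S ≤ β.range ⊔ zpowers y
  · exact (card_le_of_le h3).trans (by rw [L33.card_sup_two yn y2 yB, card hb])
  exfalso
  obtain ⟨r, rS, rB, rN, H⟩ := step hS.pgroup hV (sup_le BS' (zpowers_le.2 yS)) VS
    (nV fun i => mem_normalizer_of_forall fun g hg => by
      rcases (L33.mem_sup_two yn y2).1 hg with ⟨k, rfl⟩ | ⟨k, e⟩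
      · exact mem_sup_left ⟨_, (rel hb i k).symm⟩
      · rw [show g = y⁻¹ * β k by rw [e]; group, ← conj_mul, ← conj_inv, Yy, rel hb]
        exact mul_mem (inv_mem (mul_mem yP (mem_sup_left ⟨_, rfl⟩))) (mem_sup_left ⟨_, rfl⟩)) h3
  by_cases h4 : ∀ i, r⁻¹ * (J (vv i) * r * (J (vv i))⁻¹) ∈ β.range
  · rcases L1 h hb hS.pgroup hS.le BS' rS h4 with e | ⟨b', Y'⟩
    · exact rB (mem_sup_left e)
    · have := mul_mem (mem_sup_left (L2 h hb hS.pgroup hS.le yS (mul_mem rS (BS' ⟨b', rfl⟩)) Yy Y')) yP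
      rw [inv_mul_cancel_right] at this
      exact rB ((mul_mem_cancel_right (mem_sup_left (mb b'))).1 this)
  obtain ⟨i, hi⟩ := not_forall.1 h4
  obtain ⟨k, e⟩ := ((L33.mem_sup_two yn y2).1 (key rN H i)).resolve_left hi
  obtain ⟨s, hs⟩ := y2
  have e1 : J (vv i) * r * (J (vv i))⁻¹ = r * (y * β (s * k)) := by
    rw [map_mul, ← binv s, hs, e]; group
  generalize s * k = c at e1
  have e2 : s = tw φ c * tt i * ac i c := by
    have e3 : r = J (vv i) * (J (vv i) * r * (J (vv i))⁻¹) * (J (vv i))⁻¹ := by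
      rw [show J (vv i) * (J (vv i) * r * (J (vv i))⁻¹) * (J (vv i))⁻¹ =
        J (vv i) * J (vv i) * r * (J (vv i) * J (vv i))⁻¹ by group, vsq]; simp
    rw [e1, ← conj_mul, ← conj_mul, e1, Yy, rel hb, mul_assoc r, left_eq_mul,
      show y * β c * (y * β (tt i) * β (ac i c)) = y * (β c * y) * β (tt i) * β (ac i c) by group, hφ',
      ← mul_assoc, ← hs, ← map_mul, ← map_mul, ← map_mul, map_eq_one_iff _ hb.inj, mul_assoc,
      mul_assoc] at e3
    rw [eq_inv_of_mul_eq_one_left e3, inv_eq_of_mul_eq_one_right (BG.sq _), mul_assoc]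
  refine f4 φ i c fun j => hb.inj ?_
  rw [← e2, ← rel hb, mul_assoc s, map_mul, hs, sq]

/-- If `g` acts as `tw φ`, `φ ≠ 0`, its conjugates under `ρ`, `J x23` act as all `tw ψ`
(`sR`, `th ε x23` permute the seven `tw ψ` transitively; decide). The action `θ` of
`D = C(A') ⊓ N(B)` on `B` has the group `{tw ψ}` of order 8 in its image, a Sylow subgroup `S ⊇ B` of
`D` maps onto a Sylow subgroup of the image, and `B ≤ ker θ`: `|S| ≥ 128 · 8`, against `bound`. -/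
theorem BS.no_tw (h : Hy J π) (hb : BS J π β ρ ε) {g : G} {φ : Fin 8}
    (hg : ∀ b, W2.Rel β g b (tw φ b)) : φ = 0 := by
  by_contra h0
  let H : Subgroup G := Held.subOf
    { carrier := {g | ∃ ψ, ∀ b, W2.Rel β g b (tw ψ b)}
      one_mem' := ⟨0, fun b => by rw [tw_zero]; exact W2.Rel.of_comm (by simp)⟩
      mul_mem' := by
        rintro x y ⟨ψ, a⟩ ⟨χ, c⟩
        obtain ⟨ω, e⟩ := f6.1 ψ χ
        exact ⟨ω, fun b => e b ▸ (a _).comp (c b)⟩ }
  have mH : ∀ {x}, x ∈ H ↔ ∃ ψ, ∀ b, W2.Rel β x b (tw ψ b) := Iff.rfl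
  have cH : ∀ {x}, x ∈ centralizer (β.range : Set G) ↔ ∀ b, W2.Rel β x b b := fun {x} =>
    ⟨fun a b => W2.Rel.of_comm (a _ ⟨b, rfl⟩).symm, fun a => by rintro _ ⟨b, rfl⟩; exact (a b).comm.symm⟩
  have CH : centralizer (β.range : Set G) ≤ H := fun x a => mH.2 ⟨0, by rw [tw_zero]; exact cH.1 a⟩
  have BC : β.range ≤ centralizer (β.range : Set G) := by
    rintro _ ⟨a, rfl⟩ _ ⟨b, rfl⟩; exact cB' _ _
  have HD : H ≤ DD J β := fun x ⟨ψ, a⟩ => by
    refine ⟨?_, mem_normalizer_of_forall (by rintro _ ⟨b, rfl⟩; exact ⟨_, Eq.symm (a b)⟩)⟩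
    rintro _ ⟨t, ht, rfl⟩
    have := a (gb (i0 t))
    rw [f6.2.2 ψ t ht] at this
    rw [← hb.a t ht, this.comm]
  obtain ⟨T, hT, BT⟩ := exists_isSylowIn_ge (two hb) (BC.trans CH)
  have cov : ∀ {x ψ}, (∀ b, W2.Rel β x b (tw ψ b)) → ∃ u ∈ T, ∀ b, W2.Rel β u b (tw ψ b) := fun {x ψ} a => by
    refine (L33.syl_cover hT CH (fun y hy c hc => cH.2 fun b => ?_) (fun y hy => ?_) (mH.2 ⟨ψ, a⟩)).imp
      fun u hu => ⟨hu.1, fun b => ?_⟩
    rotate_right
    · have := (a b).comp (cH.1 hu.2 b).symm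
      rwa [show x * (u⁻¹ * x)⁻¹ = u by group] at this
    · obtain ⟨χ, e⟩ := mH.1 hy
      have := ((e _).comp (cH.1 hc _)).comp (e (tw χ b)).symm
      rwa [f6.2.1] at this
    · obtain ⟨χ, e⟩ := mH.1 hy
      have : y * y ∈ centralizer (β.range : Set G) := cH.2 fun b => by
        have := (e _).comp (e b)
        rwa [f6.2.1] at this
      rw [show y ^ 4 = y * y * (y * y) by simp [pow_succ, mul_assoc]]
      exact mul_mem this this
  obtain ⟨ψ, ⟨b1, a1, a2⟩, ⟨b2, a3⟩, a4⟩ := f5 ε φ h0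
  have cj' : ∀ {w : G} {ω : MulAut BG}, (∀ b, W2.Rel β w b (ω b)) → (∀ b, ω (tw φ (ω⁻¹ b)) = tw ψ b) →
      ∃ u ∈ T, ∀ b, W2.Rel β u b (tw ψ b) := fun {w ω} a c => cov (x := w * g * w⁻¹) fun b => by
    have := ((a _).comp (hg _)).comp (a (ω⁻¹ b)).symm
    rwa [c, MulAut.apply_inv_self] at this
  obtain ⟨u2, u2T, hu2⟩ := a4.elim (cj' hb.rb) (cj' (hb.act _))
  obtain ⟨u1, u1T, hu1⟩ := cov hg
  have c1 := L33.two_mul_card_le (K := β.range) (Y := T ⊓ centralizer {β b1})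
    (le_inf BT (by rintro _ ⟨b, rfl⟩; exact mem_centralizer_singleton_iff.2 (cB' _ _))) (g := u1)
    ⟨u1T, mem_centralizer_singleton_iff.2 (((hu1 b1).of_eq rfl a1).comm)⟩
    fun e => a3 ((hu1 b2).uniq hb.inj (cH.1 (BC e) b2) rfl)
  have c2 := L33.two_mul_card_le (K := T ⊓ centralizer {β b1}) inf_le_left u2T
    fun e => a2 ((hu2 b1).uniq hb.inj (W2.Rel.of_comm (mem_centralizer_singleton_iff.1 e.2)) rfl)
  have c3 := hb.bound h hT.pgroup (hT.le.trans (HD.trans inf_le_left)) (hT.le.trans (HD.trans inf_le_right))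
  rw [card hb] at c1
  omega

end CfsgLib.Har
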