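import Cfsg.Agent.Lib.Har.Eta1
import Cfsg.Agent.Lib.Har.Nb

/-!
Project HAR (S1918, plans/HAR.md). The action of `x` on `B` (package ETA2).
-/

set_option autoImplicit false
set_option Elab.async false
set_option linter.unusedSectionVars false
set_option synthInstance.maxSize 100000
set_option maxRecDepth 100000

namespace CfsgLib.Har

open Subgroup Equiv Function CfsgLib.W2 CfsgLib.W2.TG CfsgLib.Tech CfsgLib.PComp Cfsg CfsgLib.A16
  CfsgLib.SylT

variable {G : Type*} [Group G] [Finite G] {J : TL →* G} {π : G → P16}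
variable {β : BG →* G} {ρ σ : G} {ε : Bool} {e : EG →* G}

namespace Eta2

noncomputable section

/-- the coordinates of `B` modulo `⟨ub i⟩` -/
def cf (K : ℕ) (b : BG) : Bool := par (o (Nat.land K b.v))

theorem cf_mul (K : ℕ) (a b : BG) : cf K (a * b) = xor (cf K a) (cf K b) := by
  rw [cf, cf, cf, ← par_mul]
  have h (c : BG) : Nat.land K c.v < 256 := lt_of_le_of_lt Nat.and_le_right (c.v_lt.trans (by decide))
  refine congrArg par (ext' ?_)
  rw [v_o (h _), v_mul, v_mul, v_o (h _), v_o (h _)]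
  exact Nat.and_xor_distrib_left

def sel (K : ℕ) (c b : BG) : BG := if cf K b then c else 1

theorem sel_mul (K : ℕ) (c a b : BG) : sel K c (a * b) = sel K c a * sel K c b := by
  rw [sel, sel, sel, cf_mul]
  cases cf K a <;> cases cf K b <;> simp [BG.sq]

def et (c d b : BG) : BG := b * sel 126 (ub 0) b * sel 120 c b * sel 102 d b

theorem et_mul (c d a b : BG) : et c d (a * b) = et c d a * et c d b := by
  simp only [et, sel_mul]; ac_rfl

def gs : List BG := [ub 0, ub 1, ub 2, ub 3, o 85, tb 3 7, tb 5 7]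

theorem gs_gen : genB gs 2 = true := by decide +kernel

abbrev InU (c : BG) : Prop := cf 126 c = false ∧ cf 120 c = false ∧ cf 102 c = false

theorem inU {c : BG} (h : ∃ a, bet c = eps a) : InU c := by
  obtain ⟨a, ha⟩ := h
  exact (by decide +kernel : ∀ c, pr (bet c) = 1 → InU c) c (by rw [ha, pr_eps])

theorem et_gs (c d : BG) : et c d 1 = 1 ∧ (∀ i, et c d (ub i) = ub i) ∧ et c d (o 85) = o 85 * ub 0 ∧
    et c d (tb 3 7) = tb 3 7 * c ∧ et c d (tb 5 7) = tb 5 7 * d := by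
  have h : InU 1 ∧ (∀ i, InU (ub i)) ∧ (cf 126 (o 85) = true ∧ cf 120 (o 85) = false ∧ cf 102 (o 85) = false) ∧
      (cf 126 (tb 3 7) = false ∧ cf 120 (tb 3 7) = true ∧ cf 102 (tb 3 7) = false) ∧
      (cf 126 (tb 5 7) = false ∧ cf 120 (tb 5 7) = false ∧ cf 102 (tb 5 7) = true) := by decide +kernel
  obtain ⟨h0, h1, h2, h3, h4⟩ := h
  refine ⟨?_, fun i => ?_, ?_, ?_, ?_⟩ <;> simp [et, sel, h0, h1, h2, h3, h4]

/-- the letters -/
def lt (ε : Bool) (c d : BG) (i : ℕ) (b : BG) : BG :=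
  if i = 0 then th ε TL.x23 b else if i = 1 then sR b else if i = 2 then et c d b else th ε TL.x45 b

def wa (ε : Bool) (c d : BG) (w : List ℕ) (b : BG) : BG := w.foldr (lt ε c d) b

theorem tri : ∀ (ε : Bool) (c : BG), InU c → ∀ d : BG, InU d →
    (∀ g ∈ gB, th ε TL.x35 (et c d g) = th ε (TL.x24 * TL.x25) (et c d (th ε TL.x35 g)) ∧
      th ε TL.x45 (et c d g) = th ε (TL.x23 * TL.x25) (et c d (th ε TL.x45 g))) →
    (ε, c.v, d.v) ∈ [(false, 0, 0), (false, 0, 127), (false, 127, 127), (false, 127, 0), (true, 30, 25),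
      (true, 97, 25), (true, 30, 102), (true, 97, 102)] := by decide +kernel

theorem w0 : ∀ g ∈ gB, wa false (o 0) (o 127) [0, 1, 1, 2, 1, 0, 1, 1, 2, 1] g = tw 2 g := by
  decide +kernel

theorem w1 : ∀ g ∈ gB, wa false (o 127) (o 127) [0, 1, 1, 2, 1, 0, 1, 1, 2, 1] g = tw 2 g := by
  decide +kernel

theorem w2 : ∀ g ∈ gB, wa false (o 127) (o 0) [1, 0, 2, 1, 3, 1, 0, 2, 1, 2, 1, 1, 2, 0, 3, 1, 2, 1, 1, 0, 2, 1, 3, 2, 1, 1, 3, 2] g = tw 2 g := by
  decide +kernel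

theorem w3 : ∀ g ∈ gB, wa true (o 30) (o 25) [0, 1, 1, 2, 1, 0, 1, 1, 2, 1, 3] g = tw 2 g := by
  decide +kernel

theorem w4 : ∀ g ∈ gB, wa true (o 97) (o 25) [0, 1, 1, 2, 1, 0, 1, 1, 2, 1, 3] g = tw 2 g := by
  decide +kernel

theorem w5 : ∀ g ∈ gB, wa true (o 30) (o 102) [0, 1, 2, 1, 1, 0, 2, 1, 2, 1, 1, 2, 0, 1, 2, 1, 1, 2] g = tw 1 g := by
  decide +kernel

theorem w6 : ∀ g ∈ gB, wa true (o 97) (o 102) [1, 0, 2, 1, 1, 0, 2, 1, 0, 2, 1, 1, 2, 0, 1, 2, 0, 1, 1, 2, 0] g = tw 1 g := by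
  decide +kernel

theorem fin : ∀ g ∈ gB, et (o 0) (o 0) g = cB (o 1) g := by decide +kernel

theorem wa_mul (ε : Bool) (c d : BG) (w : List ℕ) (a b : BG) :
    wa ε c d w (a * b) = wa ε c d w a * wa ε c d w b := by
  induction w with
  | nil => rfl
  | cons i w ih =>
    change lt ε c d i (wa ε c d w (a * b)) = lt ε c d i (wa ε c d w a) * lt ε c d i (wa ε c d w b)
    rw [ih]; unfold lt
    split_ifs
    exacts [map_mul _ _ _, map_mul _ _ _, et_mul _ _ _ _, map_mul _ _ _]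

omit [Finite G] in
theorem rel_all {x : G} {f : BG → BG} {l : List BG} {D : ℕ} (hl : genB l D = true)
    (hm : ∀ a b, f (a * b) = f a * f b) (hx : ∀ g ∈ l, W2.Rel β x g (f g)) (b : BG) :
    W2.Rel β x b (f b) := by
  have h1 : f 1 = 1 := by simpa using hm 1 1
  refine ind_of_genB hl (P := fun b => W2.Rel β x b (f b)) (W2.Rel.one.of_eq rfl h1.symm) (fun a ih g hg => ?_) b
  rw [hm]; exact ih.mul (hx g hg)

theorem kill (h : Hy J π) (hb : BS J π β ρ ε) {x : G} {c d : BG} (hx : ∀ b, W2.Rel β x b (et c d b))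
    {w : List ℕ} {φ : Fin 8} (hw : ∀ g ∈ gB, wa ε c d w g = tw φ g) : φ = 0 := by
  have k : ∀ w : List ℕ, ∃ y : G, ∀ b, W2.Rel β y b (wa ε c d w b) := by
    intro w
    induction w with
    | nil => exact ⟨1, fun b => by simp [W2.Rel, wa]⟩
    | cons i w ih =>
      obtain ⟨y, hy⟩ := ih
      have k : ∃ y : G, ∀ b, W2.Rel β y b (lt ε c d i b) := by
        unfold lt
        split_ifs
        exacts [⟨_, hb.act _⟩, ⟨_, hb.rb⟩, ⟨_, hx⟩, ⟨_, hb.act _⟩]
      obtain ⟨z, hz⟩ := k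
      exact ⟨z * y, fun b => (hz _).comp (hy b)⟩
  obtain ⟨y, hy⟩ := k w
  exact BS.no_tw h hb (g := y) (rel_all gB_gen (map_mul _) fun g hg => hw g hg ▸ hy g)

omit [Finite G] in
theorem comm_rel (hb : BS J π β ρ ε) (he : ES J β ε σ e) {η : BG → BG}
    (hx : ∀ b, W2.Rel β (e (eb 0)) b (η b)) {t f : TL} {q : Fin 8} (ht : W2.Rel e (J t) (eb 0) (eb q))
    (hf : TL.In 960 f ∧ ge (i0 f) * eb 0 = eb q) (g : BG) :
    th ε t (η g) = th ε f (η (th ε t g)) := by
  have e1 : J t * e (eb 0) = J f * (e (eb 0) * J t) := by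
    rw [← he.eF f hf.1, ← mul_assoc, ← map_mul, hf.2, ← ht, inv_mul_cancel_right]
  have r1 := (hb.act t _).comp (hx g)
  rw [e1] at r1
  exact r1.uniq hb.inj ((hb.act f _).comp ((hx _).comp (hb.act t g))) rfl

end

end Eta2

open Eta2

/-- `x` acts on `B` as `η` with `η (ub i) = ub i`, `η (o 85) = o 85 · ub 0`, `η (tb 3 7) = tb 3 7 · c₁`,
`η (tb 5 7) = tb 5 7 · c₂`, `c_i ∈ ⟨ub i⟩` (these seven elements are a basis). From the fields `x35`,
`x45`: `x · J x35 = J (x24 x25) · J x35 · x` and `x · J x45 = J (x23 x25) · J x45 · x` (as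
`ge (i0 (x24 x25)) = eb 0 eb 2`, `ge (i0 (x23 x25)) = eb 0 eb 4`), so
`η θ(x35) = θ(x24 x25) θ(x35) η`, `η θ(x45) = θ(x23 x25) θ(x45) η`, `θ = th ε`. Decide over the
`2 · 16 · 16` triples `(ε, c₁.v, c₂.v)`: they are `(0,0,0)` (then `η = cB (xs 0)`) and seven others,
each killed by `no_tw` for a word (`a = J x23`, `c = ρ`, `e = x`, `v = J x45`, product from left to
right) acting as `tw φ`: `(0,0,127), (0,127,127)`: `accecaccec` (`φ = 2`); `(0,127,0)`:
`caecvcaececceavceccaecveccve` (2); `(1,30,25), (1,97,25)`: `accecaccecv` (2); `(1,30,102)`: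
`aceccaececceacecce` (1); `(1,97,102)`: `caeccaecaecceaceaccea` (1). -/
theorem ES.eta (h : Hy J π) (hb : BS J π β ρ ε) (he : ES J β ε σ e) :
    ε = false ∧ ∀ b, W2.Rel β (e (eb 0)) b (cB (xs 0) b) := by
  obtain ⟨c, hc, rc⟩ := he.eta1 h hb (tb 3 7)
  obtain ⟨d, hd, rd⟩ := he.eta1 h hb (tb 5 7)
  obtain ⟨-, hu, h85, h37, h57⟩ := et_gs c d
  have ru (i : Fin 4) : W2.Rel β (e (eb 0)) (ub i) (et c d (ub i)) := by
    rw [hu]
    refine W2.Rel.of_comm ?_
    rw [← he.eu, ← map_mul, ← map_mul, mul_comm]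
  have r85 : W2.Rel β (e (eb 0)) (o 85) (et c d (o 85)) := by
    have k : TL.In 884 TL.x12 ∧ gb (i0 TL.x12) = o 85 ∧ eb 1 = eb 0 * ue 0 := by decide +kernel
    have e1 := hb.a _ k.1
    have e2 := he.x12
    have e3 : (e (eb 0))⁻¹ = e (eb 0) := by rw [← map_inv]; rfl
    rw [k.2.1] at e1
    rw [W2.Rel, ← e1, k.2.2, map_mul, he.eu, mul_inv_eq_iff_eq_mul] at e2
    rw [W2.Rel, h85, mul_comm (o 85), map_mul, e3, mul_assoc, e2, ← mul_assoc, ← mul_assoc, ← map_mul,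
      EG.sq, map_one, one_mul]
  have hx : ∀ b, W2.Rel β (e (eb 0)) b (et c d b) := rel_all gs_gen (et_mul c d) fun g hg => by
    simp only [gs, List.mem_cons, List.not_mem_nil, or_false] at hg
    rcases hg with rfl | rfl | rfl | rfl | rfl | rfl | rfl
    exacts [ru _, ru _, ru _, ru _, r85, h37 ▸ rc, h57 ▸ rd]
  have ht := tri ε c (inU hc) d (inU hd) fun g _ =>
    ⟨comm_rel hb he hx he.x35 (by decide +kernel) g, comm_rel hb he hx he.x45 (by decide +kernel) g⟩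
  rw [← o_v c, ← o_v d] at hx
  simp only [List.mem_cons, List.not_mem_nil, or_false, Prod.mk.injEq] at ht
  rcases ht with ⟨rfl, h1, h2⟩ | ⟨rfl, h1, h2⟩ | ⟨rfl, h1, h2⟩ | ⟨rfl, h1, h2⟩ | ⟨rfl, h1, h2⟩ |
    ⟨rfl, h1, h2⟩ | ⟨rfl, h1, h2⟩ | ⟨rfl, h1, h2⟩ <;> rw [h1, h2] at hx
  · refine ⟨rfl, ?_⟩
    rw [xs_zero.1]
    exact rel_all gB_gen (map_mul _) fun g hg => fin g hg ▸ hx g
  · exact absurd (kill h hb hx w0) (by decide)
  · exact absurd (kill h hb hx w1) (by decide)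
  · exact absurd (kill h hb hx w2) (by decide)
  · exact absurd (kill h hb hx w3) (by decide)
  · exact absurd (kill h hb hx w4) (by decide)
  · exact absurd (kill h hb hx w5) (by decide)
  · exact absurd (kill h hb hx w6) (by decide)

end CfsgLib.Har
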