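import Cfsg.Agent.Lib.Har.Bas

/-!
Project HAR (S1918, plans/HAR.md). The group `L` of elements acting on `AF` as `E` (package EX0).
-/

set_option autoImplicit false
set_option Elab.async false
set_option linter.unusedSectionVars false
set_option synthInstance.maxSize 100000
set_option maxRecDepth 100000

namespace CfsgLib.Har

open Subgroup Equiv Function CfsgLib.W2 CfsgLib.W2.TG CfsgLib.Tech CfsgLib.PComp Cfsg CfsgLib.A16
  CfsgLib.SylT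

variable {G : Type*} [Group G] [Finite G] {J : TL →* G} {π : G → P16}
variable {β : BG →* G} {ρ σ : G} {ε : Bool} {e : EG →* G}

/-! ### model facts -/

noncomputable def exf (i : Fin 6) : TL := ![TL.z, TL.x14, TL.x25, TL.x13, TL.x24, TL.x23] i

noncomputable def exa (i : Fin 8) : EG :=
  ![ge (i0 (exf 0)), ge (i0 (exf 1)), ge (i0 (exf 2)), ge (i0 (exf 3)), ge (i0 (exf 4)), ge (i0 (exf 5)),
    ue 0, eb 0] i

noncomputable def exk (i : Fin 8) (t : TL) : TL :=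
  ![exf 0 * t * (exf 0)⁻¹, exf 1 * t * (exf 1)⁻¹, exf 2 * t * (exf 2)⁻¹, exf 3 * t * (exf 3)⁻¹,
    exf 4 * t * (exf 4)⁻¹, exf 5 * t * (exf 5)⁻¹, ku t, kx t] i

theorem exa_gen : genB (List.ofFn exa) 8 = true := by decide +kernel

theorem exk_spec : ∀ i t, TL.In 640 t → TL.In 640 (exk i t) ∧
    i0 (exk i t) = eps (exa i) * i0 t * (eps (exa i))⁻¹ ∧
    i0 (sP (exk i t)) = eps (sE (exa i)) * i0 (sP t) * (eps (sE (exa i)))⁻¹ := by decide +kernel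

theorem ex_all (a : EG) : ∀ t, TL.In 640 t → ∃ s, TL.In 640 s ∧ i0 s = eps a * i0 t * (eps a)⁻¹ ∧
    i0 (sP s) = eps (sE a) * i0 (sP t) * (eps (sE a))⁻¹ := by
  refine ind_of_genB exa_gen (P := fun a => ∀ t, TL.In 640 t → ∃ s, TL.In 640 s ∧
    i0 s = eps a * i0 t * (eps a)⁻¹ ∧ i0 (sP s) = eps (sE a) * i0 (sP t) * (eps (sE a))⁻¹)
    (fun t ht => ⟨t, ht, by simp, by simp⟩) (fun a ih g hg t ht => ?_) a
  obtain ⟨i, rfl⟩ := List.mem_ofFn.1 hg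
  obtain ⟨h1, h2, h3⟩ := exk_spec i t ht
  obtain ⟨s, k1, k2, k3⟩ := ih _ h1
  refine ⟨s, k1, ?_, ?_⟩
  · rw [k2, h2, map_mul]; group
  · rw [k3, h3, map_mul, map_mul]; group

theorem ex_in {a : EG} {t s : TL} (ht : TL.In 640 t) (e : i0 s = eps a * i0 t * (eps a)⁻¹) :
    TL.In 640 s ∧ i0 (sP s) = eps (sE a) * i0 (sP t) * (eps (sE a))⁻¹ := by
  obtain ⟨r, h1, h2, h3⟩ := ex_all a t ht
  obtain rfl := i0_inj (h2.trans e.symm)
  exact ⟨h1, h3⟩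

theorem ex_F : ∀ t, TL.In 960 t → eps (ge (i0 t)) = i0 t := by decide +kernel

/-- `Z(AF) = ⟨z, x25⟩` -/
abbrev ExZ (t : TL) : Prop := t = 1 ∨ t = TL.z ∨ t = TL.x25 ∨ t = TL.z * TL.x25

noncomputable def exZ : Subgroup TL := sub ExZ (by decide +kernel)

theorem card_exZ : Nat.card exZ = 4 := (card_sub _ _).trans (by decide +kernel)

theorem card_EZ0 : Nat.card EZ = 64 := (card_sub _ _).trans (by decide +kernel)

noncomputable def exA (i : Fin 6) : TL := ![TL.x13, TL.x23, TL.x35, TL.x45, TL.x14, TL.x24] i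

noncomputable def exz (i : Fin 4) : TL := ![1, TL.z, TL.x25, TL.z * TL.x25] i

theorem exA_mem : ∀ i, TL.In 640 (exA i) := by decide +kernel

theorem exz_mem : ∀ i, ExZ (exz i) := by decide +kernel

theorem ex_cE : ∀ c : EG, (∀ i, eps c * i0 (exA i) = i0 (exA i) * eps c) →
    ∃ i, c = ge (i0 (exz i)) := by decide +kernel

theorem ex_cA : ∀ a, TL.In 698 a → (∀ i, exA i = a⁻¹ * exA i * a⁻¹⁻¹) → ExZ a := by decide +kernel

theorem ex_Z : ∀ a, ExZ a → TL.In 960 a ∧ (∀ t, TL.In 640 t → a * t * a⁻¹ = t) ∧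
    ∀ c : EG, Nat.land c.v 3 = 0 → Nat.land (c * ge (i0 a)).v 3 = 0 → c * ge (i0 a) = c := by
  decide +kernel

theorem ex_nz : ∀ c : EG, ∃ i, Nat.land (c * ge (i0 (exz i))).v 3 = 0 := by decide +kernel

theorem ex_u : ∀ ε t, TL.In 640 t → TL.In 884 (ku t * t⁻¹) ∧
    gb (i0 (ku t * t⁻¹)) = ub 0 * (th ε t (ub 0))⁻¹ := by decide +kernel

theorem ex_sP : ∀ t, TL.In 640 t → TL.In 640 (sP (sP t)) ∧ sP (sP (sP t)) = t := by decide +kernel

theorem ex_sub : ∀ t : TL, (TL.In 698 t → TL.In 640 t) ∧ (TL.In 960 t → TL.In 640 t) ∧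
    (TL.In 640 t → TL.In 128 t) := by decide +kernel

theorem ex_gen2 : genB (sE (ue 0) :: ue 0 :: List.ofFn fun i => ge (i0 (exf i))) 8 = true := by
  decide +kernel

/-! ### the group `L` -/

/-- conjugation by `eps a` preserves `i0 AF` (decide on `a ∈ gE`) -/
theorem AcE.mul {g g' : G} {a a' : EG} (h : AcE J g a) (h' : AcE J g' a') : AcE J (g * g') (a * a') := by
  intro t ht
  obtain ⟨s, h1, h2⟩ := h' t ht
  obtain ⟨r, h3, h4⟩ := h s (ex_in ht h2).1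
  exact ⟨r, h3.comp h1, by rw [h4, h2, map_mul]; group⟩

/-- the elements acting on `AF` as an element of `E` -/
noncomputable def LL (J : TL →* G) : Subgroup G := Held.subOf
  { carrier := {g | ∃ a, AcE J g a}
    one_mem' := ⟨1, fun t _ => ⟨t, by simp [W2.Rel], by simp⟩⟩
    mul_mem' := fun ⟨_, h⟩ ⟨_, h'⟩ => ⟨_, h.mul h'⟩ }

theorem mem_LL {g : G} : g ∈ LL J ↔ ∃ a, AcE J g a := Iff.rfl

theorem acE_F (t : TL) (ht : TL.In 960 t) : AcE J (J t) (ge (i0 t)) := fun r _ =>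
  ⟨_, W2.Rel.conj J t r, by rw [ex_F t ht, map_mul, map_mul, map_inv]⟩

/-- `AcE J g a` and `AcE J g a'` iff `a a' ∈ ⟨z, x25⟩ = {0, 255, 85, 170}` -/
theorem AcE.uniq (hJ : Injective J) {g : G} {a a' : EG} (h : AcE J g a) (h' : AcE J g a') :
    ∃ t, (t = 1 ∨ t = TL.z ∨ t = TL.x25 ∨ t = TL.z * TL.x25) ∧ a' = a * ge (i0 t) := by
  obtain ⟨t, h2⟩ := ex_cE (a⁻¹ * a') fun i => by
    have ht := exA_mem i
    generalize exA i = t at ht ⊢
    obtain ⟨s, k1, k2⟩ := h t ht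
    obtain ⟨s', k3, k4⟩ := h' t ht
    obtain rfl := k1.uniq hJ k3 rfl
    rw [map_mul, map_inv]
    calc (eps a)⁻¹ * eps a' * i0 t = (eps a)⁻¹ * (eps a' * i0 t * (eps a')⁻¹) * eps a' := by group
      _ = _ := by rw [← k4, k2]; group
  exact ⟨_, exz_mem t, by rw [← h2, mul_inv_cancel_left]⟩

theorem AcE.ex_rel {g : G} (hg : AcE J g 1) {t : TL} (ht : TL.In 640 t) : W2.Rel J g t t := by
  obtain ⟨s, h1, h2⟩ := hg t ht
  obtain rfl : s = t := i0_inj (by simpa using h2)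
  exact h1

theorem AcE.ex_adj {g : G} {a : EG} (h : AcE J g a) {c : TL} (hc : ExZ c) :
    AcE J g (a * ge (i0 c)) := fun t ht => by
  obtain ⟨s, h1, h2⟩ := h t ht
  obtain ⟨k1, k2, -⟩ := ex_Z c hc
  refine ⟨s, h1, ?_⟩
  rw [h2, map_mul, ex_F c k1]
  conv_lhs => rw [← k2 t ht, map_mul, map_mul, map_inv]
  group

/-- `C(AF) = ⟨z, x25⟩ × O'` (`cent`) -/
theorem Hy.cAF (h : Hy J π) {g : G} (hg : AcE J g 1) : g ∈ NA J ∧
    ∃ t, (t = 1 ∨ t = TL.z ∨ t = TL.x25 ∨ t = TL.z * TL.x25) ∧ π (g * (J t)⁻¹) = 1 := by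
  obtain ⟨h1, a, h2, h3⟩ := h.cent (g := g) fun t ht => (hg.ex_rel ((ex_sub t).1 ht)).comm
  refine ⟨h1, a, ex_cA a h2 fun i => h.O_cent (mul_mem h1 (inv_mem (h.memN a))) h3 ?_, h3⟩
  have k : a⁻¹ * exA i * a⁻¹⁻¹ ∈ AF := by
    have k1 : a ∈ AF := (ex_sub a).1 h2
    exact mul_mem (mul_mem (inv_mem k1) (exA_mem i)) (inv_mem (inv_mem k1))
  rw [← map_inv]
  exact (hg.ex_rel k).comp (W2.Rel.conj J a⁻¹ _)

/-- `u J t u⁻¹ = u · β (th ε t u) · J t`, and `th ε t (ub 0) = cB (i0 t) (ub 0) ∈ ub 0 · A'` for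
`t ∈ AF`; `i0_ku`. -/
theorem BS.acE_u (hb : BS J π β ρ ε) : AcE J (β (ub 0)) (ue 0) := fun t ht => by
  obtain ⟨h1, h2⟩ := ex_u ε t ht
  refine ⟨ku t, ?_, by rw [i0_ku, z_facts.2.2.2.2.2]⟩
  have h3 := hb.a _ h1
  have h4 : J t * _ * (J t)⁻¹ = _ := hb.act t (ub 0)
  rw [h2, map_mul, map_inv, ← h4, map_mul, map_inv, ← mul_inv_eq_iff_eq_mul, inv_inv] at h3
  rw [W2.Rel, ← h3]; group

/-- `sP` and `sE` are compatible: `i0 (sP s) = eps (sE a) · i0 (sP t) · eps (sE a)⁻¹` if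
`i0 s = eps a · i0 t · eps a⁻¹` (decide for `a ∈ gE`). -/
theorem AcE.sigma {g : G} {a : EG} (h : AcE J g a) (hσ : ∀ t, TL.In 640 t → W2.Rel J σ t (sP t)) :
    AcE J (σ * g * σ⁻¹) (sE a) := fun t ht => by
  obtain ⟨h1, h2⟩ := ex_sP t ht
  obtain ⟨s, h3, h4⟩ := h _ h1
  obtain ⟨h5, h6⟩ := ex_in h1 h4
  have h7 := hσ _ h1
  rw [h2] at h6 h7
  exact ⟨sP s, ((hσ s h5).comp h3).comp h7.symm, h6⟩

/-- the label homomorphism -/
theorem ex_lab (hJ : Injective J) : ∃ φ : LL J →* EG, (∀ g, AcE J g.1 (φ g) ∧ φ g ∈ EZ) ∧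
    ∀ g a, AcE J g.1 a → a ∈ EZ → φ g = a := by
  have h1 : ∀ g : LL J, ∃ a, AcE J g.1 a ∧ a ∈ EZ := fun ⟨g, a, ha⟩ => by
    obtain ⟨i, k2⟩ := ex_nz a
    exact ⟨_, ha.ex_adj (exz_mem i), k2⟩
  choose f hf using h1
  have h2 : ∀ g a, AcE J g.1 a → a ∈ EZ → f g = a := fun g a k1 k2 => by
    obtain ⟨t, k3, k4⟩ := k1.uniq hJ (hf g).1
    exact k4.trans ((ex_Z t k3).2.2 a k2 (k4 ▸ (hf g).2))
  exact ⟨MonoidHom.mk' f fun x y => h2 _ _ ((hf x).1.mul (hf y).1) (mul_mem (hf x).2 (hf y).2), hf, h2⟩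

theorem ex_card {X Y : Type*} [Group X] [Group Y] (ψ : X →* Y) :
    Nat.card X = Nat.card ψ.ker * Nat.card ψ.range := by
  rw [← index_ker, card_mul_index]

/-- a 2-subgroup `P` of `L` acts on `AF` through `EG / ⟨z, x25⟩` (order 64) with kernel
`P ⊓ C(AF) ≤ ⟨z, x25⟩` (`cAF`, `cent2`) -/
theorem Hy.card_le (h : Hy J π) {P : Subgroup G} (h2 : IsPGroup 2 P) (hP : P ≤ LL J) :
    Nat.card P ≤ 256 := by
  obtain ⟨φ, h1, -⟩ := ex_lab h.inj
  have k1 : Nat.card (φ.comp (inclusion hP)).range ≤ 64 := card_EZ0 ▸ card_le_of_le (by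
    rintro _ ⟨g, rfl⟩; exact (h1 _).2)
  have k2 : (φ.comp (inclusion hP)).ker.map P.subtype ≤ exZ.map J := by
    rintro _ ⟨g, hg, rfl⟩
    have k3 : AcE J g.1 1 := (show φ (inclusion hP g) = 1 from hg) ▸ (h1 (inclusion hP g)).1
    obtain ⟨a, k4, k5⟩ := h.cent2 (g := g.1) (fun t ht => (k3.ex_rel ((ex_sub t).1 ht)).comm)
      (isPGroup_iff_mem.1 h2 _ g.2)
    refine ⟨a, ex_cA a k4 fun i => h.inj ?_, k5⟩
    have k6 := (k3.ex_rel (exA_mem i)).symm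
    rw [← k5, ← map_inv] at k6
    rw [map_mul, map_mul, map_inv J a⁻¹]
    exact Eq.symm k6
  have k3 := card_le_of_le k2
  rw [card_map_of_injective P.subtype_injective, card_map_of_injective h.inj, card_exZ] at k3
  rw [ex_card (φ.comp (inclusion hP))]
  exact Nat.mul_le_mul k3 k1

theorem BS.ex_surj (h : Hy J π) (hb : BS J π β ρ ε) (a : EG) : ∃ g, AcE J g a := by
  obtain ⟨σ, -, -, hσ⟩ := h.exists_sigma
  refine ind_of_genB ex_gen2 (P := fun a => ∃ g, AcE J g a) ⟨1, fun t _ => ⟨t, by simp [W2.Rel], by simp⟩⟩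
    (fun a ⟨g, hg⟩ c hc => ?_) a
  suffices ∃ x, AcE J x c from this.elim fun x hx => ⟨_, hg.mul hx⟩
  rcases List.mem_cons.1 hc with rfl | hc
  · exact ⟨_, hb.acE_u.sigma fun t ht => hσ t ((ex_sub t).2.2 ht)⟩
  rcases List.mem_cons.1 hc with rfl | hc
  · exact ⟨_, hb.acE_u⟩
  obtain ⟨i, rfl⟩ := List.mem_ofFn.1 hc
  exact ⟨_, acE_F _ ((by decide +kernel : ∀ i, TL.In 960 (exf i)) i)⟩

/-- `E₁ = J F · ⟨u⟩` is a 2-group of order 128 (`u` centralizes `F`; `u ∉ J F` by `uniq`). Let `E ⊇ E₁`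
be Sylow in `L`. The elements acting as some `a ∈ E₁` form a subgroup `L₁` of index 2 (`σ u σ⁻¹`
acts as `eb 0`, `sigma`, `exists_sigma`), so `E ≰ L₁` and `|E| ≥ 256`. -/
theorem BS.exists_EH (h : Hy J π) (hb : BS J π β ρ ε) : ∃ E, EH J β E := by
  have h1 : zpowers (β (ub 0)) ≤ normalizer (TL.A.map J : Set G) := by
    refine zpowers_le.2 (mem_normalizer_of_forall ?_)
    rintro _ ⟨t, ht, rfl⟩
    obtain ⟨s, k1, k2⟩ := hb.acE_u t ((ex_sub t).2.1 ht)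
    rw [← ex_F t ht, ← map_mul, mul_comm, map_mul, mul_inv_cancel_right, ex_F t ht] at k2
    obtain rfl := i0_inj k2
    exact ⟨s, ht, Eq.symm k1⟩
  have h2 : IsPGroup 2 (zpowers (β (ub 0))) := isPGroup_zpowers_of_pow (k := 1) (by
    rw [pow_one, sq, ← map_mul, BG.sq, map_one])
  have h3 := ((TL.two.to_subgroup TL.A).map J).to_sup_of_normal_left' h2 h1
  have h4 : TL.A.map J ⊔ zpowers (β (ub 0)) ≤ LL J := sup_le (by
    rintro _ ⟨t, ht, rfl⟩; exact ⟨_, acE_F t ht⟩) (zpowers_le.2 ⟨_, hb.acE_u⟩)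
  obtain ⟨E, hE, h5⟩ := exists_isSylowIn_ge h3 h4
  have hF : ∀ t, TL.In 960 t → J t ∈ E := fun t ht => h5 (mem_sup_left ⟨t, ht, rfl⟩)
  refine ⟨E, hE.pgroup, hF, h5 (mem_sup_right (mem_zpowers _)), fun g hg => hE.le hg, ?_⟩
  obtain ⟨φ, k1, k2⟩ := ex_lab h.inj
  have k3 := (IsSylowIn.map' (IsSylowIn.of_sylow_top hE.toSylow) φ).eq_of_le
    ((IsPGroup.of_card (n := 8) card_eq).to_subgroup _) (map_le_range _ _) le_rfl
  have k4 : EZ ≤ (φ.comp (inclusion hE.le)).range := fun a ha => by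
    obtain ⟨g, hg⟩ := hb.ex_surj h a
    obtain ⟨x, hx, e⟩ := k3.le ⟨⟨g, a, hg⟩, k2 _ a hg ha⟩
    exact ⟨⟨x.1, hx⟩, e⟩
  have k5 : exZ.map J ≤ (φ.comp (inclusion hE.le)).ker.map E.subtype := by
    rintro _ ⟨t, ht, rfl⟩
    obtain ⟨m1, m2, -⟩ := ex_Z t ht
    exact ⟨⟨J t, hF t m1⟩, k2 _ 1 (fun r hr => ⟨r, (W2.Rel.conj J t r).of_eq rfl (m2 r hr), by simp⟩)
      (one_mem _), rfl⟩
  have k6 := card_le_of_le k5
  have k7 := card_le_of_le k4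
  rw [card_map_of_injective E.subtype_injective, card_map_of_injective h.inj, card_exZ] at k6
  rw [card_EZ0] at k7
  rw [ex_card (φ.comp (inclusion hE.le))]
  exact Nat.mul_le_mul k6 k7

end CfsgLib.Har
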