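import Cfsg.Agent.Lib.Har.Ex0

/-!
Project HAR (S1918, plans/HAR.md). The group `E` is elementary abelian (package EX1).
-/

set_option autoImplicit false
set_option Elab.async false
set_option linter.unusedSectionVars false
set_option synthInstance.maxSize 100000
set_option maxRecDepth 100000

namespace CfsgLib.Har

open Subgroup Equiv Function CfsgLib.W2 CfsgLib.W2.TG CfsgLib.Tech CfsgLib.PComp Cfsg CfsgLib.A16
  CfsgLib.SylT

variable {G : Type*} [Group G] [Finite G] {J : TL →* G} {π : G → P16}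
variable {β : BG →* G} {ρ σ : G} {ε : Bool} {e : EG →* G}

theorem ex1_one : AcE J 1 1 := fun t _ => ⟨t, by simp [W2.Rel], by simp⟩

theorem AcE.ex1_pow {g : G} {a : EG} (h : AcE J g a) : ∀ n, AcE J (g ^ n) (a ^ n)
  | 0 => by simpa using ex1_one
  | n + 1 => by rw [pow_succ, pow_succ]; exact (h.ex1_pow n).mul h

theorem ex1_odd (a : EG) {n : ℕ} (hn : Odd n) : a ^ n = a := by
  obtain ⟨k, rfl⟩ := hn
  rw [pow_succ, pow_mul, sq, EG.sq, one_pow, one_mul]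

theorem AcE.ex1_inv {g : G} {a : EG} (h : AcE J g a) : AcE J g⁻¹ a := by
  obtain ⟨k, hk⟩ : ∃ k, orderOf g = k + 1 := Nat.exists_eq_succ_of_ne_zero (orderOf_pos g).ne'
  have h1 := h.ex1_pow (2 * k + 1)
  rw [ex1_odd a ⟨k, rfl⟩] at h1
  have h2 : g⁻¹ = g ^ (2 * k + 1) := by
    refine inv_eq_of_mul_eq_one_right ?_
    rw [← pow_succ', show 2 * k + 1 + 1 = (k + 1) * 2 by ring, pow_mul, ← hk, pow_orderOf_eq_one, one_pow]
  rwa [h2]

theorem AcE.ex1_comm {g : G} (h : AcE J g 1) {t : TL} (ht : TL.In 640 t) : g * J t = J t * g := by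
  obtain ⟨s, r, e⟩ := h t ht
  rw [map_one, one_mul, inv_one, mul_one] at e
  exact (r.of_eq rfl (i0_inj e)).comm

theorem AcE.ex1_F {g : G} {a : EG} (h : AcE J g a) {t : TL} (ht : TL.In 960 t) : g * J t = J t * g := by
  obtain ⟨h1, h2⟩ := (by decide +kernel : ∀ t, TL.In 960 t → TL.In 640 t ∧ eps (ge (i0 t)) = i0 t) t ht
  obtain ⟨s, r, e⟩ := h t h1
  rw [← h2, ← map_mul, mul_comm, map_mul, mul_inv_cancel_right, h2] at e
  exact (r.of_eq rfl (i0_inj e)).comm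

abbrev Z4 (t : TL) : Prop := t = 1 ∨ t = TL.z ∨ t = TL.x25 ∨ t = TL.z * TL.x25

theorem ex1_Z4 : ∀ t, Z4 t → TL.In 960 t ∧ TL.In 640 t ∧ TL.In 698 (t * sP t) ∧ t * t = 1 ∧
    t * sP t * (t * sP t) = 1 ∧ (t * sP t = 1 → t = 1) ∧ ∀ s, TL.In 640 s → t * s = s * t := by
  rintro _ (rfl | rfl | rfl | rfl) <;> decide +kernel

variable {E : Subgroup G}

theorem EH.ex1_syl (h : Hy J π) (hE : EH J β E) : IsSylowIn 2 E (LL J) := by
  obtain ⟨S, hS⟩ := exists_isSylowIn 2 (LL J)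
  exact hS.of_card_le hE.two hE.act ((h.card_le hS.pgroup hS.le).trans hE.card)

theorem EH.ex1_LE (h : Hy J π) (hE : EH J β E) {g : G} {a : EG} (hg : AcE J g a) :
    ∃ e ∈ E, AcE J e a := by
  obtain ⟨k, m, hm, e⟩ := Nat.exists_eq_two_pow_mul_odd (orderOf_pos g).ne'
  have h1 := hg.ex1_pow m
  rw [ex1_odd a hm] at h1
  have h2 : IsPGroup 2 (zpowers (g ^ m)) := isPGroup_zpowers_iff.2 ⟨k, by
    rw [orderOf_pow' _ hm.pos.ne', e, Nat.gcd_eq_right (Dvd.intro_left _ rfl), Nat.mul_div_cancel _ hm.pos]⟩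
  obtain ⟨l, ⟨b, hb⟩, hl⟩ := (hE.ex1_syl h).exists_cj_le h2 (zpowers_le.2 ⟨a, h1⟩)
  refine ⟨_, cj_le_iff.1 hl _ (mem_zpowers _), ?_⟩
  have := (hb.mul h1).mul hb.ex1_inv
  rwa [mul_right_comm, EG.sq, one_mul] at this

theorem EH.ex1_Z (h : Hy J π) (hE : EH J β E) {g : G} (hg : g ∈ E) (h1 : AcE J g 1) :
    ∃ f, Z4 f ∧ J f = g := by
  obtain ⟨k, hk⟩ := hE.two ⟨g, hg⟩
  obtain ⟨f, hf, rfl⟩ := h.cent2 (fun t ht => h1.ex1_comm
    ((by decide +kernel : ∀ t, TL.In 698 t → TL.In 640 t) t ht)) ⟨k, congrArg Subtype.val hk⟩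
  have k : ∀ s, TL.In 640 s → f * s = s * f := fun s hs => h.inj (by
    rw [map_mul, map_mul, h1.ex1_comm hs])
  exact ⟨f, (by decide +kernel : ∀ f, TL.In 698 f → f * TL.x13 = TL.x13 * f → f * TL.x23 = TL.x23 * f →
    f * TL.x14 = TL.x14 * f → f * TL.x24 = TL.x24 * f → Z4 f) f hf (k _ (by decide +kernel))
    (k _ (by decide +kernel)) (k _ (by decide +kernel)) (k _ (by decide +kernel)), rfl⟩

theorem EH.ex1_sigma (h : Hy J π) (hE : EH J β E) : ∃ σ ∈ NA J, π σ = s16 ∧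
    (∀ t, TL.In 640 t → W2.Rel J σ t (sP t)) ∧ ∀ y ∈ E, σ * y * σ⁻¹ ∈ E := by
  obtain ⟨σ, hN, hp, hr⟩ := h.exists_sigma
  have d : ∀ t, TL.In 640 t → TL.In 128 t ∧ TL.In 640 (sP t) := by decide +kernel
  have hr' : ∀ t, TL.In 640 t → W2.Rel J σ t (sP t) := fun t ht => hr t (d t ht).1
  obtain ⟨l, ⟨b, hb⟩, hl⟩ := (hE.ex1_syl h).exists_cj_le (isPGroup_cj σ hE.two)
    (cj_le_iff.2 fun x hx => by
      obtain ⟨a, ha⟩ := hE.act x hx
      exact ⟨_, ha.sigma hr'⟩)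
  obtain ⟨e, he, hb'⟩ := hE.ex1_LE h hb
  have hk := hb'.ex1_inv.mul hb
  rw [EG.sq] at hk
  obtain ⟨kN, t, ht, kp⟩ := h.cAF hk
  obtain ⟨t1, t2, -, -, -, -, t3⟩ := ex1_Z4 t ht
  have cN : e⁻¹ * l * (J t)⁻¹ ∈ NA J := mul_mem kN (inv_mem (h.memN t))
  refine ⟨e⁻¹ * l * (J t)⁻¹ * σ, mul_mem cN hN, by rw [h.mul cN hN, kp, one_mul, hp], fun s hs => ?_,
    fun y hy => ?_⟩
  · refine W2.Rel.comp (W2.Rel.comp (W2.Rel.of_comm (hk.ex1_comm (d s hs).2)) ?_) (hr' s hs)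
    refine W2.Rel.symm (W2.Rel.of_comm ?_)
    rw [← map_mul, ← map_mul, t3 _ (d s hs).2]
  · have e1 : e⁻¹ * l * (J t)⁻¹ = (J t)⁻¹ * (e⁻¹ * l) := by
      rw [mul_inv_eq_iff_eq_mul, mul_assoc (J t)⁻¹, hk.ex1_comm t2, inv_mul_cancel_left]
    have e2 := cj_le_iff.1 hl _ (conj_mem_cj.2 hy)
    have e3 := mul_mem (mul_mem (mul_mem (inv_mem (hE.F t t1)) (inv_mem he)) e2) (mul_mem he (hE.F t t1))
    rw [e1]
    convert e3 using 1
    group

/-- the `F`-part -/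
noncomputable def ex1_t (a : EG) : TL := o (tab1 6 63 0x41041555555596596082082965965c71c71cb2cb29a69a6b2cb2ce38e38efbefbbefbef20820871c71c7df7df2cb2cbd75d758618618a28a2db6db645145114514518618649249261861830c30c3cf3cf6db6dbf3cf3ca28a28aebaebfffffffbefbeaaaaaaa69a69f7df7d69a69a38e38e34d34d6596594d34d31c71c7104104410410df7df78e38e3820820d34d3428a28a79e79e75d75d249249baebaeebaebae79e79b6db6d9e79e7cf3cf3c30c309249240c30c35d75d7514514000000 a.v)
noncomputable def ex1_i (a : EG) : Bool := bit 0x33cc33cccc33cc3333cc33cccc33cc33cc33cc3333cc33cccc33cc3333cc33cc a.v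

theorem ex1_dec : (∀ a, TL.In 960 (ex1_t a) ∧
      ge (i0 (ex1_t a)) * (if ex1_i a then ue 0 else 1) * (if par a then eb 0 else 1) = a) ∧
    (∀ g ∈ gE, ∀ a, ex1_t (a * g) = ex1_t a * ex1_t g ∧ ex1_i (a * g) = xor (ex1_i a) (ex1_i g) ∧
      par (a * g) = xor (par a) (par g)) ∧
    (∀ t, TL.In 960 t → ex1_t (ge (i0 t)) = t ∧ ex1_i (ge (i0 t)) = false ∧ par (ge (i0 t)) = false ∧
      TL.In 640 t ∧ TL.In 960 (sP t) ∧ ge (i0 (sP t)) = sE (ge (i0 t))) ∧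
    ex1_t 1 = 1 ∧ ex1_i 1 = false ∧ par 1 = false ∧ ex1_t (ue 0) = 1 ∧ ex1_i (ue 0) = true ∧
    par (ue 0) = false ∧ ex1_t (eb 0) = 1 ∧ ex1_i (eb 0) = false ∧ par (eb 0) = true ∧
    sE (ue 0) = eb 0 ∧ sE (eb 0) = eb 0 * ue 0 ∧ s16 * s16 * s16 = 1 ∧ ge (i0 1) = 1 := by
  decide +kernel

omit [Finite G] in
theorem ex1_ite {u : G} (hu : u * u = 1) (i j : Bool) :
    (if xor i j then u else 1) = (if i then u else 1) * (if j then u else 1) := by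
  cases i <;> cases j <;> simp [hu]

omit [Finite G] in
theorem ex1_hom {u x : G} (hu : u * u = 1) (hx : x * x = 1) (hux : Commute u x)
    (h1 : ∀ t, TL.In 960 t → Commute u (J t)) (h2 : ∀ t, TL.In 960 t → Commute x (J t)) :
    ∃ e : EG →* G, (∀ t, TL.In 960 t → e (ge (i0 t)) = J t) ∧ e (ue 0) = u ∧ e (eb 0) = x := by
  obtain ⟨d1, d2, d3, a1, a2, a3, b1, b2, b3, c1, c2, c3, -⟩ := ex1_dec
  refine ⟨homOf gE_gen (fun a => J (ex1_t a) * (if ex1_i a then u else 1) * (if par a then x else 1))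
    (by simp [a1, a2, a3]) (fun g hg a => ?_), fun t ht => ?_, ?_, ?_⟩
  · obtain ⟨e1, e2, e3⟩ := d2 g hg a
    have k1 : Commute (if ex1_i a then u else 1) (J (ex1_t g)) := by
      split_ifs; exacts [h1 _ (d1 g).1, Commute.one_left _]
    have k2 : Commute (if par a then x else 1) (J (ex1_t g)) := by
      split_ifs; exacts [h2 _ (d1 g).1, Commute.one_left _]
    have k3 : Commute (if par a then x else 1) (if ex1_i g then u else 1) := by
      split_ifs; exacts [hux.symm, Commute.one_right _, Commute.one_left _, Commute.one_left _]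
    simp only [e1, e2, e3, map_mul, ex1_ite hu, ex1_ite hx, mul_assoc]
    rw [k2.left_comm, k1.left_comm, k3.left_comm]
  · obtain ⟨e1, e2, e3, -⟩ := d3 t ht
    change J _ * _ * _ = _
    simp [e1, e2, e3]
  · change J _ * _ * _ = _
    simp [b1, b2, b3]
  · change J _ * _ * _ = _
    simp [c1, c2, c3]

theorem ex1_ind {P : EG → Prop} (h1 : ∀ t, TL.In 960 t → P (ge (i0 t))) (h2 : P (ue 0)) (h3 : P (eb 0))
    (hm : ∀ a b, P a → P b → P (a * b)) (a : EG) : P a := by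
  have h0 : P 1 := ex1_dec.2.2.2.2.2.2.2.2.2.2.2.2.2.2.2 ▸ h1 1 (by decide +kernel)
  rw [← (ex1_dec.1 a).2]
  refine hm _ _ (hm _ _ (h1 _ (ex1_dec.1 a).1) ?_) ?_ <;> split_ifs <;> assumption

/-- `E` is Sylow in `L` (`card_le`), `|E| = 256`; `L = E O'`, `O' = C(AF) ⊓ ker π` normal in `L` (`cAF`:
`g ∈ L` acts as some element of `E`). `σ₀` from `exists_sigma` normalizes `L` (`sigma`); replace it by
`σ = c σ₀`, `c ∈ O'`, normalizing `E`. Elements of `E` centralize `F`. `x = σ u σ⁻¹ ∈ E` acts as `eb 0`,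
`x' = σ x σ⁻¹ ∈ E` is an involution acting as `eb 1 = eb 0 · ue 0`, so `x' = x u f` with
`f ∈ ⟨z, x25⟩` (`uniq`, `cent2`); `x'² = 1` gives `x u = u x`. So `E = F ⟨u, x⟩` is elementary; define
`e` (`EG = ge (i0 F) × ⟨ue 0, eb 0⟩`). `σ³ ∈ ker π` has odd order, acts trivially on `F` and on `E`
modulo `⟨z, x25⟩`, so trivially on `E` (`odd_fix`); `σ³ u σ⁻³ = u f σ(f)`, hence `f σ(f) = 1`,
`f = 1`. So `σ` acts as `sE` on `F` (decide `ge (i0 (sP t)) = sE (ge (i0 t))`), `u`, `x`. -/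
theorem EH.e0 (h : Hy J π) (hb : BS J π β ρ ε) {E : Subgroup G} (hE : EH J β E) :
    ∃ σ e, E0 J π β σ e ∧ e.range = E := by
  obtain ⟨σ, hN, hp, hr, hn⟩ := hE.ex1_sigma h
  obtain ⟨-, -, d3, -, -, -, -, -, -, -, -, -, s1, s2, s3, -⟩ := ex1_dec
  obtain ⟨u, hu⟩ : ∃ u, u = β (ub 0) := ⟨_, rfl⟩
  have uE : u ∈ E := hu ▸ hE.u
  have au : AcE J u (ue 0) := hu ▸ hb.acE_u
  have uu : u * u = 1 := by rw [hu, ← map_mul, BG.sq, map_one]
  obtain ⟨x, hx⟩ : ∃ x, σ * u * σ⁻¹ = x := ⟨_, rfl⟩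
  have xE : x ∈ E := hx ▸ hn u uE
  have ax : AcE J x (eb 0) := s1 ▸ hx ▸ au.sigma hr
  have xx : x * x = 1 := by rw [← hx, conj_mul, uu, mul_one, mul_inv_cancel]
  have aw := (ax.mul au).ex1_inv.mul (s2 ▸ ax.sigma hr)
  rw [EG.sq] at aw
  obtain ⟨f, hf, ef⟩ := hE.ex1_Z h (mul_mem (inv_mem (mul_mem xE uE)) (hn x xE)) aw
  obtain ⟨f1, f2, f3, f4, f5, f6, -⟩ := ex1_Z4 f hf
  have e1 : σ * x * σ⁻¹ = x * u * J f := by rw [ef, mul_inv_cancel_left]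
  have cf : Commute (x * u) (J f) := (ax.mul au).ex1_F f1
  have ux : Commute u x := by
    have k : x * u * J f * (x * u * J f) = 1 := by rw [← e1, conj_mul, xx, mul_one, mul_inv_cancel]
    rw [cf.symm.mul_mul_mul_comm, ← map_mul, f4, map_one, mul_one] at k
    have k2 : x * (u * x) = x * (x * u) := by
      rw [← mul_assoc x x, xx, one_mul, ← mul_assoc, ← mul_right_cancel_iff (a := u), mul_assoc (x * u), k, uu]
    exact mul_left_cancel k2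
  have n3 : σ * σ * σ ∈ NA J := mul_mem (mul_mem hN hN) hN
  have p3 : π (σ * σ * σ) = 1 := by rw [h.mul (mul_mem hN hN) hN, h.mul hN hN, hp, s3]
  have e3 : σ * σ * σ * u * (σ * σ * σ)⁻¹ = J (f * sP f) * u := by
    have k : σ * σ * σ * u * (σ * σ * σ)⁻¹ = σ * (σ * (σ * u * σ⁻¹) * σ⁻¹) * σ⁻¹ := by group
    have k1 : Commute x (J f) := ax.ex1_F f1
    have k2 : Commute u (J f) := au.ex1_F f1
    have k3 : Commute u (J (sP f)) := au.ex1_F (d3 f f1).2.2.2.2.1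
    rw [k, hx, e1, ← conj_mul, ← conj_mul, e1, hx, hr f f2, map_mul, mul_assoc (x * u), ← k1.eq, ← ux.eq,
      mul_assoc u, ← mul_assoc x, xx, one_mul, k2.eq, mul_assoc, k3.eq, mul_assoc]
  have e4 := odd_fix (h.ker n3 p3) e3 (h.O_centA n3 p3 f3) (by rw [← map_mul, f5, map_one])
  rw [e4, mul_inv_cancel_right, eq_comm, mul_eq_right, map_eq_one_iff _ h.inj] at e3
  rw [f6 e3, map_one, mul_one] at e1
  obtain ⟨e, eF, eu, ex⟩ := ex1_hom uu xx ux (fun t ht => au.ex1_F ht) (fun t ht => ax.ex1_F ht)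
  have act : ∀ a, AcE J (e a) a := ex1_ind (fun t ht => eF t ht ▸ acE_F t ht) (eu ▸ au) (ex ▸ ax)
    fun a b ha hb => map_mul e a b ▸ ha.mul hb
  have inj : Injective e := (injective_iff_map_eq_one e).2 fun a ha => by
    obtain ⟨t, ht, et⟩ := AcE.uniq h.inj ex1_one (ha ▸ act a)
    rw [et, one_mul, eF t (ex1_Z4 t ht).1, map_eq_one_iff _ h.inj] at ha
    rw [et, ha, one_mul]; exact ex1_dec.2.2.2.2.2.2.2.2.2.2.2.2.2.2.2
  refine ⟨σ, e, ⟨inj, eF, eu.trans hu, hN, hp, hr, ex1_ind (fun t ht => ?_) ?_ ?_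
    (fun a b ha hb => map_mul sE a b ▸ ha.mul hb), act⟩, ?_⟩
  · obtain ⟨-, -, -, t1, t2, t3⟩ := d3 t ht
    rw [W2.Rel, ← t3, eF t ht, eF _ t2]; exact hr t t1
  · rw [W2.Rel, s1, eu, ex, hx]
  · rw [W2.Rel, s2, map_mul, eu, ex, e1]
  · refine eq_of_le_of_card_ge ?_ ?_
    · rintro _ ⟨a, rfl⟩
      exact ex1_ind (P := fun a => e a ∈ E) (fun t ht => eF t ht ▸ hE.F t ht) (eu ▸ uE) (ex ▸ xE)
        (fun a b ha hb => map_mul e a b ▸ mul_mem ha hb) a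
    · rw [← Nat.card_congr (MonoidHom.ofInjective inj).toEquiv, card_eq]
      exact h.card_le hE.two hE.act

end CfsgLib.Har
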