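import Cfsg.Agent.Lib.Har.Ex0
import Cfsg.Agent.Lib.Har.Sh

/-!
Project HAR (S1918, plans/HAR.md). A choice of `E` normalized by `T₀ B` (package EX2).
-/

set_option autoImplicit false
set_option Elab.async false
set_option linter.unusedSectionVars false
set_option synthInstance.maxSize 100000
set_option maxRecDepth 100000

namespace CfsgLib.Har

open Subgroup Equiv Function CfsgLib.W2 CfsgLib.W2.TG CfsgLib.Tech CfsgLib.PComp Cfsg CfsgLib.A16
  CfsgLib.SylT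

variable {G : Type*} [Group G] [Finite G] {J : TL →* G} {π : G → P16}
variable {β : BG →* G} {ρ σ : G} {ε : Bool} {e : EG →* G}

namespace Ex2

/-- the even vectors -/
noncomputable def E1 : Subgroup EG := sub (fun a => par a = false) ⟨by decide +kernel, fun a ha b hb => by
  rw [inv_eq_of_mul_eq_one_right (EG.sq b), par_mul, ha, hb]; rfl⟩

theorem card_E1 : Nat.card E1 = 128 := (card_sub _ _).trans (by decide +kernel)

theorem dec : ∀ a, par a = false → ∃ f, TL.InA f ∧ (a = ge (i0 f) ∨ a = ge (i0 f) * ue 0) := by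
  decide +kernel

theorem fF : ∀ f, TL.InA f → eps (ge (i0 f)) = i0 f ∧ par (ge (i0 f)) = false := by decide +kernel

theorem inF : ∀ t, pr (i0 t) = 1 → TL.InA t := by decide +kernel

theorem be : ∀ c, pr (bet c) = 1 → par (ge (bet c)) = false ∧ ∃ s, TL.InA s ∧ TL.In 884 s ∧
    ((c = gb (i0 s) ∧ ge (bet c) = ge (i0 s)) ∨ (c = gb (i0 s) * ub 0 ∧ ge (bet c) = ge (i0 s) * ue 0)) := by
  decide +kernel

theorem thU : ∀ ε, ∀ t, pr (bet (th ε t (ub 0))) = 1 := by decide +kernel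

theorem thF : ∀ ε, ∀ f, TL.InA f → ∀ b ∈ gB, pr (bet (b * th ε f b)) = 1 := by decide +kernel

theorem thV : ∀ ε, ∀ v ∈ [TL.x35, TL.x45], ge (bet (th ε v (ub 0))) = cE (i0 v) (ue 0) := by
  decide +kernel

theorem decA : ∀ t, TL.In 640 t → TL.InA t ∨ TL.InA (t * TL.x35⁻¹) ∨ TL.InA (t * TL.x45⁻¹) ∨
    TL.InA (t * TL.x45⁻¹ * TL.x35⁻¹) := by decide +kernel

theorem vw : TL.x35 * TL.x35 = 1 ∧ TL.x45 * TL.x45 = 1 ∧ TL.x35 * TL.x45 = TL.x45 * TL.x35 ∧
    TL.In 640 TL.x35 ∧ TL.In 640 TL.x45 ∧ par (ue 0) = false ∧ par (eb 0) = true := by decide +kernel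

theorem eB (hb : BS J π β ρ ε) (h0 : E0 J π β σ e) {c : BG} (hc : pr (bet c) = 1) :
    β c = e (ge (bet c)) := by
  obtain ⟨-, s, h1, h2, ⟨h3, h4⟩ | ⟨h3, h4⟩⟩ := be c hc
  · rw [h4, h0.eF s h1, h3, hb.a s h2]
  · rw [h4, map_mul, h0.eF s h1, h0.eu, h3, map_mul, hb.a s h2]

theorem relF (h0 : E0 J π β σ e) (t : TL) {f : TL} (hf : TL.InA f) :
    W2.Rel e (J t) (ge (i0 f)) (cE (i0 t) (ge (i0 f))) := by
  have h1 : eps (cE (i0 t) (ge (i0 f))) = i0 (t * f * t⁻¹) := by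
    rw [eps_cE, (fF f hf).1, map_mul, map_mul, map_inv]
  have h2 := inF _ (h1 ▸ pr_eps _)
  change J t * e _ * (J t)⁻¹ = e _
  rw [← ge_eps (cE _ _), h1, h0.eF _ h2, h0.eF _ hf, map_mul, map_mul, map_inv]

theorem relU (hb : BS J π β ρ ε) (h0 : E0 J π β σ e) (t : TL) :
    W2.Rel e (J t) (ue 0) (ge (bet (th ε t (ub 0)))) := by
  change J t * e _ * (J t)⁻¹ = e _
  rw [h0.eu, ← eB hb h0 (thU ε t)]
  exact hb.act t _

theorem relV (hb : BS J π β ρ ε) (h0 : E0 J π β σ e) {v : TL} (hv : v ∈ [TL.x35, TL.x45]) {a : EG}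
    (ha : par a = false) : J v * e a = e (cE (i0 v) a) * J v := by
  refine mul_inv_eq_iff_eq_mul.1 ?_
  obtain ⟨f, hf, rfl | rfl⟩ := dec a ha
  · exact relF h0 v hf
  · rw [map_mul (cE _), ← thV ε v hv]
    exact (relF h0 v hf).mul (relU hb h0 v)

theorem nT (hb : BS J π β ρ ε) (h0 : E0 J π β σ e) (t : TL) : J t ∈ normalizer (E1.map e : Set G) := by
  refine mem_normalizer_of_forall ?_
  rintro _ ⟨a, ha, rfl⟩
  obtain ⟨f, hf, rfl | rfl⟩ := dec a ha
  · exact ⟨_, (show par _ = false by rw [cE_eq, par_ph, (fF f hf).2]), Eq.symm (relF h0 t hf)⟩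
  · exact ⟨_, (show par _ = false by rw [par_mul, cE_eq, par_ph, (fF f hf).2, (be _ (thU ε t)).1]; rfl),
      Eq.symm ((relF h0 t hf).mul (relU hb h0 t))⟩

theorem nB (hb : BS J π β ρ ε) (h0 : E0 J π β σ e) (b : BG) : β b ∈ normalizer (E1.map e : Set G) := by
  refine (eq_top_of_genB gB_gen (S := (normalizer (E1.map e : Set G)).comap β) fun b hb' => ?_).ge (mem_top b)
  refine mem_normalizer_of_forall ?_
  have k : ∀ f, TL.InA f → β b * e (ge (i0 f)) * (β b)⁻¹ ∈ E1.map e := fun f hf => by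
    have h1 : J f * β b * (J f)⁻¹ = β _ := hb.act f b
    have : β b * e (ge (i0 f)) * (β b)⁻¹ = e (ge (bet (b * th ε f b)) * ge (i0 f)) := by
      rw [map_mul e, ← eB hb h0 (thF ε f hf b hb'), h0.eF f hf, map_mul β, ← h1, ← map_inv,
        inv_eq_of_mul_eq_one_right (BG.sq b)]
      group
    rw [this]
    exact ⟨_, (show par _ = false by rw [par_mul, (fF f hf).2, (be _ (thF ε f hf b hb')).1]; rfl), rfl⟩
  rintro _ ⟨a, ha, rfl⟩
  obtain ⟨f, hf, rfl | rfl⟩ := dec a ha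
  · exact k f hf
  · have : β b * e (ge (i0 f) * ue 0) * (β b)⁻¹ = β b * e (ge (i0 f)) * (β b)⁻¹ * e (ue 0) := by
      rw [map_mul, h0.eu, ← map_inv, mul_assoc, mul_assoc, mul_assoc, mul_assoc, ← map_mul, ← map_mul, mul_comm (ub 0)]
    rw [this]
    exact mul_mem (k f hf) ⟨_, vw.2.2.2.2.2.1, rfl⟩

/-- an element centralizing `F` with `[r, x35], [r, x45] ∈ E₁` acts as an element of `E` -/
theorem memL (hb : BS J π β ρ ε) (h0 : E0 J π β σ e) {r : G}
    (hc : ∀ f, TL.InA f → r * J f = J f * r) (hr : ∀ t, r * J t * r⁻¹ * (J t)⁻¹ ∈ E1.map e) : r ∈ LL J := by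
  obtain ⟨v1, v2, v3, v4, v5, -⟩ := vw
  obtain ⟨c1, p1, e1⟩ := hr TL.x35
  obtain ⟨c2, p2, e2⟩ := hr TL.x45
  have e1 : r * J TL.x35 * r⁻¹ = e c1 * J TL.x35 := by rw [e1]; group
  have e2 : r * J TL.x45 * r⁻¹ = e c2 * J TL.x45 := by rw [e2]; group
  have r1 := fun a ha => relV hb h0 (v := TL.x35) (a := a) (by simp) ha
  have r2 := fun a ha => relV hb h0 (v := TL.x45) (a := a) (by simp) ha
  have k : ∀ {v w : TL} {c d d' : EG}, r * J v * r⁻¹ = e c * J v → r * J w * r⁻¹ = e d * J w →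
      J v * e d = e d' * J v → e (c * d') = r * J (v * w) * r⁻¹ * (J (v * w))⁻¹ := by
    intro v w c d d' a1 a2 a3
    rw [map_mul, map_mul]
    calc e c * e d' = e c * (e d' * J v) * J w * (J v * J w)⁻¹ := by group
      _ = (e c * J v) * (e d * J w) * (J v * J w)⁻¹ := by rw [← a3]; group
      _ = _ := by rw [← a1, ← a2]; group
  obtain ⟨a, a1, a2⟩ := shF c1 c2 (h0.inj (by rw [k e1 e1 (r1 _ p1), v1]; simp))
    (h0.inj (by rw [k e2 e2 (r2 _ p2), v2]; simp))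
    (h0.inj (by rw [k e1 e2 (r1 _ p2), k e2 e1 (r2 _ p1), v3]))
  let p : TL → Prop := fun t => ∃ s, W2.Rel J r t s ∧ i0 s = eps a * i0 t * (eps a)⁻¹
  have pm : ∀ t t', p (t * t'⁻¹) → p t' → p t := by
    rintro t t' ⟨s, s1, s2⟩ ⟨s', s1', s2'⟩
    refine ⟨s * s', (s1.mul s1').of_eq (by group) rfl, ?_⟩
    rw [map_mul, s2, s2', map_mul, map_inv]; group
  have pF : ∀ f, TL.InA f → p f := fun f hf =>
    ⟨f, W2.Rel.of_comm (hc f hf), by rw [← (fF f hf).1, ← map_mul, mul_comm, map_mul]; group⟩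
  have pV : ∀ v c, TL.In 640 v → r * J v * r⁻¹ = e c * J v → c = a * cE (i0 v) a → p v := by
    intro v c hv b1 b2
    obtain ⟨s, -, hs⟩ := h0.act a v hv
    have h1 : i0 (s * v⁻¹) = eps c := by
      rw [b2, map_mul, map_mul, map_inv, hs, eps_cE, ← map_inv eps, inv_eq_of_mul_eq_one_right (EG.sq a)]
      group
    refine ⟨s, ?_, hs⟩
    change r * J v * r⁻¹ = J s
    rw [b1, ← ge_eps c, ← h1, h0.eF _ (inF _ (h1 ▸ pr_eps _)), ← map_mul]
    congr 1; group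
  have q1 := pV _ _ v4 e1 a1
  have q2 := pV _ _ v5 e2 a2
  refine ⟨a, fun t ht => ?_⟩
  rcases decA t ht with c | c | c | c
  exacts [pF _ c, pm _ _ (pF _ c) q1, pm _ _ (pF _ c) q2, pm _ _ (pm _ _ (pF _ c) q1) q2]

end Ex2

open Ex2 in
/-- `T₂ = T₀ B` is a 2-group normalizing `E₁ = J F ⟨u⟩` (`act`: `th ε t (ub 0) ∈ ub 0 · (A' ⊓ F)`;
`β b · J f · β b⁻¹ = β (b · th ε f b) J f` with `b · th ε f b ∈ ⟨ub i⟩ ≤ E₁`; decide). `range e ≤ C(E₁)`
has order 256, so a Sylow subgroup `R ⊇ E₁` of `C(E₁)` normalized by `T₂` (`syl_inv`) is larger than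
`E₁`. `step` gives `r ∈ R ∖ E₁` with `[r, T₂] ≤ E₁`; `E' = E₁⟨r⟩` is a 2-group normalized by `T₂` of
order `≥ 256`. It remains to see `r ∈ L`: `c₁ = [r, x35]`, `c₂ = [r, x45] ∈ E₁ ≤ range e` is a cocycle
(`J v · e a · J v⁻¹ = e (cE (i0 v) a)` by `act`, `uniq`-type argument: for `a ∈ E₁` it is known
directly), by `shF` it is the coboundary of some `a`, i.e. `r` and `e a` act in the same way on
`x35`, `x45` (use `E0.act`) and trivially on `F`; `AF = F ⟨x35, x45⟩`; so `AcE J r a`. -/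
theorem E0.better (h : Hy J π) (hb : BS J π β ρ ε) (h0 : E0 J π β σ e) : ∃ E, EH J β E ∧
    (∀ t, J t ∈ normalizer (E : Set G)) ∧ ∀ b, β b ∈ normalizer (E : Set G) := by
  have tE : IsPGroup 2 EG := IsPGroup.of_card (n := 8) card_eq
  have tB : IsPGroup 2 BG := IsPGroup.of_card (n := 7) card_eq
  have hV : IsPGroup 2 ↥(β.range ⊔ J.range) :=
    IsPGroup.to_sup_of_normal_left' (tB.to_subgroup ⊤ |>.map β |>.to_le (β.range_eq_map).le) h.syl.pgroup (by
      rintro _ ⟨t, rfl⟩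
      refine mem_normalizer_of_forall ?_
      rintro _ ⟨b, rfl⟩
      exact ⟨_, Eq.symm (hb.act t b)⟩)
  have hP : β.range ⊔ J.range ≤ normalizer (E1.map e : Set G) :=
    sup_le (by rintro _ ⟨b, rfl⟩; exact nB hb h0 b) (by rintro _ ⟨t, rfl⟩; exact nT hb h0 t)
  have hC : e.range ≤ centralizer (E1.map e : Set G) := by
    rintro _ ⟨a, rfl⟩ _ ⟨a', -, rfl⟩
    rw [← map_mul, mul_comm, map_mul]
  obtain ⟨R, hR, PR, VR⟩ := syl_inv (D := centralizer (E1.map e : Set G)) hV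
    (fun g hg => mem_normalizer_iff_cj.2 (by rw [cj_centralizer, mem_normalizer_iff_cj.1 (hP hg)]))
    ((tE.to_subgroup E1).map e) ((map_le_range e E1).trans hC) hP
  obtain ⟨r, rR, rP, -, hr⟩ := step hR.pgroup hV PR VR hP fun hle => by
    have h1 := hR.eq_of_le (tE.to_subgroup ⊤ |>.map e |>.to_le (e.range_eq_map).le)
      (hle.trans (map_le_range e E1)) hC
    obtain ⟨a, ha, h2⟩ := hle (h1.le ⟨eb 0, rfl⟩)
    rw [h0.inj h2] at ha
    exact absurd (vw.2.2.2.2.2.2.symm.trans ha) (by decide)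
  have rE : r ∈ E1.map e ⊔ zpowers r := mem_sup_right (mem_zpowers r)
  have hn : β.range ⊔ J.range ≤ normalizer ((E1.map e ⊔ zpowers r : Subgroup G) : Set G) := fun v hv => by
    refine mem_normalizer_of_cj_le ?_
    rw [cj_sup, mem_normalizer_iff_cj.1 (hP hv), cj_zpowers]
    refine sup_le le_sup_left (zpowers_le_of_mem ?_)
    have := mul_mem (inv_mem (mem_sup_left (T := zpowers r) (hr v hv))) rE
    convert this using 1
    group
  have mF : ∀ f, TL.InA f → J f ∈ E1.map e := fun f hf => ⟨_, (fF f hf).2, h0.eF f hf⟩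
  refine ⟨E1.map e ⊔ zpowers r, ⟨hR.pgroup.to_le (sup_le PR (zpowers_le_of_mem rR)),
    fun t ht => mem_sup_left (mF t ht), mem_sup_left ⟨_, vw.2.2.2.2.2.1, h0.eu⟩, ?_, ?_⟩,
    fun t => hn (mem_sup_right ⟨t, rfl⟩), fun b => hn (mem_sup_left ⟨b, rfl⟩)⟩
  · refine (sup_le ?_ (zpowers_le_of_mem ?_) : _ ≤ LL J)
    · rintro _ ⟨a, -, rfl⟩
      exact ⟨a, h0.act a⟩
    · exact memL hb h0 (fun f hf => (hR.le rR _ (mF f hf)).symm) fun t => hr _ (mem_sup_right ⟨t, rfl⟩)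
  · have h1 : Nat.card (E1.map e) = 128 := by rw [card_map_of_injective h0.inj, card_E1]
    obtain ⟨k, hk⟩ := card_dvd_of_le (le_sup_left : E1.map e ≤ E1.map e ⊔ zpowers r)
    have h2 : k ≠ 1 := fun c => rP ((eq_of_le_of_card_ge le_sup_left (by rw [hk, c, mul_one])).ge rE)
    have h3 : 0 < Nat.card ↥(E1.map e ⊔ zpowers r) := Nat.card_pos
    rw [hk, h1] at *
    omega

end CfsgLib.Har
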