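import Cfsg.Agent.Lib.Har.Ex0

/-!
Project HAR (S1918, plans/HAR.md). The action of `T₀` on `E` (package EX3).
-/

set_option autoImplicit false
set_option Elab.async false
set_option linter.unusedSectionVars false
set_option synthInstance.maxSize 100000
set_option maxRecDepth 100000

namespace CfsgLib.Har

open Subgroup Equiv Function CfsgLib.W2 CfsgLib.W2.TG CfsgLib.Tech CfsgLib.PComp Cfsg CfsgLib.A16
  CfsgLib.SylT

variable {G : Type*} [Group G] [Finite G] {J : TL →* G} {π : G → P16}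
variable {β : BG →* G} {ρ σ : G} {ε : Bool} {e : EG →* G}

namespace Ex3

/-- `b ∈ u · (A' ⊓ F)` -/
abbrev Pb (b : BG) : Prop :=
  ∃ t, TL.In 884 t ∧ TL.In 960 t ∧ b = ub 0 * gb (i0 t) ∧ ge (bet b) = ue 0 * ge (i0 t)

theorem f1 : ∀ i, Pb (ub i) ∧ ge (bet (ub i)) = ue i := by decide +kernel

theorem f2 : ∀ ε, Pb (th ε TL.x35 (ub 0)) ∧ Pb (th ε TL.x45 (ub 0)) ∧ Pb (th ε TL.x34 (ub 0)) ∧
    sE (ge (bet (th ε TL.x35 (ub 0)))) = eb 2 ∧ sE (ge (bet (th ε TL.x45 (ub 0)))) = eb 4 ∧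
    th ε TL.x12 (ub 0) = ub 0 := by decide +kernel

theorem f3 : sE (ue 0) = eb 0 ∧ sE (eb 1) = ue 0 ∧ TL.In 640 TL.x35 ∧ TL.In 640 TL.x45 ∧
    sP TL.x35 = TL.x35 ∧ sP TL.x45 = TL.x45 ∧
    (i16 TL.x34)⁻¹ * (s16⁻¹ * (i16 TL.x34 * s16)) = 1 ∧ s16 * (i16 TL.x12 * (s16 * (i16 TL.x12)⁻¹)) = 1 := by
  decide +kernel

theorem f4 : ∀ t, TL.In 640 t → TL.In 640 (sP t) ∧ sP (sP (sP t)) = t ∧ TL.In 640 (TL.x34 * t * TL.x34⁻¹) ∧
    TL.In 640 (TL.x12⁻¹ * t * TL.x12⁻¹⁻¹) := by decide +kernel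

theorem f5 : ∀ t, (t = 1 ∨ t = TL.z ∨ t = TL.x25 ∨ t = TL.z * TL.x25) → TL.In 640 t ∧ TL.In 960 t ∧ t * t = 1 ∧
    ∀ a : EG, a * ge (i0 t) = ge (i0 t) * a := by
  rintro _ (rfl | rfl | rfl | rfl) <;> decide +kernel

theorem val (hb : BS J π β ρ ε) (h0 : E0 J π β σ e) {b : BG} (h : Pb b) : β b = e (ge (bet b)) := by
  obtain ⟨t, h1, h2, h3, h4⟩ := h
  rw [h4, map_mul, h0.eu, h0.eF t h2, ← hb.a t h1, ← map_mul, ← h3]

theorem fix (h : Hy J π) (h0 : E0 J π β σ e) {c : G} (hc : c ∈ NA J) (h1 : π c = 1)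
    (hn : c ∈ normalizer (e.range : Set G)) (hA : ∀ t, TL.In 640 t → ∃ s, W2.Rel J c t s) (a : EG) :
    c * e a * c⁻¹ = e a := by
  have r : ∀ t, TL.In 640 t → W2.Rel J c t t := fun t ht => by
    obtain ⟨s, hs⟩ := hA t ht
    exact hs.of_eq rfl (h.O_cent hc h1 hs).symm
  have a1 : AcE J c 1 := fun t ht => ⟨t, r t ht, by simp⟩
  have a2 : AcE J c⁻¹ 1 := fun t ht => ⟨t, (r t ht).symm, by simp⟩
  obtain ⟨a', ha'⟩ := (mem_normalizer_iff.1 hn (e a)).1 ⟨a, rfl⟩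
  have a3 := (a1.mul (h0.act a)).mul a2
  rw [← ha', one_mul, mul_one] at a3
  obtain ⟨t, ht, e1⟩ := a3.uniq h.inj (h0.act a')
  obtain ⟨t1, t2, t3, t4⟩ := f5 t ht
  rw [e1, t4, map_mul, h0.eF t t2] at ha'
  rw [odd_fix (h.ker hc h1) ha'.symm (r t t1).comm (by rw [← map_mul, t3, map_one]), mul_inv_cancel_right]

end Ex3

open Ex3 in
/-- An element `c ∈ ker π` normalizing `E` and `J AF` centralizes `AF` (`O_cent`), so acts on `E`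
trivially modulo `⟨z, x25⟩` (`act`, `uniq`), hence trivially (`odd_fix`). `x = e (eb 0) = σ u σ⁻¹`
(`sE (ue 0) = eb 0`). For `v = x35, x45`: `σ⁻¹ v σ = v` (`sP v = v`), so
`v x v⁻¹ = σ (v u v⁻¹) σ⁻¹ = e (sE (ue i))`. For `x34`: `σ⁻¹ (J x34) σ = J x34 · c` with `c ∈ ker π`
(`s16` commutes with `i16 x34`). For `γ = J x12 = β (o 85)`: `γ σ γ⁻¹ = σ⁻¹ c` (`i16 x12` inverts
`s16`), `γ u γ⁻¹ = u`, so `γ x γ⁻¹ = σ⁻¹ u σ = e (eb 1)`. `eu`: `ub i = ub 0 · gb (i0 t)` with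
`t ∈ A' ⊓ F`. -/
theorem E0.es (h : Hy J π) (hb : BS J π β ρ ε) (h0 : E0 J π β σ e)
    (hT : ∀ t, J t ∈ normalizer (e.range : Set G)) (hB : ∀ b, β b ∈ normalizer (e.range : Set G)) :
    ES J β ε σ e := by
  obtain ⟨g1, g2, g3, g4, g5, g6, g7, g8⟩ := f3
  obtain ⟨k1, k2, k3, k4, k5, k6⟩ := f2 ε
  have hx : e (eb 0) = σ * β (ub 0) * σ⁻¹ := by rw [← g1, ← h0.eu]; exact Eq.symm (h0.sE _)
  have sn : σ ∈ normalizer (e.range : Set G) := mem_normalizer_fintype (by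
    rintro _ ⟨a, rfl⟩; exact ⟨_, Eq.symm (h0.sE a)⟩)
  have key : ∀ v c, Pb (th ε v (ub 0)) → J v * σ = σ * (J v * c) → c * e (ue 0) * c⁻¹ = e (ue 0) →
      W2.Rel e (J v) (eb 0) (Har.sE (ge (bet (th ε v (ub 0))))) := by
    intro v c p1 p2 p3
    rw [W2.Rel, ← h0.sE, ← val hb h0 p1, ← hb.act v (ub 0), hx, ← h0.eu]
    calc J v * (σ * e (ue 0) * σ⁻¹) * (J v)⁻¹ = (J v * σ) * e (ue 0) * (J v * σ)⁻¹ := by group
      _ = σ * (J v * (c * e (ue 0) * c⁻¹) * (J v)⁻¹) * σ⁻¹ := by rw [p2]; group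
      _ = _ := by rw [p3]
  have si : ∀ t, TL.In 640 t → W2.Rel J σ⁻¹ t (sP (sP t)) := fun t ht =>
    ((h0.sA _ (f4 _ (f4 t ht).1).1).of_eq rfl (f4 t ht).2.1).symm
  have N := h.memN
  have sN := h0.sN
  refine ⟨h0.inj, h0.eF, fun i => by rw [val hb h0 (f1 i).1, (f1 i).2], h0.sE, hB, ?_, ?_, ?_, ?_⟩
  · rw [← k4]
    exact key _ 1 k1 (by rw [mul_one]; exact ((h0.sA _ g3).of_eq rfl g5).comm.symm) (by simp)
  · rw [← k5]
    exact key _ 1 k2 (by rw [mul_one]; exact ((h0.sA _ g4).of_eq rfl g6).comm.symm) (by simp)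
  · have c1 : σ * (J TL.x12)⁻¹ ∈ NA J := mul_mem sN (inv_mem (N _))
    have c2 : J TL.x12 * (σ * (J TL.x12)⁻¹) ∈ NA J := mul_mem (N _) c1
    have := fix h h0 (c := σ * (J TL.x12 * (σ * (J TL.x12)⁻¹))) (mul_mem sN c2)
      (by rw [h.mul sN c2, h.mul (N _) c1, h.mul sN (inv_mem (N _)), h.inv (N _), h.sec, h0.sp, g8])
      (mul_mem sn (mul_mem (hT _) (mul_mem sn (inv_mem (hT _))))) (fun t ht => by
        have r1 := W2.Rel.conj J TL.x12⁻¹ t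
        rw [map_inv] at r1
        have r2 := h0.sA _ (f4 t ht).2.2.2
        have m2 := (f4 _ (f4 t ht).2.2.2).1
        have r3 := W2.Rel.conj J TL.x12 (sP (TL.x12⁻¹ * t * TL.x12⁻¹⁻¹))
        have m3 := (f4 _ m2).2.2.2
        rw [inv_inv, show TL.x12⁻¹ = TL.x12 by decide +kernel] at m3
        refine ⟨_, (h0.sA _ ?_).comp (r3.comp (r2.comp r1))⟩
        rw [show TL.x12⁻¹ = TL.x12 by decide +kernel]
        exact m3) (ue 0)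
    have u1 : J TL.x12 * e (ue 0) * (J TL.x12)⁻¹ = e (ue 0) := by
      rw [h0.eu]; exact (hb.act TL.x12 (ub 0)).trans (by rw [k6])
    have u2 : σ * e (eb 1) * σ⁻¹ = e (ue 0) := (h0.sE _).trans (by rw [g2])
    rw [W2.Rel, hx, ← h0.eu]
    refine (mul_left_cancel_iff (a := σ)).1 ((mul_right_cancel_iff (a := σ⁻¹)).1 ?_)
    rw [u2]
    calc _ = σ * (J TL.x12 * (σ * (J TL.x12)⁻¹)) * (J TL.x12 * e (ue 0) * (J TL.x12)⁻¹) *
          (σ * (J TL.x12 * (σ * (J TL.x12)⁻¹)))⁻¹ := by group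
      _ = _ := by rw [u1, this]
  · have c1 : J TL.x34 * σ ∈ NA J := mul_mem (N _) sN
    have c2 : σ⁻¹ * (J TL.x34 * σ) ∈ NA J := mul_mem (inv_mem sN) c1
    refine key _ ((J TL.x34)⁻¹ * (σ⁻¹ * (J TL.x34 * σ))) k3 (by group) (fix h h0 (mul_mem (inv_mem (N _)) c2)
      (by rw [h.mul (inv_mem (N _)) c2, h.mul (inv_mem sN) c1, h.mul (N _) sN, h.inv (N _), h.inv sN, h.sec,
        h0.sp, g7]) (mul_mem (inv_mem (hT _)) (mul_mem (inv_mem sn) (mul_mem (hT _) sn))) (fun t ht => ?_) _)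
    have r3 := si _ (f4 _ (f4 t ht).1).2.2.1
    have r4 := W2.Rel.conj J TL.x34⁻¹ (sP (sP (TL.x34 * sP t * TL.x34⁻¹)))
    rw [map_inv] at r4
    exact ⟨_, r4.comp (r3.comp ((W2.Rel.conj J TL.x34 _).comp (h0.sA t ht)))⟩

end CfsgLib.Har
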