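import Cfsg.Agent.Lib.Har.Defs3

/-!
Project HAR (S1918, plans/HAR.md). General lemmas (package GEN).
-/

set_option autoImplicit false
set_option Elab.async false
set_option linter.unusedSectionVars false
set_option synthInstance.maxSize 100000
set_option maxRecDepth 100000

namespace CfsgLib.Har

open Subgroup Equiv Function CfsgLib.W2 CfsgLib.W2.TG CfsgLib.Tech CfsgLib.PComp Cfsg CfsgLib.A16
  CfsgLib.SylT

variable {G : Type*} [Group G] [Finite G]

/-- `N = N_R(P) > P` (normalizer condition in the 2-group `R`); the 2-group `V` acts on the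
nontrivial 2-group `N / P` and fixes a coset `sP ≠ P`; take `r = s⁻¹`. -/
theorem step {R V P : Subgroup G} (hR : IsPGroup 2 R) (hV : IsPGroup 2 V) (hP : P ≤ R)
    (h1 : V ≤ normalizer (R : Set G)) (h2 : V ≤ normalizer (P : Set G)) (h4 : ¬ R ≤ P) :
    ∃ r ∈ R, r ∉ P ∧ r ∈ normalizer (P : Set G) ∧ ∀ v ∈ V, r * v * r⁻¹ * v⁻¹ ∈ P := by
  have hN : V ≤ normalizer ((R ⊓ normalizer (P : Set G) : Subgroup G) : Set G) := fun v hv =>
    mem_normalizer_of_forall fun x hx => ⟨conj_mem_of_mem_normalizer (h1 hv) hx.1,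
      Subgroup.mul_mem _ (Subgroup.mul_mem _ (h2 hv) hx.2) (Subgroup.inv_mem _ (h2 hv))⟩
  obtain ⟨x, xR, xP, xN⟩ := exists_mem_normalizer_of_lt hR (lt_of_le_not_ge hP h4)
  have hX := hV.to_sup_of_normal_right' (hR.to_le inf_le_left) hN
  set N := R ⊓ normalizer (P : Set G)
  have : (P.subgroupOf (V ⊔ N)).Normal := normal_subgroupOf_of_le_normalizer (sup_le h2 inf_le_right)
  have : (N.subgroupOf (V ⊔ N)).Normal := normal_subgroupOf_of_le_normalizer (sup_le hN le_normalizer)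
  have := Normal.map this _ (QuotientGroup.mk'_surjective (P.subgroupOf (V ⊔ N)))
  obtain ⟨_, ⟨r, hr, rfl⟩, o, c⟩ := exists_mem_center_of_normalized
    ((hX.to_quotient (P.subgroupOf (V ⊔ N))).to_subgroup ⊤)
    (N := (N.subgroupOf (V ⊔ N)).map (QuotientGroup.mk' _)) le_top le_normalizer_of_normal fun e =>
      xP ((QuotientGroup.eq_one_iff (N := P.subgroupOf (V ⊔ N)) ⟨x, mem_sup_right ⟨xR, xN⟩⟩).1
        (e.le (mem_map_of_mem _ (show _ ∈ N.subgroupOf (V ⊔ N) from ⟨xR, xN⟩))))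
  refine ⟨r, hr.1, fun e => ne_one_of_ord o ((QuotientGroup.eq_one_iff r).2 e), hr.2, fun v hv => ?_⟩
  refine (QuotientGroup.eq_one_iff (N := P.subgroupOf (V ⊔ N))
    (r * ⟨v, mem_sup_left hv⟩ * r⁻¹ * ⟨v, mem_sup_left hv⟩⁻¹)).1 ?_
  have := c (QuotientGroup.mk ⟨v, mem_sup_left hv⟩) (mem_top _)
  rw [QuotientGroup.mk'_apply] at this
  simp only [QuotientGroup.mk_mul, QuotientGroup.mk_inv, ← this, mul_inv_cancel_right, mul_inv_cancel]

/-- Put `P` in a Sylow subgroup `S` of `H`, `P < S`, take an involution of `N_S(P) / P`. -/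
theorem exists_y {P H : Subgroup G} (hP : IsPGroup 2 P) (h : P ≤ H) (hn : ¬ IsSylowIn 2 P H) :
    ∃ y ∈ H, y ∈ normalizer (P : Set G) ∧ y ∉ P ∧ y * y ∈ P := by
  obtain ⟨R, hR, lt, RH, RN⟩ := exists_lt_pgroup_normalizer hP h hn
  obtain ⟨x, xR, xP⟩ := SetLike.exists_of_lt lt
  by_contra! e
  obtain ⟨m, hm⟩ := isPGroup_iff_mem.1 hR x xR
  have : ∀ m : ℕ, x ^ 2 ^ m ∉ P := fun m => by
    induction m with
    | zero => simpa using xP
    | succ m ih =>
      rw [pow_succ, pow_mul, pow_two]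
      exact e _ (RH (pow_mem xR _)) (RN (pow_mem xR _)) ih
  exact this m (hm ▸ one_mem _)

/-- `S` Sylow in `D ⊔ V` containing the 2-group `P ⊔ V`; `R = S ⊓ D` (`D` is normal in `D ⊔ V`). -/
theorem syl_inv {D V P : Subgroup G} (hV : IsPGroup 2 V) (h : V ≤ normalizer (D : Set G))
    (hP : IsPGroup 2 P) (hPD : P ≤ D) (hVP : V ≤ normalizer (P : Set G)) :
    ∃ R, IsSylowIn 2 R D ∧ P ≤ R ∧ V ≤ normalizer (R : Set G) := by
  obtain ⟨S, hS, le⟩ := exists_isSylowIn_ge (hV.to_sup_of_normal_right' hP hVP) (sup_le_sup_left hPD V)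
  have := hS.inf_of_le_normalizer (sup_le h le_normalizer)
  rw [inf_eq_right.2 (le_sup_right : D ≤ V ⊔ D)] at this
  have VS := le_sup_left.trans le
  exact ⟨_, this, le_inf (le_sup_right.trans le) hPD, fun v hv => mem_normalizer_of_forall fun x hx =>
    ⟨S.mul_mem (S.mul_mem (VS hv) hx.1) (S.inv_mem (VS hv)), conj_mem_of_mem_normalizer (h hv) hx.2⟩⟩

omit [Finite G] in
/-- Gluing of two homomorphisms: `φ (i n * j k) = f n * g k` is well defined by `h1` and
multiplicative by `h2`, `hn`. -/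
theorem amal {S N H : Type*} [Group S] [Group N] [Group H] (i : N →* S) (j : H →* S)
    (hs : ∀ s, ∃ n k, s = i n * j k) (f : N →* G) (g : H →* G)
    (h1 : ∀ n k, i n = j k → f n = g k) (hn : ∀ k n, ∃ n', j k * i n * (j k)⁻¹ = i n')
    (h2 : ∀ k n n', j k * i n * (j k)⁻¹ = i n' → g k * f n * (g k)⁻¹ = f n') :
    ∃ φ : S →* G, φ.comp i = f ∧ φ.comp j = g := by
  have wd : ∀ n k n' k', i n * j k = i n' * j k' → f n * g k = f n' * g k' := fun n k n' k' e => by
    have := h1 (n'⁻¹ * n) (k' * k⁻¹) (by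
      rw [map_mul, map_mul, map_inv, map_inv, inv_mul_eq_iff_eq_mul, ← mul_assoc, ← e, mul_inv_cancel_right])
    rw [map_mul, map_mul, map_inv, map_inv, inv_mul_eq_iff_eq_mul, ← mul_assoc] at this
    rw [this, inv_mul_cancel_right]
  choose a b hab using hs
  refine ⟨MonoidHom.mk' (fun s => f (a s) * g (b s)) fun s t => ?_, MonoidHom.ext fun n => ?_,
    MonoidHom.ext fun k => ?_⟩
  · obtain ⟨n', e⟩ := hn (b s) (a t)
    rw [wd _ _ (a s * n') (b s * b t) (by
      rw [← hab, map_mul, map_mul, ← e]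
      conv_lhs => rw [hab s, hab t]
      group), map_mul, map_mul, ← h2 _ _ _ e]
    group
  · exact (wd _ _ n 1 (by rw [← hab, map_one, mul_one])).trans (by rw [map_one, mul_one])
  · exact (wd _ _ 1 k (by rw [← hab, map_one, one_mul])).trans (by rw [map_one, one_mul])

/-- As `A16.wf_of_hom`: `K = ker f` is a normal subgroup of odd order of `N`; with
`P' = i⁻¹ (f x · i P · (f x)⁻¹)` both `x J(P) x⁻¹` and `J(P')` are 2-subgroups of `J(P') ⊔ K`, the
second is Sylow; so `k x J(P) x⁻¹ k⁻¹ ≤ J(P')` for a `k ∈ J(P') ⊔ K`, which can be taken in `K`;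
`g = k x`; compare the images under `f` (`i` is injective). -/
theorem lift_gen {T X : Type*} [Group T] [Group X] {N : Subgroup G} {f : G → X}
    (hm : ∀ {x y}, x ∈ N → y ∈ N → f (x * y) = f x * f y)
    (hk : ∀ {x}, x ∈ N → f x = 1 → Odd (orderOf x)) {J : T →* G} (hJ : ∀ t, J t ∈ N)
    (h2 : IsPGroup 2 T) {i : T →* X} (hi : Injective i) (hs : ∀ t, f (J t) = i t) {x : G} (hx : x ∈ N)
    (P : Subgroup T) (hP : ∀ a ∈ P, f x * i a * (f x)⁻¹ ∈ i.range) :
    ∃ g ∈ N, f g = f x ∧ ∀ a ∈ P, ∀ b, i b = f x * i a * (f x)⁻¹ → W2.Rel J g a b := by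
  let F : N →* X := MonoidHom.mk' (fun n => f n) fun a b => hm a.2 b.2
  let J' : T →* N := J.codRestrict N hJ
  have e : ∀ t, F (J' t) = i t := hs
  have hA : IsPGroup 2 J'.range := h2.of_surjective _ J'.rangeRestrict_surjective
  have hS : IsSylowIn 2 J'.range (J'.range ⊔ F.ker) := isSylowIn_of_maximal hA le_sup_left
    fun R hR h1 h3 r hr => by
      obtain ⟨a, ha, o, ho, rfl⟩ := mem_sup_of_normal_right.1 (h3 hr)
      obtain ⟨k, hk'⟩ := isPGroup_iff_mem.1 hR o ((mul_mem_cancel_left (h1 ha)).1 hr)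
      have h4 := hk o.2 ho
      rw [orderOf_coe] at h4
      rwa [orderOf_eq_one_iff.1 (Nat.eq_one_of_dvd_coprimes ((Nat.coprime_two_right.2 h4).pow_right k)
        dvd_rfl (orderOf_dvd_of_pow_eq_one hk')), mul_one]
  obtain ⟨m, hm', k⟩ := hS.exists_cj_le (isPGroup_cj ⟨x, hx⟩ (hA.to_le (map_le_range J' P)))
    (cj_le_iff.2 (by
      rintro _ ⟨a, ha, rfl⟩
      obtain ⟨b, hb⟩ := hP a ha
      refine (mul_mem_cancel_left (mem_sup_left (show J' b⁻¹ ∈ J'.range from ⟨_, rfl⟩))).1 (mem_sup_right ?_)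
      rw [MonoidHom.mem_ker]
      simp only [map_mul, map_inv, e, hb]
      exact inv_mul_cancel _))
  obtain ⟨_, ⟨s, rfl⟩, o, ho, rfl⟩ := mem_sup_of_normal_right.1 hm'
  have e0 : F (o * ⟨x, hx⟩) = f x := by rw [map_mul, show F o = 1 from ho, one_mul]; rfl
  refine ⟨(o * ⟨x, hx⟩ : N), (o * ⟨x, hx⟩ : N).2, e0, fun a ha b hb => ?_⟩
  obtain ⟨c, hc⟩ := cj_le_iff.1 k _ (conj_mem_cj.2 ⟨a, ha, rfl⟩)
  have h1 : W2.Rel J' (o * ⟨x, hx⟩) a (s⁻¹ * c * s) := by
    rw [W2.Rel, map_mul, map_mul, hc, map_inv]; group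
  have h3 : s⁻¹ * c * s = b := hi (by rw [hb, ← e, ← h1, map_mul, map_mul, map_inv, e0, e])
  exact congrArg Subtype.val (h3 ▸ h1)

/-- `g²` commutes with `p`, and `g` is a power of `g²`. -/
theorem odd_fix {g p c : G} (ho : Odd (orderOf g)) (h : g * p * g⁻¹ = c * p) (hc : g * c = c * g)
    (h2 : c * c = 1) : g * p = p * g := by
  refine mem_Cx.1 (mem_of_coprime_pow (Nat.coprime_two_right.2 ho)
    (by rw [pow_orderOf_eq_one]; exact one_mem _) (mem_Cx'.2 ?_))
  rw [show g ^ 2 * p * (g ^ 2)⁻¹ = g * (g * p * g⁻¹) * g⁻¹ by rw [pow_two]; group, h, ← mul_assoc, hc, mul_assoc c,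
    mul_assoc c, h, ← mul_assoc, h2, one_mul]

/-- Burnside: a central Sylow 2-subgroup has a normal complement, which is `O(C)`. -/
theorem cent_syl {E C : Subgroup G} (h : IsSylowIn 2 E C) (hc : ∀ e ∈ E, ∀ c ∈ C, e * c = c * e)
    {g : G} (hg : g ∈ C) : ∃ e ∈ E, ∃ c ∈ opOf 2 C, g = e * c := by
  have h1 := le_of_npc (npc_of_burnside h fun n hn _ x hx => (hc x hx n hn).symm) h
    (le_sup_right (a := E)) le_sup_left hg
  rw [← SetLike.mem_coe, coe_mul_of_left_le_normalizer_right _ _ fun e he => mem_normalizer_of_forall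
    fun x hx => by rwa [hc e he x (opOf_le _ hx), mul_inv_cancel_right]] at h1
  obtain ⟨e, he, c, hc, rfl⟩ := h1
  exact ⟨e, he, c, hc, rfl⟩

end CfsgLib.Har
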