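import Cfsg.Agent.Lib.Har.Defs3

/-!
Project HAR (S1918, plans/HAR.md). Lemmas in `S₈` (package REG).
-/

set_option autoImplicit false
set_option Elab.async false
set_option linter.unusedSectionVars false
set_option synthInstance.maxSize 100000
set_option maxRecDepth 100000

namespace CfsgLib.Har

open Subgroup Equiv Function CfsgLib.W2 CfsgLib.W2.TG CfsgLib.Tech CfsgLib.PComp Cfsg CfsgLib.A16
  CfsgLib.SylT

/-- `ν⁻¹ (i + 2j + 4k) = a^i b^j c^k 0` is a bijection (`pw (pv i)` is `p ↦ p xor 2^i`). -/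
theorem reg (v : Fin 3 → Perm (Fin 8)) (h1 : ∀ i, v i * v i = 1) (h2 : ∀ i j, v i * v j = v j * v i)
    (h3 : ∀ i j k : Bool, (i || j || k) = true → ∀ p,
      ((if i then v 0 else 1) * (if j then v 1 else 1) * (if k then v 2 else 1)) p ≠ p) :
    ∃ ν : Perm (Fin 8), ∀ i, ν * v i * ν⁻¹ = pw (pv i) := by
  let X : Fin 3 → Bool → Perm (Fin 8) := fun i b => if b then v i else 1
  have x1 : ∀ i a b, X i a * X i b = X i (xor a b) := fun i a b => by
    cases a <;> cases b <;> simp [X, h1]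
  have x2 : ∀ i j a b, Commute (X i a) (X j b) := fun i j a b => by
    cases a <;> cases b <;> simp [X, Commute, SemiconjBy, h2 i j]
  let W : Bool → Bool → Bool → Perm (Fin 8) := fun a b c => X 0 a * X 1 b * X 2 c
  have w1 : ∀ a b c a' b' c', W a b c * W a' b' c' = W (xor a a') (xor b b') (xor c c') := by
    intro a b c a' b' c'
    simp only [W]
    rw [((x2 2 0 c a').mul_right (x2 2 1 c b')).mul_mul_mul_comm, (x2 1 0 b a').mul_mul_mul_comm, x1, x1, x1]
  let g : Fin 8 → Fin 8 := fun p => W (bit p.val 0) (bit p.val 1) (bit p.val 2) 0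
  have hg : Injective g := fun p q e => by
    by_contra hne
    refine h3 _ _ _ ((by decide +kernel : ∀ p q : Fin 8, p ≠ q → (xor (bit p.val 0) (bit q.val 0) ||
      xor (bit p.val 1) (bit q.val 1) || xor (bit p.val 2) (bit q.val 2)) = true) p q hne) 0 ?_
    change W _ _ _ 0 = 0
    rw [← w1, Perm.mul_apply]
    change W _ _ _ (g q) = 0
    rw [← e]
    change (W _ _ _ * W _ _ _) 0 = 0
    rw [w1, Bool.xor_self, Bool.xor_self, Bool.xor_self]
    simp [W, X]
  refine ⟨(Equiv.ofBijective g (Finite.injective_iff_bijective.1 hg))⁻¹, fun i => ?_⟩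
  rw [inv_inv, mul_assoc, inv_mul_eq_iff_eq_mul]
  refine Perm.ext fun p => ?_
  change v i (g p) = g (pw (pv i) p)
  have e : v i = W (decide (i = 0)) (decide (i = 1)) (decide (i = 2)) := by
    fin_cases i <;> simp [W, X]
  obtain ⟨e0, e1, e2⟩ := (by decide +kernel : ∀ (i : Fin 3) (p : Fin 8),
    bit (pw (pv i) p).val 0 = xor (decide (i = 0)) (bit p.val 0) ∧
    bit (pw (pv i) p).val 1 = xor (decide (i = 1)) (bit p.val 1) ∧
    bit (pw (pv i) p).val 2 = xor (decide (i = 2)) (bit p.val 2)) i p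
  simp only [g]
  rw [e0, e1, e2, ← w1, ← e]
  rfl

/-- `A16.perm_eq_top`: the adjacent transpositions are conjugates of `pw (o 1) = swap 0 1` under words
in `r8` and `pw`. -/
theorem gen_S8 {K : Subgroup (Perm (Fin 8))} (h1 : ∀ p, pw p ∈ K) (h2 : r8 ∈ K) : K = ⊤ := by
  have c : ∀ g ∈ K, ∀ {a b a' b' : Fin 8}, swap a b ∈ K → g a = a' ∧ g b = b' → swap a' b' ∈ K := by
    rintro g hg a b _ _ h ⟨rfl, rfl⟩
    rw [swap_apply_apply]
    exact mul_mem (mul_mem hg h) (inv_mem hg)
  have s01 : swap 0 1 ∈ K := (Perm.ext (by decide +kernel) : pw (o 1) = swap 0 1) ▸ h1 (o 1)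
  have s23 : swap 2 3 ∈ K := c _ (h1 (pv 1)) s01 (by decide +kernel)
  have s45 : swap 4 5 ∈ K := c _ (h1 (pv 2)) s01 (by decide +kernel)
  have s67 : swap 6 7 ∈ K := c _ (h1 (pv 2)) s23 (by decide +kernel)
  have s02 : swap 0 2 ∈ K := c _ h2 s01 (by decide +kernel)
  have s46 : swap 4 6 ∈ K := c _ h2 s23 (by decide +kernel)
  have s13 : swap 1 3 ∈ K := c _ h2 s45 (by decide +kernel)
  have s04 : swap 0 4 ∈ K := c _ h2 s02 (by decide +kernel)
  have s12 : swap 1 2 ∈ K := c _ s01 s02 (by decide +kernel)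
  have s14 : swap 1 4 ∈ K := c _ s01 s04 (by decide +kernel)
  have s34 : swap 3 4 ∈ K := c _ s13 s14 (by decide +kernel)
  have s56 : swap 5 6 ∈ K := c _ s45 s46 (by decide +kernel)
  refine perm_eq_top fun i => ?_
  fin_cases i
  exacts [s01, s12, s23, s34, s45, s56, s67]

theorem reg_pw_inj : Injective pw := (injective_iff_map_eq_one _).2 fun p h =>
  (by decide +kernel : ∀ p, (∀ q, pw p q = q) → p = 1) p fun q => by rw [h]; rfl

theorem syl_pw : IsSylowIn 2 pw.range ⊤ := by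
  refine ⟨le_top, (IsPGroup.of_card (n := 7) (card_eq : Nat.card P8 = 128)).of_surjective _
    pw.rangeRestrict_surjective, ?_⟩
  have h := pw.range.card_mul_index
  rw [← Nat.card_congr (MonoidHom.ofInjective reg_pw_inj).toEquiv, (card_eq : Nat.card P8 = 128),
    Nat.card_perm, Nat.card_fin, show Nat.factorial 8 = 40320 from rfl] at h
  rw [relIndex_top_right]
  omega

theorem mem_pw {μ : Perm (Fin 8)} (h1 : μ ∈ normalizer (pw.range : Set (Perm (Fin 8))))
    (h2 : μ * μ ∈ pw.range) : μ ∈ pw.range := by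
  have hz : IsPGroup 2 (zpowers μ) := by
    obtain ⟨k, hk⟩ := syl_pw.pgroup ⟨_, h2⟩
    have e : μ ^ 2 ^ (k + 1) = 1 := by
      rw [pow_succ', pow_mul, sq]; exact congrArg Subtype.val hk
    rintro ⟨_, n, rfl⟩
    refine ⟨k + 1, Subtype.ext ?_⟩
    change (μ ^ n) ^ 2 ^ (k + 1) = 1
    rw [← zpow_natCast, ← zpow_mul, mul_comm, zpow_mul, zpow_natCast, e, one_zpow]
  have := syl_pw.eq_of_le (syl_pw.pgroup.to_sup_of_normal_left' hz (zpowers_le.2 h1)) le_sup_left le_top
  exact this ▸ mem_sup_right (mem_zpowers μ)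

/-- `α` preserves `range eps` (`eq_E`). For `b` with `bet b ∉ range eps`, `w = α (bet b)` is an
involution outside `E` commuting with all its conjugates; decide: an involution `w` with
`pr w ≠ 1` commuting with its conjugates under `o 9326` and `o 5671` lies in `B`. `B` is generated
by such elements. -/
theorem charB (α : MulAut SG) (b : BG) : α (bet b) ∈ bet.range := by
  have hE : eps.range.map α.toMonoidHom = eps.range := eq_E (by
    rintro _ ⟨_, ⟨e, rfl⟩, rfl⟩
    rw [← map_mul, ← map_mul, EG.sq, map_one, map_one]) (by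
      rw [card_map_of_injective α.injective, card_rE])
  have k : ∀ b, pr (bet b) ≠ 1 → α (bet b) ∈ bet.range := fun b hb => by
    have c : ∀ s, α (bet b) * (s * α (bet b) * s⁻¹) = s * α (bet b) * s⁻¹ * α (bet b) := fun s => by
      obtain ⟨s, rfl⟩ := α.surjective s
      rw [← map_inv, ← map_mul, ← map_mul, ← bet_cB, ← map_mul, ← map_mul, ← map_mul, ← map_mul, mul_comm]
    refine ⟨gb _, (by decide +kernel : ∀ w : SG, w * w = 1 → pr w ≠ 1 →
      w * (o 9326 * w * (o 9326)⁻¹) = o 9326 * w * (o 9326)⁻¹ * w →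
      w * (o 5671 * w * (o 5671)⁻¹) = o 5671 * w * (o 5671)⁻¹ * w → bet (gb w) = w) _ ?_ (fun e => hb ?_)
      (c _) (c _)⟩
    · rw [← map_mul, ← map_mul, BG.sq, map_one, map_one]
    · obtain ⟨x, hx, e'⟩ := hE.ge (mem_E.2 e)
      exact mem_E.1 (α.injective e' ▸ hx)
  by_cases hb : pr (bet b) = 1
  · obtain ⟨b₀, h0⟩ := (by decide +kernel : ∃ b₀, pr (bet b₀) ≠ 1)
    have e : b = b * b₀ * b₀ := by rw [mul_assoc, BG.sq, mul_one]
    rw [e, map_mul, map_mul]
    exact mul_mem (k _ (by rwa [map_mul, map_mul, hb, one_mul])) (k _ h0)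
  · exact k b hb

theorem center_SG {s : SG} (h : ∀ t, s * t = t * s) : s = 1 ∨ s = zs :=
  (by decide +kernel : ∀ s : SG, s * o 1 = o 1 * s → s * o 256 = o 256 * s → s * o 4096 = o 4096 * s →
    s * o 8192 = o 8192 * s → s * o 2 = o 2 * s → s * o 16 = o 16 * s → s = 1 ∨ s = zs) s
    (h _) (h _) (h _) (h _) (h _) (h _)

/-- `C_{SG}(B) = B` -/
theorem cent_B {s : SG} (h : ∀ b, s * bet b = bet b * s) : s ∈ bet.range := by
  obtain ⟨h1, h2⟩ := dec_T s
  have h3 : ∀ b, tr (tj s) * bet b = bet b * tr (tj s) := fun b => by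
    have h4 := h b
    rw [← h2, mul_assoc, ← mul_assoc (bet b), ← map_mul, mul_comm b, map_mul, mul_assoc] at h4
    exact mul_left_cancel h4
  have h5 := (by decide +kernel : ∀ j < 128, (∀ g ∈ gB, tr j * bet g = bet g * tr j) → tr j = 1) _ h1
    fun g _ => h3 g
  rw [h5, mul_one] at h2
  exact ⟨_, h2⟩

end CfsgLib.Har
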