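import Cfsg.Agent.Lib.Har.E256
import Cfsg.Agent.Lib.Har.Reg

/-!
Project HAR (S1918, plans/HAR.md). Computations in `WB` (package WBM).
-/

set_option autoImplicit false
set_option Elab.async false
set_option linter.unusedSectionVars false
set_option synthInstance.maxSize 100000
set_option maxRecDepth 100000

namespace CfsgLib.Har

open Subgroup Equiv Function CfsgLib.W2 CfsgLib.W2.TG CfsgLib.Tech CfsgLib.PComp Cfsg CfsgLib.A16
  CfsgLib.SylT

/-- `WB` as a product -/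
def wbmEqv : WB ≃ (Fin 8 → ZMod 2) × Perm (Fin 8) :=
  ⟨fun x => (x.b, x.s), fun y => ⟨y.1, y.2⟩, fun _ => rfl, fun _ => rfl⟩

instance : Finite WB := Finite.of_equiv _ wbmEqv.symm

theorem card_WB : Nat.card WB = 10321920 := by
  rw [Nat.card_congr wbmEqv, Nat.card_prod, Nat.card_perm, Nat.card_fun]
  simp [Nat.factorial]

@[simp] theorem wbm_lb (σ : Perm (Fin 8)) (p : Fin 8) : (liftB σ).b p = 0 := rfl
@[simp] theorem wbm_ls (σ : Perm (Fin 8)) : (liftB σ).s = σ := rfl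
@[simp] theorem wbm_tb (q r : Fin 8) : (tq q).b r = if r = q then 1 else 0 := rfl
@[simp] theorem wbm_ts (q : Fin 8) : (tq q).s = 1 := rfl

theorem dec_WB (w : WB) : ∃ e, w = eB e * liftB w.s := by
  obtain ⟨c, hc, e⟩ := bv_surj w.b
  exact ⟨o c, WB.ext' (fun p => by rw [WB.mul_b, wbm_lb, add_zero, eB_b, v_o hc, e])
    fun p => by rw [WB.mul_s, eB_s, one_mul, wbm_ls]⟩

theorem eB_inj : Injective eB := (injective_iff_map_eq_one _).2 (by decide +kernel)

theorem zB_comm (w : WB) : w * zB = zB * w :=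
  WB.ext' (fun _ => add_comm _ _) fun p => by simp [zB]

theorem eB_ze : eB ze = zB := by decide +kernel

theorem eB_eb (q : Fin 8) : eB (eb q) = tq q := by revert q; decide +kernel

theorem conj_tq (w : WB) (q : Fin 8) : w * tq q * w⁻¹ = tq (w.s q) :=
  WB.ext' (fun r => by
    simp only [WB.mul_b, WB.mul_s, wbm_tb, wbm_ts, WB.inv_b, mul_one, Perm.coe_inv,
      Equiv.apply_symm_apply, Equiv.symm_apply_eq]
    rw [add_comm (w.b r), add_assoc, WD.aa, add_zero]) fun r => by simp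

theorem wtB_conj (x y : WB) : wtB (x * y * x⁻¹) = wtB y := by
  refine (Finset.card_bijective x.s x.s.bijective fun p => ?_).symm
  simp only [Finset.mem_filter, Finset.mem_univ, true_and]
  rw [← not_iff_not, not_or, not_or, not_not, not_not, not_not, not_not]
  simp only [WB.mul_s, WB.inv_s, WB.mul_b, WB.inv_b, Perm.mul_apply, Perm.coe_inv, Equiv.symm_apply_apply,
    Equiv.apply_eq_iff_eq, mul_inv_rev, and_congr_right_iff]
  intro h
  rw [(Equiv.symm_apply_eq _).2 h.symm, add_comm (x.b _), add_assoc, WD.aa, add_zero]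

theorem syl_iT : IsSylowIn 2 iT.range ⊤ :=
  ⟨le_top, (IsPGroup.of_card card_TW).of_surjective _ iT.rangeRestrict_surjective, by
    have h := iT.range.card_mul_index
    rw [← Nat.card_congr (MonoidHom.ofInjective iT_inj).toEquiv, card_TW, card_WB] at h
    rw [relIndex_top_right]
    omega⟩

theorem parB_mul (x y : WB) : parB (x * y) = parB x + parB y := by
  simp only [parB, WB.mul_b]
  rw [Finset.sum_add_distrib, Equiv.sum_comp x.s⁻¹ y.b]

theorem mem_inc {w : WB} : w ∈ inc.range ↔ parB w = 0 :=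
  ⟨fun ⟨x, e⟩ => e ▸ x.ev, fun h => ⟨⟨w.b, w.s, h⟩, rfl⟩⟩

theorem wbm_inc_inj : Injective inc := fun _ _ e =>
  WD.ext' (fun p => congrArg (fun w : WB => w.b p) e) fun p => congrArg (fun w : WB => w.s p) e

theorem wbm_tE (e : EG) : iT (tE e) = inc (ee e) :=
  (DFunLike.congr_fun iT_i1 (eps e)).trans (congrArg inc (iw_eps e))

theorem wbm_tq : ∀ q, tq q * tq q = 1 ∧ parB (tq q) = 1 := by decide +kernel

theorem wbm_x : ∀ i, iT (tE (eb (bl i))) = liftB (sw i) := fun i =>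
  (wbm_tE _).trans ((by decide +kernel : ∀ i, inc (ee (eb (bl i))) = liftB (sw i)) i)

theorem wbm_x0 : iT (tE (eb 0)) = liftB (swap 0 1) := wbm_x 0

theorem wbm_t (q : Fin 8) : iT (bW (eb q)) = tq q := by rw [iT_bW, eB_eb]

/-- an element of odd parity is `t_q` times an element of `W(D₈)` -/
theorem wbm_odd {w : WB} (h : parB w ≠ 0) (q : Fin 8) : ∃ x, w = tq q * inc x := by
  obtain ⟨x, e⟩ := mem_inc.2 (show parB (tq q * w) = 0 by
    rw [parB_mul, (wbm_tq q).2, (ne01 _).1.1 h, WD.aa])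
  exact ⟨x, by rw [e, ← mul_assoc, (wbm_tq q).1, one_mul]⟩

theorem wbm_fix {c y : WB} {p : Fin 8} (h : y.s p = p ∧ y.b p = 0) :
    (c * y * c⁻¹).s (c.s p) = c.s p ∧ (c * y * c⁻¹).b (c.s p) = 0 := by
  have e : y.s.symm p = p := (Equiv.symm_apply_eq _).2 h.1.symm
  simp [h.1, h.2, e, WD.aa]

/-- Normal form of the involutions. -/
theorem nf_inv {w : WB} (h : w * w = 1) : ∃ (c : WB) (δ : Bool) (e : EG),
    c * w * c⁻¹ = iT ((if δ then bW (eb 0) else 1) * tE e) ∧ (δ = true → e ∈ EZ) := by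
  by_cases hp : parB w = 0
  · obtain ⟨x, rfl⟩ := mem_inc.2 hp
    obtain ⟨c, e, he⟩ := conj_E (x := x) (wbm_inc_inj (by rw [map_mul, h, map_one]))
    exact ⟨inc c, false, e, by rw [if_neg Bool.false_ne_true, one_mul, wbm_tE, ← he, map_mul, map_mul, map_inv],
      fun k => absurd k Bool.false_ne_true⟩
  obtain ⟨p, p1, p2⟩ : ∃ p, w.s p = p ∧ w.b p ≠ 0 := by
    by_contra hn
    push Not at hn
    refine hp (Finset.sum_involution (fun p _ => w.s p) (fun p _ => ?_) (fun p _ h1 h2 => h1 (hn p h2))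
      (fun _ _ => Finset.mem_univ _) fun p _ => congrArg (fun y : WB => y.s p) h)
    simpa [add_comm] using congrArg (fun y : WB => y.b (w.s p)) h
  obtain ⟨x, hx⟩ := wbm_odd hp p
  have e1 : inc x = tq p * w := by rw [hx, ← mul_assoc, (wbm_tq p).1, one_mul]
  have e2 := conj_tq w p
  rw [p1, mul_inv_eq_iff_eq_mul] at e2
  obtain ⟨c, e, he⟩ := conj_E (x := x) (wbm_inc_inj (by
    rw [map_mul, e1, mul_assoc, ← mul_assoc w, e2, mul_assoc, h, mul_one, (wbm_tq p).1, map_one]))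
  obtain ⟨r, hr⟩ := (by decide +kernel : ∀ q, ∃ r : P8, pw r q = 0) (c.s p)
  have e3 : iT (pW r) * inc c * inc x * (iT (pW r) * inc c)⁻¹ = inc (ee (cE (trH r) e)) := by
    rw [← iw_eps, eps_cE, map_mul iw, map_mul iw, map_inv iw, iw_eps, iw_trH, ← he, iT_pW]
    simp only [map_mul, map_inv, mul_inv_rev, mul_assoc]
    rfl
  have e4 : (iT (pW r) * inc c).s p = 0 := by rw [iT_pW]; exact hr
  have e5 := wbm_fix (c := iT (pW r) * inc c) (y := inc x) (p := p) (by
    rw [e1]; simp [p1, (ne01 _).1.1 p2, WD.aa])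
  rw [e3, e4] at e5
  refine ⟨iT (pW r) * inc c, true, cE (trH r) e, ?_, fun _ =>
    (by decide +kernel : ∀ e : EG, (ee e).s 0 = 0 → (ee e).b 0 = 0 → Nat.land e.v 3 = 0) _ e5.1 e5.2⟩
  rw [if_pos rfl, map_mul iT, wbm_t, wbm_tE, ← e3, ← e4, ← conj_tq, conj_mul, ← hx]

theorem wbm_ite {G : Type*} [Group G] {K : Subgroup G} {a : G} (h : a ∈ K) (p : Prop) [Decidable p] :
    (if p then a else 1) ∈ K := by
  split_ifs
  exacts [h, one_mem _]

theorem wbm_R2 {K : Subgroup (Perm (Fin 8))} (h : ∀ i, sw i ∈ K) {s : Perm (Fin 8)} (hs : s ∈ R2) : s ∈ K := by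
  have k : ∀ a : Fin 4 → Bool, ∀ i, ∀ p : Fin 8, p.val / 2 = i.val →
      ((if a 0 then sw 0 else 1) * (if a 1 then sw 1 else 1) * (if a 2 then sw 2 else 1) *
        (if a 3 then sw 3 else 1)) p = if a i then mu1 p else p := by decide +kernel
  have m : ∀ p : Fin 8, (mu1 p).val / 2 = p.val / 2 ∧ mu1 p ≠ p := by decide +kernel
  rw [show s = _ from Perm.ext fun p => Eq.trans ?_
    (k (fun i => decide (s (bl i) ≠ bl i)) ⟨p.val / 2, by omega⟩ p rfl).symm]
  · exact mul_mem (mul_mem (mul_mem (wbm_ite (h 0) _) (wbm_ite (h 1) _)) (wbm_ite (h 2) _)) (wbm_ite (h 3) _)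
  obtain ⟨q, hq⟩ : ∃ q, q = bl ⟨p.val / 2, by omega⟩ := ⟨_, rfl⟩
  have h0 : q.val = 2 * (p.val / 2) := by rw [hq]; rfl
  have h1 := hs p
  have h2 := hs q
  have h3 : s p = s q → p = q := fun e => s.injective e
  have h4 : p = q → s p = s q := congrArg s
  have h5 := m p
  simp only [← hq, decide_eq_true_eq]
  split_ifs <;> omega

/-- `C(E⁰) = E⁰ × ⟨t₀, x₀⟩` -/
theorem cent_EZ {w : WB} (h : ∀ e ∈ EZ, w * iT (tE e) = iT (tE e) * w) :
    w ∈ (EZ.map tE ⊔ closure {bW (eb 0), tE (eb 0)}).map iT := by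
  set K := (EZ.map tE ⊔ closure {bW (eb 0), tE (eb 0)}).map iT
  have k1 : ∀ e ∈ EZ, iT (tE e) ∈ K := fun e he => mem_map_of_mem _ (mem_sup_left (mem_map_of_mem _ he))
  have k2 : tq 0 ∈ K := wbm_t 0 ▸ mem_map_of_mem _ (mem_sup_right (subset_closure (by simp)))
  have k3 : iT (tE (eb 0)) ∈ K := mem_map_of_mem _ (mem_sup_right (subset_closure (by simp)))
  have z : ∀ i : Fin 4, i ≠ 0 → Nat.land (eb (bl i)).v 3 = 0 ∧ Nat.land (ue i).v 3 = 0 := by decide +kernel
  have u : ∀ i, iT (tE (ue i)) = eB (ue i) := fun i => by rw [(tE_facts.1 i).2, iT_bW]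
  have k4 : ∀ i, liftB (sw i) ∈ K := fun i => by
    rw [← wbm_x]
    by_cases e : i = 0
    · rw [e]; exact k3
    · exact k1 _ (z i e).1
  have k5 : tq 1 ∈ K := by
    have := mul_mem (mul_mem (k4 0) k2) (inv_mem (k4 0))
    rwa [conj_tq] at this
  have k6 : ∀ i, i ≠ 0 → eB (ue i) ∈ K := fun i e => u i ▸ k1 _ (z i e).2
  have s1 : ∀ i : Fin 4, i ≠ 0 → ∀ p, (w.s p).val / 2 = i.val ↔ p.val / 2 = i.val := fun i e p => by
    have := congrArg (fun y : WB => y.b (w.s p)) (h _ (z i e).2)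
    simp only [u, WB.mul_b, eB_s, eB_b, inv_one, Perm.coe_inv, Equiv.symm_apply_apply, Perm.one_apply,
      add_comm (w.b _), add_left_inj] at this
    exact (by decide +kernel : ∀ (i : Fin 4) (p q : Fin 8), bv (ue i).v p = bv (ue i).v q →
      (q.val / 2 = i.val ↔ p.val / 2 = i.val)) i _ _ this
  have s2 : w.s ∈ R2 := fun p => by
    have a1 := s1 1 (by decide) p
    have a2 := s1 2 (by decide) p
    have a3 := s1 3 (by decide) p
    simp only [Fin.val_one, Fin.val_two, show (3 : Fin 4).val = 3 from rfl] at a1 a2 a3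
    omega
  have s3 : ∀ i : Fin 4, i ≠ 0 → w.b (br i) = w.b (bl i) := fun i e => by
    have := congrArg (fun y : WB => y.b (br i)) (h _ (z i e).1)
    simpa [wbm_x, sw] using this
  obtain ⟨e, he⟩ := dec_WB w
  have s4 : ∀ p, w.b p = bv e.v p := fun p => by rw [he, WB.mul_b, wbm_lb, add_zero, eB_b]
  rw [he]
  refine mul_mem ?_ (wbm_R2 (K := K.comap liftB) k4 s2)
  rw [(by decide +kernel : ∀ e : EG, (∀ i : Fin 4, i ≠ 0 → bv e.v (br i) = bv e.v (bl i)) →
    e = (if bit e.v 0 then eb 0 else 1) * (if bit e.v 1 then eb 1 else 1) * (if bit e.v 2 then ue 1 else 1) *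
      (if bit e.v 4 then ue 2 else 1) * (if bit e.v 6 then ue 3 else 1)) e fun i hi => by rw [← s4, ← s4, s3 i hi]]
  have m : ∀ {a}, eB a ∈ K → ∀ b : Bool, (if b then a else 1) ∈ K.comap eB := fun ha b =>
    wbm_ite (K := K.comap eB) ha _
  exact mul_mem (S := Subgroup EG) (mul_mem (mul_mem (mul_mem (m (eB_eb 0 ▸ k2) _) (m (eB_eb 1 ▸ k5) _))
    (m (k6 1 (by decide)) _)) (m (k6 2 (by decide)) _)) (m (k6 3 (by decide)) _)

/-- `S₈ = ⟨Stab(1), (0 1)⟩` -/
theorem gen_t1 {K : Subgroup WB} (h1 : ∀ w, w * tq 1 = tq 1 * w → w ∈ K) (h2 : iT (tE (eb 0)) ∈ K) :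
    K = ⊤ := by
  have k : ∀ w : WB, w.s 1 = 1 → w ∈ K := fun w e => h1 w (by rw [← mul_inv_eq_iff_eq_mul, conj_tq, e])
  rw [wbm_x0] at h2
  have t : K.comap liftB = ⊤ := perm_eq_top fun i => by
    rcases (by decide +kernel : ∀ i : Fin 7, swap i.castSucc i.succ 1 = 1 ∨ swap i.castSucc i.succ = swap 0 1 ∨
      swap i.castSucc i.succ = swap 0 2 * swap 0 1 * swap 0 2) i with e | e | e
    · exact k _ e
    · rw [e]; exact h2
    · have a : swap 0 2 ∈ K.comap liftB := k _ (by decide +kernel)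
      rw [e]; exact mul_mem (mul_mem a h2) a
  refine eq_top_iff.2 fun w _ => ?_
  obtain ⟨e, he⟩ := dec_WB w
  rw [he]
  exact mul_mem (k _ rfl) (t.ge (mem_top w.s))

theorem gen_inc {K : Subgroup WB} (h1 : ∀ w, inc w ∈ K) (h2 : tq 0 ∈ K) : K = ⊤ := by
  refine eq_top_iff.2 fun w _ => ?_
  by_cases hp : parB w = 0
  · obtain ⟨x, rfl⟩ := mem_inc.2 hp
    exact h1 x
  · obtain ⟨x, rfl⟩ := wbm_odd hp 0
    exact mul_mem h2 (h1 x)

/-- a nontrivial normal subgroup contains `zB` -/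
theorem zB_mem {K : Subgroup WB} (hK : K.Normal) (h : K ≠ ⊥) : zB ∈ K := by
  have k : ∀ y ∈ K, y ≠ 1 → parB y = 0 → zB ∈ K := fun y hy y1 hp => by
    obtain ⟨x, rfl⟩ := mem_inc.2 hp
    exact z0_mem_of_normal (hK.comap inc) (x := x) hy fun e => y1 (by rw [e, map_one])
  obtain ⟨⟨x, hx⟩, x1⟩ := ne_bot_iff_exists_ne_one.1 h
  by_cases hc : ∀ c, x * c = c * x
  · refine k x hx (fun e => x1 (Subtype.ext e)) ?_
    have b : ∀ p, x.b p = x.b 0 := fun p => by
      simpa using congrArg (fun y : WB => y.b p) (hc (liftB (swap 0 p)))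
    rw [parB, Finset.sum_congr rfl fun p _ => b p]
    generalize x.b 0 = a
    revert a
    decide
  push Not at hc
  obtain ⟨c, hc⟩ := hc
  have i : ∀ y, parB y⁻¹ = parB y := fun y => Equiv.sum_comp y.s y.b
  refine k (x * (c * x⁻¹ * c⁻¹)) (mul_mem hx (hK.conj_mem _ (inv_mem hx) _)) (fun e => hc ?_) ?_
  · rw [← mul_inv_eq_one, ← e]; group
  · rw [parB_mul, parB_mul, parB_mul, i, i, add_comm (parB c), add_assoc, WD.aa, add_zero, WD.aa]

/-- a homomorphism to a commutative group trivial on `x₀` is determined by `t₀` -/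
theorem hom_parB {M : Type*} [CommGroup M] (χ : WB →* M) (h : χ (iT (tE (eb 0))) = 1) (w : WB) :
    χ w = if parB w = 0 then 1 else χ (tq 0) := by
  rw [wbm_x0] at h
  have t : (χ.comp inc).ker = ⊤ := eq_top_of_gen (by
    have e : inc (tt 0 1) = tq 0 * (liftB (swap 0 1) * tq 0 * (liftB (swap 0 1))⁻¹) := by decide +kernel
    change χ (inc _) = 1
    rw [e, map_mul, map_mul, map_mul, map_inv, h, one_mul, inv_one, mul_one, ← map_mul, (wbm_tq 0).1, map_one])
    fun i => (isConj_iff_eq.1 ((χ.comp liftB).map_isConj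
      (Perm.isConj_swap (Fin.castSucc_lt_succ (i := i)).ne (by decide : (0 : Fin 8) ≠ 1)))).trans h
  have k : ∀ x, χ (inc x) = 1 := fun x => t.ge (mem_top x)
  split_ifs with hp
  · obtain ⟨x, rfl⟩ := mem_inc.2 hp
    exact k x
  · obtain ⟨x, rfl⟩ := wbm_odd hp 0
    rw [map_mul, k, mul_one]

end CfsgLib.Har
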