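import Cfsg.Agent.Lib.Har.Xa1
import Cfsg.Agent.Lib.Har.Reg

/-!
Project HAR (S1918, plans/HAR.md). The automizer of `B'` (package XA2).
-/

set_option autoImplicit false
set_option Elab.async false
set_option linter.unusedSectionVars false
set_option synthInstance.maxSize 100000
set_option maxRecDepth 100000

namespace CfsgLib.Har

open Subgroup Equiv Function CfsgLib.W2 CfsgLib.W2.TG CfsgLib.Tech CfsgLib.PComp Cfsg CfsgLib.A16
  CfsgLib.SylT

/-- a group preserving `S` preserves the length with respect to `S` -/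
theorem xa2_len {D : Subgroup (MulAut EG)} {S : EG → Prop} {l : EG → ℕ}
    (hS : ∀ d ∈ D, ∀ s, S s → S (d s))
    (h1 : ∀ e, e = 1 ∨ (∀ e', l e' ≤ l e) ∨ ∃ s, S s ∧ l (e * s⁻¹) < l e)
    (h2 : ∀ s, S s → ∀ e, l (e * s) ≤ l e + 1) {d : MulAut EG} (hd : d ∈ D) (e : EG) :
    l (d e) = l e := by
  have key : ∀ d ∈ D, ∀ n e, l e = n → l (d e) ≤ l e := fun d hd n => by
    induction n using Nat.strong_induction_on with
    | _ n ih =>
      intro e he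
      rcases h1 e with rfl | k | ⟨s, hs, k⟩
      · rw [map_one]
      · exact k _
      · have a := ih _ (he ▸ k) _ rfl
        have b := h2 _ (hS d hd s hs) (d (e * s⁻¹))
        rw [← map_mul, inv_mul_cancel_right] at b
        omega
  refine le_antisymm (key d hd _ e rfl) ?_
  simpa using key _ (inv_mem hd) _ (d e) rfl

/-- the length with respect to the vectors of weight two -/
noncomputable def xaL (e : EG) : ℕ := if par e then 5 else wb e / 2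

theorem xa2_l2 : (∀ e, e = 1 ∨ (∀ e', xaL e' ≤ xaL e) ∨ ∃ s, wb s = 2 ∧ xaL (e * s⁻¹) < xaL e) ∧
    (∀ s, wb s = 2 → ∀ e, xaL (e * s) ≤ xaL e + 1) ∧ (∀ e, par e = decide (xaL e = 5)) ∧
    ∀ e, xaL e = xaL ze → e = ze := by decide +kernel

theorem xa2_ol : ∀ ε, (∀ e, e = 1 ∨ ∃ s, ol (alE ε s) = 1 ∧ ol (alE ε (e * s⁻¹)) < ol (alE ε e)) ∧
    ∀ s, ol (alE ε s) = 1 → ∀ e, ol (alE ε (e * s)) ≤ ol (alE ε e) + 1 := by decide +kernel

theorem xa {D : Subgroup (MulAut EG)} (h : IsSylowIn 2 aP.range D) (h8 : ∀ ν, ∃ d ∈ D, Pm d ν) :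
    XAlt D := by
  rcases xa1 h h8 with k | ⟨ε, k, k'⟩
  · refine .inl fun d hd => ?_
    have a := xa2_len (l := xaL) (fun d hd s hs => (k _).1 (((k s).2 hs).map hd)) xa2_l2.1
      xa2_l2.2.1 hd
    exact ⟨fun e => by rw [xa2_l2.2.2.1, a, ← xa2_l2.2.2.1], xa2_l2.2.2.2 _ (a ze)⟩
  · exact .inr ⟨ε, fun d hd => xa2_len (l := fun e => ol (alE ε e))
      (fun d hd s hs => (k _).1 (((k s).2 hs).map hd))
      (fun e => ((xa2_ol ε).1 e).imp_right .inr) (xa2_ol ε).2 hd, k'⟩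

variable {G : Type*} [Group G] [Finite G] {J : TW →* G} {ρ σ : G}

omit [Finite G] in
theorem xa2_rel (J : TW →* G) (t : TW) (a : EG) : W2.Rel (J.comp bW) (J t) a (aP t.right a) := by
  have k : ∀ x y : EG, x * y * x⁻¹ = y := by decide +kernel
  have e : t * bW a * t⁻¹ = bW (aP t.right a) := by
    conv_lhs => rw [← SemidirectProduct.inl_left_mul_inr_right t]
    rw [mul_inv_rev, mul_assoc, mul_assoc, ← mul_assoc (bW a), ← mul_assoc (pW _), ← mul_assoc (pW _),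
      ← map_inv, ← SemidirectProduct.inl_aut, ← map_inv, ← map_mul, ← map_mul, ← mul_assoc, k]
  change J t * J (bW a) * (J t)⁻¹ = J (bW _)
  rw [← e, map_mul, map_mul, map_inv]

theorem TS.s8 (h : TS J ρ σ) (ν : Perm (Fin 8)) : ∃ d ∈ AutG (J.comp bW), Pm d ν := by
  have hj : Injective (J.comp bW) := h.inj.comp SemidirectProduct.inl_injective
  let K : Subgroup (Perm (Fin 8)) :=
    { carrier := {ν | ∃ d ∈ AutG (J.comp bW), Pm d ν}
      one_mem' := ⟨1, one_mem _, fun _ => rfl⟩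
      mul_mem' := fun ⟨d, hd, e⟩ ⟨d', hd', e'⟩ => ⟨d * d', mul_mem hd hd', fun q => by
        rw [MulAut.mul_apply, e', e]; rfl⟩
      inv_mem' := fun {μ} ⟨d, hd, e⟩ => ⟨d⁻¹, inv_mem hd, fun q => by
        rw [MulAut.inv_def, MulEquiv.symm_apply_eq, e]; simp⟩ }
  refine (gen_S8 (K := K) (fun p => ⟨aP p, ⟨J (pW p), xa2_rel J _⟩, aP_eb p⟩) ?_).ge (mem_top ν)
  obtain ⟨θ, t1, t2⟩ := exists_aut hj
  have hn : ρ ∈ normalizer ((J.comp bW).range : Set G) := mem_normalizer_of_forall (by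
    rintro _ ⟨a, rfl⟩
    refine ind_of_genB gE_gen (P := fun a => ρ * J.comp bW a * ρ⁻¹ ∈ (J.comp bW).range) (by simp)
      (fun a ih g hg => ?_) a
    obtain ⟨q, rfl⟩ := (by decide +kernel : ∀ g ∈ gE, ∃ q, g = eb q) g hg
    rw [map_mul, ← conj_mul]
    exact mul_mem ih ⟨_, Eq.symm (h.rb q)⟩)
  exact ⟨θ ⟨ρ, hn⟩, t2 ▸ ⟨_, rfl⟩, fun q => (t1 ⟨ρ, hn⟩ _).uniq hj (h.rb q) rfl⟩

theorem TS.autG (h : TS J ρ σ) : IsSylowIn 2 aP.range (AutG (J.comp bW)) := by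
  have hj : Injective (J.comp bW) := h.inj.comp SemidirectProduct.inl_injective
  obtain ⟨θ, h1, h2⟩ := exists_aut hj
  have h5 := IsSylowIn.map' (IsSylowIn.of_sylow_top h.syl.toSylow) θ
  rw [h2] at h5
  convert h5 using 1
  ext d
  exact ⟨fun ⟨p, e⟩ => ⟨⟨J (pW p), h.syl.le ⟨_, rfl⟩⟩, ⟨_, rfl⟩, e ▸ MulEquiv.ext fun a =>
    (h1 _ a).uniq hj (xa2_rel J (pW p) a) rfl⟩, fun ⟨n, ⟨s, e⟩, e'⟩ => ⟨s.right, e' ▸ MulEquiv.ext
      fun a => (xa2_rel J s a).uniq hj (e ▸ h1 n a) rfl⟩⟩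

theorem TS.xalt (h : TS J ρ σ) : XAlt (AutG (J.comp bW)) := xa h.autG h.s8

end CfsgLib.Har
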