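import Cfsg.Agent.Lib.Har.Coc
import Cfsg.Agent.Lib.Har.Xa2
import Cfsg.Agent.Lib.Har.Gen
import Cfsg.Agent.Lib.Har.Wbm
import Cfsg.Agent.S0051

/-!
Project HAR (S1918, plans/HAR.md). `N(B') ⊓ C(z)` modulo its core is `W(B₈)` (package FB).
-/

set_option autoImplicit false
set_option Elab.async false
set_option linter.unusedSectionVars false
set_option synthInstance.maxSize 100000
set_option maxRecDepth 100000

namespace CfsgLib.Har

open Subgroup Equiv Function CfsgLib.W2 CfsgLib.W2.TG CfsgLib.Tech CfsgLib.PComp Cfsg CfsgLib.A16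
  CfsgLib.SylT

variable {G : Type*} [Group G] [Finite G] {J : TW →* G} {ρ σ d : G} {f : G → WB} {r : Fin 4 → G}

namespace Fb

/-- `x` permutes the basis of `B'` as `ν` -/
def AcW (J : TW →* G) (x : G) (ν : Perm (Fin 8)) : Prop :=
  ∀ q, W2.Rel J x (bW (eb q)) (bW (eb (ν q)))

variable {x y : G} {ν μ : Perm (Fin 8)}

theorem AcW.mul (h : AcW J x ν) (h' : AcW J y μ) : AcW J (x * y) (ν * μ) := fun q => (h _).comp (h' q)

theorem acW_map (J : TW →* G) (t : TW) : AcW J (J t) (iT t).s := fun q =>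
  (W2.Rel.conj J t _).of_eq rfl (iT_inj (by
    rw [map_mul, map_mul, map_inv, iT_bW, iT_bW, eB_eb, eB_eb, conj_tq]))

theorem eb_inj : ∀ p q, eb p = eb q → p = q := by decide +kernel

theorem AcW.uniq (hJ : Injective J) (h : AcW J x ν) (h' : AcW J x μ) : ν = μ :=
  Perm.ext fun q => eb_inj _ _ (SemidirectProduct.inl_injective ((h q).uniq hJ (h' q) rfl))

theorem liftB_s (ν : Perm (Fin 8)) : (liftB ν).s = ν := lift_s ν

theorem AcW.rel (h : AcW J x ν) (a : EG) :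
    ∃ b, eB b = liftB ν * eB a * (liftB ν)⁻¹ ∧ W2.Rel J x (bW a) (bW b) := by
  refine ind_of_genB gE_gen (P := fun a => ∃ b, eB b = liftB ν * eB a * (liftB ν)⁻¹ ∧ W2.Rel J x (bW a) (bW b))
    ⟨1, by simp, by simpa only [map_one] using W2.Rel.one⟩ ?_ a
  rintro a ⟨b, e, r⟩ g hg
  obtain ⟨q, rfl⟩ := (by decide +kernel : ∀ g ∈ gE, ∃ q, g = eb q) g hg
  refine ⟨b * eb (ν q), ?_, by simpa only [map_mul] using r.mul (h q)⟩
  rw [map_mul, map_mul, e, eB_eb, eB_eb, ← conj_mul, conj_tq, liftB_s]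

theorem AcW.cent (h : AcW J x 1) : x ∈ centralizer ((J.comp bW).range : Set G) := by
  rintro _ ⟨a, rfl⟩
  obtain ⟨b, e, r⟩ := h.rel a
  obtain rfl : b = a := eB_inj (by simpa using e)
  exact r.comm.symm

theorem acW_of_cent (h : x ∈ centralizer ((J.comp bW).range : Set G)) : AcW J x 1 := fun q =>
  W2.Rel.of_comm (h _ ⟨eb q, rfl⟩).symm

theorem B_comm : (J.comp bW).range ≤ centralizer ((J.comp bW).range : Set G) := by
  rintro _ ⟨a, rfl⟩ _ ⟨b, rfl⟩; rw [← map_mul, mul_comm, map_mul]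

theorem AcW.mem (h : AcW J x ν) : x ∈ N0 J := by
  refine ⟨mem_normalizer_of_forall ?_, ?_⟩
  · rintro _ ⟨a, rfl⟩
    obtain ⟨b, -, r⟩ := h.rel a
    exact ⟨b, Eq.symm r⟩
  · obtain ⟨b, e, r⟩ := h.rel ze
    obtain rfl : b = ze := eB_inj (by rw [e, eB_ze, zB_comm, mul_inv_cancel_right])
    exact mem_Cx.2 r.comm

theorem J_mem (J : TW →* G) (t : TW) : J t ∈ N0 J := (acW_map J t).mem

theorem bW_s (e : EG) : (iT (bW e)).s = 1 := by rw [iT_bW, eB_s]

theorem pW_s (p : P8) : (iT (pW p)).s = pw p := by rw [iT_pW, liftB_s]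

noncomputable def be (w : WB) : EG := (dec_WB w).choose

theorem eB_be (w : WB) : eB (be w) = w * (liftB w.s)⁻¹ := eq_mul_inv_of_mul_eq (dec_WB w).choose_spec.symm

theorem equiv (hJ : Injective J) (hS : IsSylowIn 2 J.range ⊤) {μ : G →* Perm (Fin 8)} (h1 : Surjective μ)
    (h2 : ∀ x, AcW J x (μ x)) (h3 : μ.ker ≤ (J.comp bW).range) :
    ∃ ψ : WB ≃* G, (∀ w, μ (ψ w) = w.s) ∧ ∀ e, ψ (eB e) = J (bW e) := by
  have k1 : ∀ t, μ (J t) = (iT t).s := fun t => (h2 _).uniq hJ (acW_map J t)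
  have k2 : (J.comp bW).range = μ.ker := le_antisymm (by
    rintro _ ⟨b, rfl⟩; exact (k1 _).trans (bW_s b)) h3
  have : (J.comp bW).range.Normal := k2 ▸ inferInstance
  have : IsMulCommutative (J.comp bW).range := ⟨⟨fun a b => Subtype.ext (B_comm b.2 _ a.2)⟩⟩
  have k3 : (J.comp bW).range ≤ J.range := by rintro _ ⟨b, rfl⟩; exact ⟨_, rfl⟩
  obtain ⟨H, hH⟩ := Cfsg.Agent.S0051.result (J.comp bW).range J.range k3 (by
      obtain ⟨n, hn⟩ := (hS.pgroup.to_le k3).exists_card_eq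
      rw [hn, ← relIndex_top_right]
      exact ((Nat.Prime.coprime_iff_not_dvd Nat.prime_two).2 hS.not_dvd).pow_left n)
    (J.comp pW).range (by rintro _ ⟨b, rfl⟩; exact ⟨_, rfl⟩) (eq_bot_iff.2 (by
      rintro _ ⟨⟨p, rfl⟩, b, e'⟩
      have := congrArg SemidirectProduct.right (hJ e')
      obtain rfl : p = 1 := this.symm
      rw [map_one]; exact one_mem _))
    (le_antisymm (sup_le k3 (by rintro _ ⟨b, rfl⟩; exact ⟨_, rfl⟩)) (by
      rintro _ ⟨t, rfl⟩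
      rw [← SemidirectProduct.inl_left_mul_inr_right t, map_mul]
      exact mul_mem (mem_sup_left ⟨_, rfl⟩) (mem_sup_right ⟨_, rfl⟩)))
  rw [k2] at hH
  let e := MulEquiv.ofBijective (μ.comp H.subtype) ⟨(injective_iff_map_eq_one _).2 fun x hx =>
    Subtype.ext (hH.disjoint.le_bot ⟨hx, x.2⟩), fun σ => by
      obtain ⟨x, rfl⟩ := h1 σ
      obtain ⟨⟨a, b⟩, rfl⟩ := hH.2 x
      exact ⟨b, by rw [map_mul, show μ a = 1 from a.2, one_mul]; rfl⟩⟩
  let φ := H.subtype.comp e.symm.toMonoidHom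
  have g1 : ∀ σ, μ (φ σ) = σ := e.apply_symm_apply
  let ψ : WB →* G := MonoidHom.mk' (fun x => J (bW (be x)) * φ x.s) fun x y => by
    obtain ⟨b, e, r⟩ := (h2 (φ x.s)).rel (be y)
    rw [show be (x * y) = be x * b from eB_inj (by
      rw [map_mul, e, eB_be, eB_be, eB_be, g1, WB.mul_s, map_mul]
      group), map_mul, map_mul, ← r, WB.mul_s, map_mul]
    group
  have g3 : ∀ x, ψ x = J (bW (be x)) * φ x.s := fun _ => rfl
  have g4 : ∀ x, μ (ψ x) = x.s := fun x => by rw [g3, map_mul, k1, bW_s, one_mul, g1]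
  have g5 : ∀ a ν, ψ (eB a * liftB ν) = J (bW a) * φ ν := fun a ν => by
    have s : (eB a * liftB ν).s = ν := by rw [WB.mul_s, eB_s, one_mul, liftB_s]
    rw [g3, s, show be (eB a * liftB ν) = a from eB_inj (by rw [eB_be, s, mul_inv_cancel_right])]
  refine ⟨MulEquiv.ofBijective ψ ⟨(injective_iff_map_eq_one _).2 fun x e => ?_, fun x => ?_⟩, g4, fun a => ?_⟩
  · have e1 : x.s = 1 := by rw [← g4, e, map_one]
    rw [g3, e1, map_one, mul_one, map_eq_one_iff _ hJ, map_eq_one_iff _ SemidirectProduct.inl_injective] at e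
    have := eB_be x
    rwa [e, e1, map_one, map_one, inv_one, mul_one, eq_comm] at this
  · obtain ⟨b, e⟩ := h3 (show x * (φ (μ x))⁻¹ ∈ μ.ker by simp [g1])
    exact ⟨eB b * liftB (μ x), by rw [g5, show J (bW b) = _ from e, inv_mul_cancel_right]⟩
  · exact (show ψ (eB a) = _ by simpa using g5 a 1)

theorem core (hJ : Injective J) (hT : IsSylowIn 2 J.range ⊤) (h1 : ∀ x, ∃ ν, AcW J x ν) (h2 : ∀ ν, ∃ x, AcW J x ν) :
    ∃ f : G →* WB, Surjective f ∧ (∀ x, f x = 1 → Odd (orderOf x)) ∧ (∀ e, f (J (bW e)) = eB e) ∧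
      ∀ x ν, AcW J x ν → (f x).s = ν := by
  choose μ0 hμ using h1
  let μ : G →* Perm (Fin 8) := MonoidHom.mk' μ0 fun x y => (hμ _).uniq hJ ((hμ x).mul (hμ y))
  have : (J.comp bW).range.Normal := ⟨by
    rintro _ ⟨a, rfl⟩ g
    obtain ⟨b, -, r⟩ := (hμ g).rel a
    exact ⟨b, Eq.symm r⟩⟩
  set C := centralizer ((J.comp bW).range : Set G)
  have hS : IsSylowIn 2 (J.comp bW).range C := by
    convert sylow_inf_normal hT.toSylowTop C using 1
    refine le_antisymm (le_inf (by rintro _ ⟨b, rfl⟩; exact ⟨_, rfl⟩) B_comm) ?_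
    rintro _ ⟨⟨t, rfl⟩, k⟩
    obtain ⟨b, rfl⟩ := cent_bW (x := t) fun e => hJ (by rw [map_mul, map_mul]; exact (k _ ⟨e, rfl⟩).symm)
    exact ⟨b, rfl⟩
  have := opOf_normal (p := 2) C
  let π := QuotientGroup.mk' (opOf 2 C)
  have hπ : Surjective π := QuotientGroup.mk'_surjective _
  have i' : Injective (π.comp J) := (injective_iff_map_eq_one _).2 fun s e => (map_eq_one_iff _ hJ).1
    ((isPGroup_inf_opOf hT.pgroup C).le ⟨⟨s, rfl⟩, (QuotientGroup.eq_one_iff _).1 e⟩)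
  have s' : IsSylowIn 2 (π.comp J).range ⊤ := by
    rw [MonoidHom.range_comp, ← MonoidHom.range_eq_top.2 hπ]; exact IsSylowIn.map' hT π
  let μ' := QuotientGroup.lift (opOf 2 C) μ fun x hx => (hμ x).uniq hJ (acW_of_cent (opOf_le _ hx))
  have k1 : ∀ x, AcW (π.comp J) x (μ' x) := fun x q => by
    obtain ⟨x, rfl⟩ := hπ x
    have := congrArg π (hμ x q)
    rw [map_mul, map_mul, map_inv] at this
    exact this
  obtain ⟨ψ, k2, k3⟩ := equiv i' s' (μ := μ') (fun ν => let ⟨x, hx⟩ := h2 ν; ⟨π x, (hμ x).uniq hJ hx⟩) k1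
    fun x hx => by
      obtain ⟨x, rfl⟩ := hπ x
      have e0 : AcW J x 1 := (show μ x = 1 from hx) ▸ hμ x
      obtain ⟨_, ⟨b, rfl⟩, o, ho, e⟩ := cent_syl hS (fun e he c hc => hc e he) e0.cent
      exact ⟨b, by rw [e, map_mul, show π o = 1 from (QuotientGroup.eq_one_iff o).2 ho, mul_one]; rfl⟩
  refine ⟨ψ.symm.toMonoidHom.comp π, ψ.symm.surjective.comp hπ, fun x hx => ?_,
    fun e => ψ.symm_apply_eq.2 (k3 e).symm, fun x ν hx => ?_⟩
  · have m : x ∈ opOf 2 C := (QuotientGroup.eq_one_iff x).1 ((map_eq_one_iff _ ψ.symm.injective).1 hx)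
    have := (coprime_card_opOf (p := 2) C).coprime_dvd_left (orderOf_dvd_natCard (opOf 2 C) m)
    exact Nat.coprime_two_right.1 this
  · rw [← k2, ← (hμ x).uniq hJ hx]
    exact congrArg μ' (ψ.apply_symm_apply _)

end Fb

open Fb in
/-- An element of `N₀` acts on `B'` preserving `ol` and `ze`, so it permutes the `eb q` (the `a` with
`ol a = 1`, `ol (a ze) = 4`): `μ : N₀ →* S₈`, onto (`s8`; a permutation of the basis fixes `ze`), with
kernel `C(B') = B' × O` (`B'` is Sylow in `C(B')` by `syl` and `cent_bW`; `cent_syl`). In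
`X = N₀ / O` the normal subgroup `B'` has the complement `J (range pW)` in the Sylow subgroup `T`; by
Gaschütz (S0051, as in `A16.std_equiv`) it has a complement `K ≅ S₈` in `X`, so `X ≅ WB` by
`b k ↦ eB b · liftB (μ k)`. For the resulting `f₀ : N₀ → WB`, `g = f₀ ∘ J` and `w = f₀ ρ` satisfy the
hypotheses of `coc` (`ρ ∈ N₀` by `rb`); `f = Θ ∘ f₀`. -/
theorem TU.fb (h : TU J ρ σ) : ∃ f, FB J f := by
  obtain ⟨θ, t1, t2⟩ := exists_aut (j := J.comp bW) (h.inj.comp SemidirectProduct.inl_injective)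
  let J' : TW →* N0 J := J.codRestrict _ (J_mem J)
  have up : ∀ {x : N0 J} {a b}, W2.Rel J x.1 a b → W2.Rel J' x a b := fun e => Subtype.ext e
  have i' : Injective J' := fun a b e => h.inj (congrArg Subtype.val e)
  have s' : IsSylowIn 2 J'.range ⊤ := by
    convert IsSylowIn.of_sylow_top (h.top.of_le (K := N0 J) (by rintro _ ⟨t, rfl⟩; exact J_mem J t) le_top).toSylow
      using 1
    exact Subgroup.ext fun x => ⟨fun ⟨r, e⟩ => ⟨r, congrArg Subtype.val e⟩, fun ⟨r, e⟩ => ⟨r, Subtype.ext e⟩⟩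
  obtain ⟨f, f1, f2, f3, f4⟩ := core i' s' (fun x => by
    set d := θ ⟨x.1, x.2.1⟩
    have r : ∀ a, W2.Rel J x.1 (bW a) (bW (d a)) := t1 ⟨x.1, x.2.1⟩
    have dz : d ze = ze := SemidirectProduct.inl_injective
      ((r ze).uniq h.inj (W2.Rel.of_comm (mem_Cx.1 x.2.2)) rfl)
    have om := h.om d (t2.le ⟨_, rfl⟩)
    have k := (by decide +kernel : ∀ q, ol (eb q) = 1 ∧ ol (eb q * ze) = 4)
    have : ∀ q, ∃ q', d (eb q) = eb q' := fun q =>
      (by decide +kernel : ∀ a, ol a = 1 → ol (a * ze) = 4 → ∃ q', a = eb q') _ (by rw [om, (k q).1])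
        (by rw [← dz, ← map_mul, om, (k q).2])
    choose ν hν using this
    exact ⟨Equiv.ofBijective ν (Finite.injective_iff_bijective.1 fun p q e =>
      eb_inj _ _ (d.injective (by rw [hν, hν, e]))), fun q => up ((r _).of_eq rfl (congrArg bW (hν q)))⟩)
    fun ν => by
      obtain ⟨d, ⟨n, hn⟩, hd⟩ := h.toTS.s8 ν
      have a : AcW J n ν := fun q => W2.Rel.of_eq (φ := J) (hn (eb q)) rfl (congrArg bW (hd q))
      exact ⟨⟨n, a.mem⟩, fun q => up (a q)⟩
  have aρ : AcW J ρ r8 := h.rb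
  let ρ' : N0 J := ⟨ρ, aρ.mem⟩
  have mp : ∀ {a b}, W2.Rel J ρ a b → W2.Rel (f.comp J') (f ρ') a b := fun e => by
    have := congrArg f (up (x := ρ') e)
    rwa [map_mul, map_mul, map_inv] at this
  have od : ∀ x : N0 J, Odd (orderOf x.1) → Odd (orderOf (f x)) := fun x e =>
    e.of_dvd_nat (by rw [Subgroup.orderOf_coe]; exact orderOf_map_dvd f x)
  obtain ⟨Θ, hΘ⟩ := coc (f.comp J') f3 (fun p => (f4 _ _ (acW_map J' (pW p))).trans (pW_s p))
    (f4 ρ' r8 fun q => up (aρ q)) ⟨mp h.rv.1, mp h.rv.2.1, mp h.rv.2.2⟩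
    ⟨od ρ' h.odd.1, by simpa only [map_mul, MonoidHom.comp_apply] using od (J' (pW (o 10)) * ρ') h.odd.2.1,
      by simpa only [map_mul, MonoidHom.comp_apply] using od (J' (pW (o 32)) * ρ') h.odd.2.2⟩
  classical
  refine ⟨fun x => if hx : x ∈ N0 J then Θ (f ⟨x, hx⟩) else 1, fun {x y} hx hy => ?_, fun w => ?_,
    fun {x} hx e => ?_, fun t => ?_⟩
  · rw [dif_pos hx, dif_pos hy, dif_pos (mul_mem hx hy), ← map_mul, ← map_mul]; rfl
  · obtain ⟨x, hx⟩ := f1 (Θ.symm w)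
    exact ⟨x, x.2, by rw [dif_pos x.2, hx, MulEquiv.apply_symm_apply]⟩
  · rw [dif_pos hx, map_eq_one_iff _ Θ.injective] at e
    simpa using f2 _ e
  · rw [dif_pos (J_mem J t)]; exact hΘ t

/-- `lift_gen` -/
theorem FB.wf (hf : FB J f) (w : WB) (P : Subgroup TW) (hP : ∀ a ∈ P, w * iT a * w⁻¹ ∈ iT.range) :
    ∃ g ∈ N0 J, f g = w ∧ ∀ a ∈ P, ∀ b, iT b = w * iT a * w⁻¹ → W2.Rel J g a b := by
  obtain ⟨x, hx, rfl⟩ := hf.surj w
  exact lift_gen hf.mul hf.ker (Fb.J_mem J) two_TW iT_inj hf.sec hx P hP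

/-- conjugation of one element -/
theorem FB.wf1 (hf : FB J f) {w : WB} {a b : TW} (e : iT b = w * iT a * w⁻¹) :
    ∃ g ∈ N0 J, f g = w ∧ W2.Rel J g a b := by
  obtain ⟨g, hg, e1, e2⟩ := hf.wf w (zpowers a) (by
    rintro _ ⟨n, rfl⟩
    exact ⟨b ^ n, by simp only [map_zpow, e, conj_zpow]⟩)
  exact ⟨g, hg, e1, e2 a (mem_zpowers a) b e⟩

end CfsgLib.Har
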