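import Cfsg.Agent.Lib.Har.Bas
import Cfsg.Agent.Lib.Held.Models
import Cfsg.Agent.Lib.SylT.L5h

/-!
Project HAR (S1918, plans/HAR.md). The Held group does not satisfy `Hy` (package HE).
-/

set_option autoImplicit false
set_option Elab.async false
set_option linter.unusedSectionVars false
set_option synthInstance.maxSize 100000
set_option maxRecDepth 100000

namespace CfsgLib.Har

open Subgroup Equiv Function CfsgLib.W2 CfsgLib.W2.TG CfsgLib.Tech CfsgLib.PComp Cfsg CfsgLib.A16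
  CfsgLib.SylT

variable {G : Type*} [Group G] [Finite G] {J : TL →* G} {π : G → P16}

theorem he_classes : ∃ φ : TL →* Spor.He, TL.SL φ ∧
    ∀ t, IsConj (φ TL.z) (φ t) ↔ (828 : ℕ).testBit (TL.kl t) = true := by
  obtain ⟨E, r, s, h⟩ := Held.isT_He
  have k := fun {p : ℕ → Bool} {y : ℕ} => Held.Emb.conj_rp (H := ⊤) (p := p) (y := y) h.hr h.hs
    (fun _ => mem_top _) (mem_top _) (mem_top _) (ws := [[], [], [], [12, 0, 14, 6], [12, 0], [14, 6],
      [0, 12, 0], [], [14, 6, 10, 14], [12, 0, 8, 12]])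
  have D : E.Dat ⊤ 828 := ⟨fun _ => mem_top _, by decide, k (by decide +kernel), fun n hn e1 e2 e => by
    by_cases e3 : n = 1
    · exact Held.Emb.not_Z_one (e3 ▸ e : E.Z (Held.rp 1))
    · obtain ⟨c, -, c1⟩ := k (p := fun n => Nat.ble 2 n && not ((828 : ℕ).testBit n)) (y := Held.ct)
        (by decide +kernel) n hn (by simp [e2]; omega)
      exact Held.Emb.not_Z_t (e.of_conj c1)⟩
  exact ⟨TL.ofEmb E, TL.SL_ofEmb E, fun t => by
    rw [TL.ofEmb_z]; exact D.Z_iff (TL.code_T t).1⟩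

theorem cnt_le_of {α : TL → TL} (hα : Injective α) {P Q : TL → Prop} [DecidablePred P]
    [DecidablePred Q] (h : ∀ t, P t → Q (α t)) : cnt P ≤ cnt Q := by
  rw [← card_subtype, ← card_subtype]
  exact Nat.card_le_card_of_injective (fun t : {x // P x} => (⟨α t, h t t.2⟩ : {x // Q x}))
    fun a b e => Subtype.ext (hα (congrArg Subtype.val e))

theorem aut_B (α : TL →* TL) (hα : Injective α) :
    (∀ t, TL.InB t → TL.InA (α t)) ∨ ∀ t, TL.InB t → TL.InB (α t) := by
  have h1 : ∀ t, TL.InB t → α t ∈ TL.A ∨ α t ∈ TL.B := fun t ht =>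
    TL.big _ (by rw [← map_mul, TL.B_sq t ht, map_one]) (le_trans (by decide +kernel)
      (cnt_le_of hα (P := TL.InB) fun r hr => ⟨by rw [← map_mul, TL.B_sq r hr, map_one], by
        rw [← map_mul, ← map_mul, TL.B_comm r hr t ht]⟩))
  by_contra hn
  simp only [not_or, not_forall] at hn
  obtain ⟨⟨a, ha, h2⟩, b, hb, h3⟩ := hn
  rcases h1 (a * b) (TL.B.mul_mem ha hb) with e | e <;> rw [map_mul] at e
  · exact h2 ((mul_mem_cancel_right ((h1 b hb).resolve_right h3)).1 e)
  · exact h3 ((mul_mem_cancel_left ((h1 a ha).resolve_left h2)).1 e)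

/-- Count the conjugates of `J z` in `J TL.B`: the `42` elements of type `t0` and the `7` elements
of `A` do not fit with the `45` conjugates of `z` in an `E₆₄` of `He`. -/
theorem Hy.not_He (h : Hy J π) (hs : IsSylowIn 2 J.range ⊤) (e : G ≃* Spor.He) : False := by
  obtain ⟨φ, h1, h2⟩ := he_classes
  have : Finite Spor.He := Finite.of_equiv _ e.toEquiv
  obtain ⟨g, -, hg⟩ := h1.syl.exists_cj_le ((TL.two.of_surjective _
    (e.toMonoidHom.comp J).rangeRestrict_surjective)) le_top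
  have hm : ∀ t, ((MulAut.conj g).toMonoidHom.comp (e.toMonoidHom.comp J)) t ∈ φ.range := fun t =>
    hg (mem_map_of_mem _ ⟨t, rfl⟩)
  let α : TL →* TL := (MonoidHom.ofInjective h1.inj).symm.toMonoidHom.comp (MonoidHom.codRestrict _ _ hm)
  have a1 : ∀ t, φ (α t) = g * e (J t) * g⁻¹ := fun t =>
    MonoidHom.apply_ofInjective_symm h1.inj ⟨_, hm t⟩
  have a2 : Injective α := fun s t k => h.inj (e.injective (mul_left_cancel (a := g)
    (mul_right_cancel (b := g⁻¹) (by rw [← a1, ← a1, k]))))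
  have a3 : α TL.z = TL.z := by
    have k : ∀ x, α TL.z * x = x * α TL.z := fun x => by
      obtain ⟨x, rfl⟩ := Finite.surjective_of_injective a2 x
      rw [← map_mul, ← map_mul, TL.zc]
    exact (TL.center_eq _ (k _) (k _) (k _) (k _)).resolve_left fun e =>
      TL.z_ne (a2 (e.trans (map_one α).symm))
  have a4 : ∀ {s t}, IsConj (J s) (J t) → IsConj (φ (α s)) (φ (α t)) := fun k => by
    rw [a1, a1]
    exact (isConj_iff.2 ⟨g, rfl⟩).symm.trans ((e.toMonoidHom.map_isConj k).trans (isConj_iff.2 ⟨g, rfl⟩))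
  have a5 : ∀ t, TL.InB t → t ≠ 1 → IsConj (φ (α (tyr t))) (φ (α t)) := fun t ht h1 =>
    let ⟨_, _, r⟩ := h.typ (TL.B_sq t ht) h1
    a4 r.isConj.symm
  by_cases q : IsConj (φ TL.z) (φ (α TL.t0))
  · have k : ∀ t, TL.InB t ∧ t ≠ 1 ∧ (tyr t = TL.z ∨ tyr t = TL.t0) →
        (828 : ℕ).testBit (TL.kl (α t)) = true := fun t ⟨b1, b2, b3⟩ => (h2 _).1 (by
      have := a5 t b1 b2
      rcases b3 with b3 | b3 <;> rw [b3] at this
      exacts [a3 ▸ this, q.trans this])
    rcases aut_B α a2 with c | c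
    · exact absurd (cnt_le_of a2 (Q := fun t => TL.InA t ∧ (828 : ℕ).testBit (TL.kl t) = true)
        fun t ht => ⟨c t ht.1, k t ht⟩) (by decide +kernel)
    · exact absurd (cnt_le_of a2 (Q := fun t => TL.InB t ∧ (828 : ℕ).testBit (TL.kl t) = true)
        fun t ht => ⟨c t ht.1, k t ht⟩) (by decide +kernel)
  · have k : ∀ t, TL.InB t ∧ t ≠ 1 ∧ tyr t = TL.t0 → ¬ (828 : ℕ).testBit (TL.kl (α t)) = true :=
      fun t ⟨b1, b2, b3⟩ e => q (((h2 _).2 e).trans (b3 ▸ a5 t b1 b2).symm)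
    rcases aut_B α a2 with c | c
    · exact absurd (cnt_le_of a2 (Q := fun t => TL.InA t ∧ ¬ (828 : ℕ).testBit (TL.kl t) = true)
        fun t ht => ⟨c t ht.1, k t ht⟩) (by decide +kernel)
    · exact absurd (cnt_le_of a2 (Q := fun t => TL.InB t ∧ ¬ (828 : ℕ).testBit (TL.kl t) = true)
        fun t ht => ⟨c t ht.1, k t ht⟩) (by decide +kernel)

end CfsgLib.Har
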