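import Cfsg.Agent.Lib.Har.Lbas
import Cfsg.Agent.S2901

/-!
Project HAR (S1918, plans/HAR.md). Holt's theorem (package HOL).
-/

set_option autoImplicit false
set_option Elab.async false
set_option linter.unusedSectionVars false
set_option synthInstance.maxSize 100000
set_option maxRecDepth 100000

namespace CfsgLib.Har

open Subgroup Equiv Function CfsgLib.W2 CfsgLib.W2.TG CfsgLib.Tech CfsgLib.PComp Cfsg CfsgLib.A16
  CfsgLib.SylT

variable {G : Type*} [Group G] [Finite G] {J : TW →* G} {π : G → WB} {ρ σ d x y : G} {r : Fin 4 → G}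
  {W : Subgroup G}

theorem hol_facts : (bW ze : TW) * bW ze = 1 ∧ (bW ze : TW) ≠ 1 ∧ cl (eB ze) = 4 ∧
    (pW (o 15) : TW) * bW (eb 0) ≠ bW (eb 0) * pW (o 15) ∧ (pW (o 1) : TW) * pW (o 1) = 1 ∧
    (pw (o 1) * (swap 1 2 * pw (o 1) * (swap 1 2)⁻¹)) ^ 3 = 1 ∧
    pw (o 1) * (swap 1 2 * pw (o 1) * (swap 1 2)⁻¹) ≠ 1 := by
  decide +kernel

theorem LB.hol_pow (L : LB J π) (hx : x ∈ Cx (J (bW ze))) (k : ℕ) : π (x ^ k) = π x ^ k := by
  induction k with
  | zero => rw [pow_zero, pow_zero, L.one]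
  | succ k ih => rw [pow_succ, pow_succ, L.mul (pow_mem hx k) hx, ih]

theorem hol_n {n m : ℕ} (h : n.factorial = 2 ^ 16 * m) (hm : ¬ 2 ∣ m) : n = 18 ∨ n = 19 := by
  by_contra! hn
  rcases (by omega : n ≤ 17 ∨ 20 ≤ n) with k | k
  · have := (Dvd.intro _ h.symm).trans (Nat.factorial_dvd_factorial k)
    exact absurd this (by decide +kernel)
  · have h1 : 2 ^ 16 * 2 ∣ Nat.factorial 20 := by decide +kernel
    have := h1.trans (Nat.factorial_dvd_factorial k)
    rw [h] at this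
    exact hm (Nat.dvd_of_mul_dvd_mul_left (by positivity) this)

/-- S2901 with `P = M`, `r = z` (2-central by `top`): a conjugate of `z` in `M` is conjugate in `M` into
`T`, has `cl = 4` (`fus`), `hf`. `M = N(S)` is impossible: `S` would be normal in `H`, and `π S` a
normal Sylow subgroup of `WB` (equal to `range iT`, which is not normal). If `G ≅ A_n` then the
2-part `2^15` of `|G|` gives `n ∈ {18, 19}`. -/
theorem LB.holt [IsSimpleGroup G] (L : LB J π) {M : Subgroup G} (hM : Cx (J (bW ze)) ≤ M)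
    (hf : ∀ a : TW, a * a = 1 → cl (iT a) = 4 → ∃ m ∈ M, W2.Rel J m a (bW ze)) :
    M = ⊤ ∨ Nonempty (G ≃* alternatingGroup (Fin 18)) ∨ Nonempty (G ≃* alternatingGroup (Fin 19)) := by
  by_cases hT : M = ⊤
  · exact Or.inl hT
  refine Or.inr ?_
  obtain ⟨z2, z1, cz, nc, t2, t3, t1⟩ := hol_facts
  have zz : J (bW ze) * J (bW ze) = 1 := by rw [← map_mul, z2, map_one]
  have zn : J (bW ze) ≠ 1 := fun e => z1 (L.inj (by rw [e, map_one]))
  have TH : J.range ≤ Cx (J (bW ze)) := by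
    rintro _ ⟨t, rfl⟩
    exact LB.memH t
  have hna : ¬ IsMulCommutative G := fun c => nc (L.inj (by
    rw [map_mul, map_mul]
    exact c.is_comm.comm _ _))
  have oz : orderOf (J (bW ze)) = 2 := orderOf_eq_prime (by rw [pow_two, zz]) zn
  have two : ∀ a : G, a * a = 1 → IsPGroup 2 (zpowers a) := fun a ha =>
    isPGroup_iff_mem.2 fun b hb => by
      obtain ⟨k, rfl⟩ := mem_zpowers_iff.1 hb
      exact ⟨1, by rw [pow_one, ← zpow_natCast, ← zpow_mul, mul_comm, zpow_mul, zpow_natCast, pow_two, ha, one_zpow]⟩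
  rcases Cfsg.Agent.S2901.result hna M hT (J (bW ze)) (hM (TH ⟨_, rfl⟩))
    ⟨oz, L.top.toSylowTop, ⟨_, rfl⟩, fun s hs => mem_Cx.1 (TH hs)⟩ hM
    (fun g hg => by
      have gg : g * J (bW ze) * g⁻¹ * (g * J (bW ze) * g⁻¹) = 1 := by rw [conj_mul, zz]; simp
      obtain ⟨p, hp, a, ea⟩ := (L.top.of_le (TH.trans hM) le_top).exists_conj_mem hg (two _ gg)
      have aa : a * a = 1 := L.inj (by rw [map_mul, ea, conj_mul, gg, map_one]; simp)
      have c4 : cl (iT a) = 4 := by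
        rw [← cz, ← iT_bW]
        refine (L.fus a (bW ze) aa z2).1 (isConj_iff.2 ⟨(p * g)⁻¹, ?_⟩)
        rw [ea]; group
      obtain ⟨m, hm, e⟩ := hf a aa c4
      refine ⟨(m * p)⁻¹, inv_mem (mul_mem hm hp), ?_⟩
      have e' : m * J a * m⁻¹ = J (bW ze) := e
      nth_rewrite 1 [← e']
      rw [ea]; group) with ⟨-, S, e⟩ | ⟨n, h5, ⟨e⟩, -⟩
  · exfalso
    obtain ⟨n, hn, πn⟩ := L.surj (liftB (swap 1 2))
    have o := IsSylowIn.of_sylow_top S
    have key : ∀ a ∈ Cx (J (bW ze)), a * a = 1 → a ∈ (S : Subgroup G) := fun a ha a2 =>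
      zpowers_le.1 (o.le_of_normalizes (two a a2) le_top (zpowers_le.2 (e.le (hM ha))))
    have tt : J (pW (TG.o 1)) * J (pW (TG.o 1)) = 1 := by rw [← map_mul, t2, map_one]
    have tH : J (pW (TG.o 1)) ∈ Cx (J (bW ze)) := LB.memH _
    have cH := mul_mem (mul_mem hn tH) (inv_mem hn)
    have m := mul_mem (key _ tH tt) (key _ cH (by rw [conj_mul, tt]; simp))
    obtain ⟨l, hl⟩ := isPGroup_iff_mem.1 S.isPGroup' _ m
    have := congrArg (fun w => sB (π w)) hl
    simp only [L.hol_pow (mul_mem tH cH), L.one, L.mul tH cH, L.mul (mul_mem hn tH) (inv_mem hn),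
      L.mul hn tH, L.inv hn, L.sec, πn, iT_pW, map_pow, map_mul, map_inv, map_one] at this
    exact t1 ((pow_eq_one_iff_of_coprime (Nat.Coprime.pow_left l (by decide))).1 ⟨this, t3⟩)
  · have : Nontrivial (Fin n) := Fin.nontrivial_iff_two_le.2 (by omega)
    have h1 := two_mul_nat_card_alternatingGroup (α := Fin n)
    rw [← Nat.card_congr e.toEquiv, ← J.range.card_mul_index,
      ← Nat.card_congr (MonoidHom.ofInjective L.inj).toEquiv, card_TW, Nat.card_perm, Nat.card_fin] at h1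
    rcases hol_n (m := J.range.index) (by rw [← h1]; ring)
      (by rw [← relIndex_top_right]; exact L.top.not_dvd) with rfl | rfl
    · exact Or.inl ⟨e⟩
    · exact Or.inr ⟨e⟩

end CfsgLib.Har
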