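import Cfsg.Agent.Lib.Har.Lbas
import Cfsg.Agent.Lib.Gold.Tools

/-!
Project HAR (S1918, plans/HAR.md). `[W, E⁰] ≤ W^d` (package HYP1).
-/

set_option autoImplicit false
set_option Elab.async false
set_option linter.unusedSectionVars false
set_option synthInstance.maxSize 100000
set_option maxRecDepth 100000

namespace CfsgLib.Har

open Subgroup Equiv Function CfsgLib.W2 CfsgLib.W2.TG CfsgLib.Tech CfsgLib.PComp Cfsg CfsgLib.A16
  CfsgLib.SylT

variable {G : Type*} [Group G] [Finite G] {J : TW →* G} {π : G → WB} {ρ σ d x y : G} {r : Fin 4 → G}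
  {W : Subgroup G}

namespace Hyp1

noncomputable section

/-- the group `⟨t₀, t₁⟩ E⁰` -/
def fD : EG →* TW := homOf gE_gen (fun e => bW (o (Nat.land e.v 3)) * tE (o (Nat.land e.v 252)))
  (by decide +kernel) (by decide +kernel)

/-- the action of `d` -/
def td : EG →* EG := homOf gE_gen (fun e => if bit e.v 0 then e * eb 1 else e)
  (by decide +kernel) (by decide +kernel)

/-- all three blocks are nonzero and the first block is `t₀` -/
abbrev Sd (s : EG) : Prop :=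
  Nat.land s.v 3 = 1 ∧ Nat.land s.v 12 ≠ 0 ∧ Nat.land s.v 48 ≠ 0 ∧ Nat.land s.v 192 ≠ 0

theorem gE_eb : ∀ g ∈ gE, ∃ q, g = eb q := by decide +kernel

theorem td_td : ∀ e, td (td e) = e := by decide +kernel

theorem fD_d : ∀ q : Fin 8, (fD (eb q) = bW (eb q) ∧ fD (td (eb q)) = bW (tau1 (eb q))) ∨
    (2 ≤ q ∧ fD (eb q) = tE (eb q) ∧ fD (td (eb q)) = tE (eb q)) := by decide +kernel

theorem fD_r : ∀ i : Fin 4, i ≠ 0 → ∀ q : Fin 8,
    (fD (eb q) = bW (eb 0) ∧ fD (sV i (eb q)) = bW (eb 0)) ∨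
    (fD (eb q) = bW (eb 0) * tE (ue 0) ∧ fD (sV i (eb q)) = bW (eb 0) * tE (sV i (ue 0))) ∨
    (fD (eb q) = tE (eb q) ∧ fD (sV i (eb q)) = tE (sV i (eb q))) := by decide +kernel

theorem fD_EZ : ∀ e : EG, Nat.land e.v 3 = 0 → fD e = tE e ∧ td e = e := by decide +kernel

theorem fD_u : fD ze = bW ze ∧ ∀ i, fD (ue i) = bW (ue i) := by decide +kernel

theorem ez_prod : ∀ e : EG, Nat.land e.v 3 = 0 → ∃ s, Sd s ∧ Sd (s * e) := by decide +kernel

theorem sd_word : ∀ s, Sd s → ∃ i j k : Fin 3,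
    (sV 1)^[i] ((sV 2)^[j] ((sV 3)^[k] (td s))) = ze := by decide +kernel

end

omit [Finite G] in
theorem rel_all {ψ : EG →* G} {g : G} (a : EG →* EG) (h : ∀ q, W2.Rel ψ g (eb q) (a (eb q))) (e : EG) :
    W2.Rel ψ g e (a e) :=
  ind_of_genB gE_gen (P := fun e => W2.Rel ψ g e (a e)) (by rw [map_one]; exact W2.Rel.one)
    (fun b ih k hk => by
      obtain ⟨q, rfl⟩ := gE_eb k hk
      rw [map_mul]
      exact ih.mul (h q)) e

theorem norm_of_rel {ψ : EG →* G} {g : G} {a : EG → EG} (h : ∀ e, W2.Rel ψ g e (a e)) :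
    g ∈ normalizer (ψ.range : Set G) :=
  mem_normalizer_of_forall (by rintro _ ⟨e, rfl⟩; exact ⟨_, Eq.symm (h e)⟩)

omit [Finite G] in
theorem rel_d (hr : RD J r d) (e : EG) : W2.Rel (J.comp fD) d e (td e) :=
  rel_all td (fun q => by
    change d * J _ * d⁻¹ = J _
    rcases fD_d q with ⟨h1, h2⟩ | ⟨h0, h1, h2⟩ <;> rw [h1, h2]
    exacts [hr.dB _, hr.dE q h0]) e

omit [Finite G] in
theorem rel_r (hr : RD J r d) {i : Fin 4} (hi : i ≠ 0) (e : EG) :
    W2.Rel (J.comp fD) (r i) e (sV i e) :=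
  rel_all (sV i).toMonoidHom (fun q => by
    change W2.Rel J (r i) (fD (eb q)) (fD (sV i (eb q)))
    rcases fD_r i hi q with ⟨h1, h2⟩ | ⟨h1, h2⟩ | ⟨h1, h2⟩ <;> rw [h1, h2]
    exacts [hr.ct i hi, W2.Rel.mul (hr.ct i hi) (hr.act i _), hr.act i _]) e

/-- conjugate to `z` by an element normalizing `W` and `D` -/
def Good (J : TW →* G) (W : Subgroup G) (s : EG) : Prop :=
  ∃ n ∈ normalizer (W : Set G), n ∈ normalizer ((J.comp fD).range : Set G) ∧
    W2.Rel (J.comp fD) n s ze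

theorem good_iter (hr : RD J r d) (hW : SW J W) {i : Fin 4} (hi : i ≠ 0) (k : ℕ) :
    ∀ s, Good J W ((sV i)^[k] s) → Good J W s := by
  induction k with
  | zero => exact fun s h => h
  | succ k ih =>
    intro s h
    obtain ⟨n, h1, h2, h3⟩ := ih _ h
    exact ⟨n * r i, mul_mem h1 (hW.nE (norm_of_rel (hr.act i))),
      mul_mem h2 (norm_of_rel (rel_r hr hi)), h3.comp (rel_r hr hi s)⟩

theorem good_sd (hr : RD J r d) (hW : SW J W) {s : EG} (hs : Sd s) : Good J W (td s) := by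
  obtain ⟨i, j, k, h⟩ := sd_word s hs
  refine good_iter hr hW (i := 3) (by decide) k _ (good_iter hr hW (i := 2) (by decide) j _
    (good_iter hr hW (i := 1) (by decide) i _ ?_))
  rw [h]
  exact ⟨1, one_mem _, one_mem _, by simp [W2.Rel]⟩

end Hyp1

open Hyp1 in
/-- `Gold.commutator_le_of_hyperplanes` with `D = ⟨t₀, t₁⟩ E⁰ = J (AI 14)`. For a hyperplane `D₀ ⊉ E⁰`
choose `s = t₀ e₁ e₂ e₃ ∈ D₀`, `e_i ≠ 1` in block `i`. `X = C_W(D₀)` is normalized by `D`; `d`
normalizes `D`, `d⁻¹ s d = u₀ e₁ e₂ e₃`; a product `n` of powers of `r 1, r 2, r 3` normalizes `D` and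
`W` (`nE`) and maps `u₀ e₁ e₂ e₃` to `z`; `n d⁻¹ X d n⁻¹ ≤ C(z)` is normalized by `D ∋ u_i`, so it lies in
`O(H) ≤ W` (`odd_le`). Hence `X ≤ d W d⁻¹`; if `E⁰ ≤ D₀` the commutator is trivial; `E⁰` normalizes
`d W d⁻¹`. -/
theorem SW.hyp1 (L : LB J π) (hr : RD J r d) (hW : SW J W) : ⁅W, EO J⁆ ≤ cj d W := by
  have hDH : (J.comp fD).range ≤ Cx (J (bW ze)) := by
    rintro _ ⟨e, rfl⟩
    exact LB.memH _
  have hDW : (J.comp fD).range ≤ normalizer (W : Set G) := hDH.trans hW.nH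
  have hsq : ∀ x ∈ (J.comp fD).range, x * x = 1 := by
    rintro _ ⟨e, rfl⟩
    rw [← map_mul, EG.sq, map_one]
  have hEO : ∀ x ∈ EO J, ∃ e ∈ EZ, x = (J.comp fD) e ∧ td e = e := by
    rintro _ ⟨e, he, rfl⟩
    exact ⟨e, he, congrArg J (fD_EZ e he).1.symm, (fD_EZ e he).2⟩
  have hED : EO J ≤ (J.comp fD).range := fun x hx => by
    obtain ⟨e, -, h, -⟩ := hEO x hx
    exact ⟨e, h.symm⟩
  have hd' : ∀ e, W2.Rel (J.comp fD) d⁻¹ e (td e) := fun e => by
    have := (rel_d hr (td e)).symm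
    rwa [td_td] at this
  have hEd : EO J ≤ normalizer ((cj d W : Subgroup G) : Set G) := fun x hx => by
    obtain ⟨e, -, h, h'⟩ := hEO x hx
    have h1 : d⁻¹ * x * d⁻¹⁻¹ = x := by
      have := hd' e
      rw [h'] at this
      rw [h]
      exact this
    rw [inv_inv] at h1
    rw [← cj_normalizer, mem_cj, h1]
    exact hDW (hED hx)
  refine Gold.commutator_le_of_hyperplanes hsq hED hW.odd hDW fun B hB hi => ?_
  have hi' : (B.comap (J.comp fD)).index = 2 := by rw [index_comap]; exact hi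
  by_cases hs : ∃ s, Sd s ∧ (J.comp fD) s ∈ B
  swap
  · push Not at hs
    have hEB : EO J ≤ B := fun x hx => by
      obtain ⟨e, he, rfl, -⟩ := hEO x hx
      obtain ⟨s, h1, h2⟩ := ez_prod e he
      have h3 := (mul_mem_iff_of_index_two hi' (a := s) (b := s * e)).2
        (iff_of_false (hs s h1) (hs _ h2))
      rwa [← mul_assoc, EG.sq, one_mul] at h3
    rw [commutator_eq_bot_iff_le_centralizer.2 (inf_le_right.trans (centralizer_le hEB))]
    exact bot_le
  obtain ⟨s, hs, hsB⟩ := hs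
  obtain ⟨n, n1, n2, n3⟩ := good_sd hr hW hs
  set X := W ⊓ centralizer (B : Set G) with hX
  have hDX : (J.comp fD).range ≤ normalizer (X : Set G) :=
    Coprime.le_normalizer_inf hDW fun e he => le_normalizer
      (show e ∈ centralizer (B : Set G) from fun b hb => Gold.mul_comm_of_elem hsq (hB hb) he)
  have hg : n * d⁻¹ ∈ normalizer ((J.comp fD).range : Set G) := mul_mem n2 (norm_of_rel hd')
  have hz : n * d⁻¹ * (J.comp fD) s * (n * d⁻¹)⁻¹ = J (bW ze) :=
    Eq.trans (n3.comp (hd' s)) (congrArg J fD_u.1)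
  have hYH : cj (n * d⁻¹) X ≤ Cx (J (bW ze)) := by
    rw [← hz, Cx, ← cj_centralizer_singleton]
    exact cj_mono _ (inf_le_right.trans (centralizer_le (Set.singleton_subset_iff.2 hsB)))
  have hY := L.odd_le (Y := cj (n * d⁻¹) X)
    (by rw [card_cj]; exact Gold.odd_of_le hW.odd inf_le_left) 1 fun i =>
      ⟨J (bW (ue i)), LB.memH _, by
        rw [← cj_normalizer]
        refine cj_mono _ hDX ?_
        rw [mem_normalizer_iff_cj.1 hg]
        exact ⟨ue i, congrArg J (fD_u.2 i)⟩, by rw [L.sec, iT_bW, map_one]; simp⟩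
  have hYW : cj n (cj d⁻¹ X) ≤ cj n W := by
    rw [← cj_mul, mem_normalizer_iff_cj.1 n1]
    exact (le_inf le_rfl hYH).trans (hY.trans hW.th)
  have hXW : X ≤ cj d W := by
    have := cj_mono d ((cj_le_cj_iff n).1 hYW)
    rwa [cj_cj_inv] at this
  exact (commutator_mono hXW le_rfl).trans (Coprime.commutator_le_of_le_normalizer hEd)

end CfsgLib.Har
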