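import Cfsg.Agent.Lib.Har.Lbas

/-!
Project HAR (S1918, plans/HAR.md). The Sylow subgroup of `C(E⁰)` (package HYP2).
-/

set_option autoImplicit false
set_option Elab.async false
set_option linter.unusedSectionVars false
set_option synthInstance.maxSize 100000
set_option maxRecDepth 100000

namespace CfsgLib.Har

open Subgroup Equiv Function CfsgLib.W2 CfsgLib.W2.TG CfsgLib.Tech CfsgLib.PComp Cfsg CfsgLib.A16
  CfsgLib.SylT

variable {G : Type*} [Group G] [Finite G] {J : TW →* G} {π : G → WB} {ρ σ d x y : G} {r : Fin 4 → G}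
  {W : Subgroup G}

/-- the dihedral group on the block `0` -/
noncomputable def hyp2D (k : Fin 8) : TW := bW (o (k.val % 4)) * if 4 ≤ k.val then tE (eb 0) else 1

theorem hyp2_facts : hyp2D 0 = 1 ∧ (∀ k, (∃ l, hyp2D k * bW (eb 0) = hyp2D l) ∧
      (∃ l, hyp2D k * tE (eb 0) = hyp2D l) ∧
      (hyp2D k * hyp2D k = 1 ∨ hyp2D k * hyp2D k = bW (ue 0))) ∧
    bW (eb 0) * tE (eb 0) * (bW (eb 0) * tE (eb 0)) = bW (ue 0) ∧ bW (ue 0) ≠ 1 ∧
    bW (ue 0) * tE (o 252) = bW ze ∧ Nat.land (o 252 : EG).v 3 = 0 ∧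
    sV 0 (ue 0) = eb 0 ∧ sV 0 (eb 0) = eb 0 * ue 0 ∧ tau1 (eb 0) = ue 0 ∧ tau1 (ue 0) = eb 0 := by
  decide +kernel

theorem hyp2_inf : ∀ e : EG, Nat.land e.v 3 = 0 → (∀ k, tE e = hyp2D k → e = 1) ∧
    tE e * bW (eb 0) = bW (eb 0) * tE e := by
  decide +kernel

theorem hyp2_mem {w : TW} (hw : w ∈ closure {bW (eb 0), tE (eb 0)}) : ∃ k, w = hyp2D k := by
  have ht : (bW (eb 0))⁻¹ = bW (eb 0) :=
    inv_eq_of_mul_eq_one_right (by rw [← map_mul, EG.sq, map_one])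
  have hx : (tE (eb 0))⁻¹ = tE (eb 0) :=
    inv_eq_of_mul_eq_one_right (by rw [← map_mul, EG.sq, map_one])
  have key : ∀ w : TW, (∃ k, w = hyp2D k) → ∀ y ∈ ({bW (eb 0), tE (eb 0)} : Set TW),
      ∃ k, w * y = hyp2D k := by
    rintro _ ⟨k, rfl⟩ y (rfl | rfl)
    · exact (hyp2_facts.2.1 k).1
    · exact (hyp2_facts.2.1 k).2.1
  induction hw using closure_induction_right with
  | one => exact ⟨0, hyp2_facts.1.symm⟩
  | mul_right w hw y hy ih => exact key w ih y hy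
  | mul_inv_cancel w hw y hy ih =>
    have : y⁻¹ = y := by
      rcases hy with rfl | rfl
      · exact ht
      · exact hx
    rw [this]
    exact key w ih y hy

theorem hyp2_cent : closure {bW (eb 0), tE (eb 0)} ≤ centralizer (EZ.map tE : Set TW) := by
  refine (closure_le _).2 ?_
  rintro y (rfl | rfl) _ ⟨e, he, rfl⟩
  · exact (hyp2_inf e he).2
  · rw [← map_mul, ← map_mul, mul_comm]

theorem hyp2_cent' : EZ.map tE ⊔ closure {bW (eb 0), tE (eb 0)} ≤ centralizer (EZ.map tE : Set TW) := by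
  refine sup_le ?_ hyp2_cent
  rintro _ ⟨a, -, rfl⟩ _ ⟨e, -, rfl⟩
  rw [← map_mul, ← map_mul, mul_comm]

theorem hyp2_sq {w : TW} (hw : w ∈ EZ.map tE ⊔ closure {bW (eb 0), tE (eb 0)}) :
    w * w = 1 ∨ w * w = bW (ue 0) := by
  have hn : closure {bW (eb 0), tE (eb 0)} ≤ normalizer (EZ.map tE : Set TW) :=
    hyp2_cent.trans (centralizer_le_normalizer _)
  have h1 : w ∈ ((EZ.map tE ⊔ closure {bW (eb 0), tE (eb 0)} : Subgroup TW) : Set TW) := hw
  rw [coe_mul_of_right_le_normalizer_left _ _ hn] at h1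
  obtain ⟨a, ha, c, hc, rfl⟩ := h1
  have h2 : a * c = c * a := hyp2_cent hc a ha
  obtain ⟨e, -, rfl⟩ := ha
  have h3 : tE e * c * (tE e * c) = c * c := by
    calc tE e * c * (tE e * c) = c * (tE e * tE e) * c := by
          nth_rw 1 [h2]
          group
      _ = c * c := by rw [← map_mul, EG.sq, map_one, mul_one]
  obtain ⟨k, rfl⟩ := hyp2_mem hc
  change tE e * hyp2D k * (tE e * hyp2D k) = 1 ∨ tE e * hyp2D k * (tE e * hyp2D k) = _
  rw [h3]
  exact (hyp2_facts.2.1 k).2.2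

theorem hyp2_map (J : TW →* G) : closure {J (bW (eb 0)), J (tE (eb 0))} =
    (closure {bW (eb 0), tE (eb 0)}).map J := by
  rw [MonoidHom.map_closure, Set.image_pair]

theorem hyp2_map' (J : TW →* G) : EO J ⊔ closure {J (bW (eb 0)), J (tE (eb 0))} =
    (EZ.map tE ⊔ closure {bW (eb 0), tE (eb 0)}).map J := by
  rw [Subgroup.map_sup, hyp2_map, map_map]

theorem RD.dc (L : LB J π) (hr : RD J r d) :
    DC (J (bW (eb 0))) (J (tE (eb 0))) (J (bW (ue 0))) (r 0) d := by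
  obtain ⟨-, -, f1, f2, -, -, f3, f4, f5, f6⟩ := hyp2_facts
  have hu : tE (ue 0) = bW (ue 0) := (tE_facts.1 0).2
  refine ⟨by rw [← map_mul, ← map_mul, EG.sq, map_one, map_one],
    by rw [← map_mul, ← map_mul, EG.sq, map_one, map_one],
    by rw [← map_mul, ← map_mul, f1], by rw [← map_mul, ← map_mul, EG.sq, map_one, map_one],
    fun h => f2 (L.inj (h.trans (map_one J).symm)), ?_, ?_, ?_, ?_⟩
  · have h := hr.act 0 (ue 0)
    rw [f3] at h
    rw [← hu]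
    exact h
  · have h := hr.act 0 (eb 0)
    rw [f4] at h
    rw [← hu, ← map_mul, ← map_mul]
    exact h
  · have h := hr.dB (eb 0)
    rw [f5] at h
    exact h
  · have h := hr.dB (ue 0)
    rw [f6] at h
    exact h

theorem EO_inf (L : LB J π) : EO J ⊓ closure {J (bW (eb 0)), J (tE (eb 0))} = ⊥ := by
  rw [eq_bot_iff, hyp2_map]
  rintro _ ⟨⟨e, he, rfl⟩, w, hw, h⟩
  obtain ⟨k, rfl⟩ := hyp2_mem hw
  have h1 : e = 1 := (hyp2_inf e he).1 k (L.inj h).symm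
  rw [h1, map_one]
  exact one_mem _

/-- `D = E⁰ × ⟨t₀, x₀⟩`. If not Sylow, `exists_y` gives `g ∈ C(E⁰) ⊓ N(D) ∖ D` with `D⟨g⟩` a 2-group;
`u₀` is the only nontrivial square in `D`, so `g` centralizes `u₀` and `z = u₀ u₁ u₂ u₃`;
`π g ∈ π D` (`cent_EZ`), so `g ∈ D` (`eq_one`). -/
theorem LB.sylC (L : LB J π) : IsSylowIn 2 (EO J ⊔ closure {J (bW (eb 0)), J (tE (eb 0))})
    (centralizer (EO J : Set G)) := by
  obtain ⟨-, -, f1, f2, f3, f4, -⟩ := hyp2_facts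
  rw [hyp2_map']
  set D0 : Subgroup TW := EZ.map tE ⊔ closure {bW (eb 0), tE (eb 0)} with hD0
  have hD2 : IsPGroup 2 (D0.map J) := (two_TW.to_subgroup D0).map J
  have hle : D0.map J ≤ centralizer (EO J : Set G) := by
    rintro _ ⟨w, hw, rfl⟩ _ ⟨e, he, rfl⟩
    change J (tE e) * J w = J w * J (tE e)
    rw [← map_mul, ← map_mul, hyp2_cent' hw (tE e) ⟨e, he, rfl⟩]
  by_contra hn
  obtain ⟨y, hyC, hyN, hyD, hyy⟩ := exists_y hD2 hle hn
  have hcE : ∀ e ∈ EZ, J (tE e) * y = y * J (tE e) := fun e he => hyC _ ⟨e, he, rfl⟩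
  have htx : bW (eb 0) * tE (eb 0) ∈ D0 :=
    mem_sup_right (mul_mem (subset_closure (Or.inl rfl)) (subset_closure (Or.inr rfl)))
  have hu : y * J (bW (ue 0)) = J (bW (ue 0)) * y := by
    obtain ⟨w, hw, e⟩ := (mem_normalizer_iff.1 hyN _).1 (mem_map_of_mem J htx)
    have h1 : J (w * w) = y * J (bW (ue 0)) * y⁻¹ := by
      rw [map_mul, e, ← f1, map_mul J (_ * _)]
      group
    rcases hyp2_sq hw with h | h
    · rw [h, map_one] at h1
      have h2 : J (bW (ue 0)) = J 1 := by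
        rw [map_one]
        calc J (bW (ue 0)) = y⁻¹ * (y * J (bW (ue 0)) * y⁻¹) * y := by group
          _ = 1 := by rw [← h1]; group
      exact absurd (L.inj h2) f2
    · rw [h] at h1
      exact mul_inv_eq_iff_eq_mul.1 h1.symm
  have hz : y ∈ Cx (J (bW ze)) := by
    rw [mem_Cx, ← f3, map_mul, ← mul_assoc, hu, mul_assoc, mul_assoc, hcE _ f4]
  obtain ⟨w, hw, e⟩ := cent_EZ (w := π y) fun a ha => by
    rw [← L.sec, ← L.mul hz (LB.memH _), ← L.mul (LB.memH _) hz, hcE a ha]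
  have hc : y * (J w)⁻¹ ∈ Cx (J (bW ze)) := mul_mem hz (inv_mem (LB.memH _))
  have hp : π (y * (J w)⁻¹) = 1 := by
    rw [L.mul hz (inv_mem (LB.memH _)), L.inv (LB.memH _), L.sec, e, mul_inv_cancel]
  have hw' : J w ∈ D0.map J := mem_map_of_mem J hw
  have hsq : y * (J w)⁻¹ * (y * (J w)⁻¹) ∈ D0.map J := by
    have h2 : y * (J w)⁻¹ * (y * (J w)⁻¹) = y * (J w)⁻¹ * y⁻¹ * (y * y) * (J w)⁻¹ := by
      group
    rw [h2]
    exact mul_mem (mul_mem ((mem_normalizer_iff.1 hyN _).1 (inv_mem hw')) hyy) (inv_mem hw')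
  obtain ⟨k, hk⟩ := hD2 ⟨_, hsq⟩
  have hk' : (y * (J w)⁻¹) ^ 2 ^ (k + 1) = 1 := by
    rw [pow_succ', pow_mul, pow_two]
    exact congrArg Subtype.val hk
  have h1 := L.eq_one hc hk' hp
  exact hyD (mul_inv_eq_one.1 h1 ▸ hw')

end CfsgLib.Har
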