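import Cfsg.Agent.Lib.Har.L7a

/-!
Project HAR (S1918, plans/HAR.md). The relative form of `l7a` (package L7R).
-/

set_option autoImplicit false
set_option Elab.async false
set_option linter.unusedSectionVars false
set_option synthInstance.maxSize 100000
set_option maxRecDepth 100000

namespace CfsgLib.Har

open Subgroup Equiv Function CfsgLib.W2 CfsgLib.W2.TG CfsgLib.Tech CfsgLib.PComp Cfsg CfsgLib.A16
  CfsgLib.SylT

theorem l7r_quot.{v} {X : Type v} [Group X] [Finite X] {Z : Subgroup X} (hZ : Z ≤ center X) :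
    ∃ (Q : Type v) (_ : Group Q) (_ : Finite Q) (f : X →* Q), Surjective f ∧ pPrimeCore 2 Q = ⊥ ∧
      ∀ g, f g = 1 ↔ ∃ a ∈ Z, a⁻¹ * g ∈ pPrimeCore 2 X := by
  let p := QuotientGroup.mk' (pPrimeCore 2 X)
  have sp : Surjective p := QuotientGroup.mk'_surjective _
  have hc : Z.map p ≤ center _ := by
    rintro _ ⟨a, ha, rfl⟩
    refine mem_center_iff.2 fun g => ?_
    obtain ⟨g, rfl⟩ := sp g
    rw [← map_mul, mem_center_iff.1 (hZ ha) g, map_mul]
  have : (Z.map p).Normal := ⟨fun a ha g => by rwa [mem_center_iff.1 (hc ha) g, mul_inv_cancel_right]⟩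
  refine ⟨_ ⧸ Z.map p, inferInstance, inferInstance, (QuotientGroup.mk' _).comp p,
    (QuotientGroup.mk'_surjective _).comp sp, le_bot_iff.1 fun g hg => ?_, fun g => ?_⟩
  · obtain ⟨g, rfl⟩ := QuotientGroup.mk'_surjective _ g
    have := comap_pPrimeCore_le_of_central (p := 2) (QuotientGroup.mk' (Z.map p))
      (by rwa [QuotientGroup.ker_mk']) hg
    rwa [Core.pPrimeCore_quotient_pPrimeCore, bot_sup_eq] at this
  · exact (QuotientGroup.eq_one_iff _).trans (exists_congr fun a => and_congr_right fun _ => QuotientGroup.eq)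

/-- `C̄ = C / (Z O)`, `O = O(C)`; `O(C̄) = 1` (the preimage is `Z × odd`, `cent_syl`); the images satisfy
`DC` (`ū ≠ 1` by `hd`) and `⟨t̄, x̄⟩` is Sylow. Apply `l7a` to `Ȳ ≅ Y / O`. Elements of odd order of
`Y Z = Y × Z` lie in `Y`, those of `Z O` lie in `O`. In the second case `d' = x (d x d⁻¹) x` normalizes
`Y`, and `d d'⁻¹` centralizes `t` and `u` (`x t x = t u`), so `d ∈ N(Y)` by `hC`. -/
theorem l7r {G : Type*} [Group G] [Finite G] {C Z Y : Subgroup G} {t x u ρ d : G} (h : DC t x u ρ d)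
    (hm : t ∈ C ∧ x ∈ C ∧ ρ ∈ C ∧ d ∈ C) (hZ : Z ≤ C) (hc : ∀ a ∈ Z, ∀ c ∈ C, a * c = c * a)
    (hd : Z ⊓ closure {t, x} = ⊥) (hs : IsSylowIn 2 (Z ⊔ closure {t, x}) C) (hY : Y ≤ C)
    (ho : Odd (Nat.card Y)) (hO : opOf 2 C ≤ Y) (hx : x ∈ normalizer (Y : Set G))
    (hρ : ρ ∈ normalizer (Y : Set G)) (hC : C ⊓ Cx t ⊓ Cx u ≤ normalizer (Y : Set G)) :
    d ∈ normalizer (Y : Set G) ∨ ((opOf 2 C).relIndex Y = 3 ∧
      ∀ y ∈ Y, t * y * t⁻¹ * y ∈ opOf 2 C ∧ x * y * x⁻¹ * y⁻¹ ∈ opOf 2 C) := by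
  obtain ⟨tC, xC, ρC, dC⟩ := hm
  have tS : t ∈ closure {t, x} := subset_closure (by simp)
  have xS : x ∈ closure {t, x} := subset_closure (by simp)
  have uS : u ∈ closure {t, x} := h.tx ▸ mul_mem (mul_mem tS xS) (mul_mem tS xS)
  have uC : u ∈ C := hs.le (mem_sup_right uS)
  have ti : t⁻¹ = t := inv_eq_of_mul_eq_one_right h.tt
  have xi : x⁻¹ = x := inv_eq_of_mul_eq_one_right h.xx
  have ui : x * t * x * t = u := by
    rw [← inv_eq_of_mul_eq_one_right h.uu, ← h.tx]; simp only [mul_inv_rev, ti, xi, mul_assoc]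
  have xt : x * t * x⁻¹ = t * u := by
    rw [← h.tx, xi, ← mul_assoc t, ← mul_assoc t, h.tt, one_mul, ← mul_assoc]
  have xu : x * u * x⁻¹ = u := by
    calc _ = x * (t * x * (t * x)) * x⁻¹ := by rw [h.tx]
      _ = _ := by rw [← ui]; group
  have tu : t * u = u * t := by rw [← xt, ← ui, xi, mul_assoc _ t t, h.tt, mul_one]
  have tY : t ∈ normalizer (Y : Set G) := hC ⟨⟨tC, mem_Cx.2 rfl⟩, mem_Cx.2 tu⟩
  obtain ⟨Q, _, _, f, sf, hQ, kf⟩ := l7r_quot (X := C) (Z := Z.subgroupOf C) fun a ha =>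
    mem_center_iff.2 fun g => Subtype.ext (hc a ha g g.2).symm
  have K : ∀ {W : Subgroup G}, opOf 2 C ≤ W → ∀ g y : C, y.1 ∈ W → f g = f y → Odd (orderOf g.1) → g.1 ∈ W :=
    fun {W} hW g y hy e ho => by
      obtain ⟨a, ha, h1⟩ := (kf (y⁻¹ * g)).1 (by rw [map_mul, e, map_inv, inv_mul_cancel])
      replace ha : (a : G) ∈ Z := ha
      obtain ⟨k, hk⟩ := isPGroup_iff_mem.1 hs.pgroup a (mem_sup_left ha)
      have h2 : (a : G)⁻¹ * g ∈ W := by
        have := mul_mem hy (hW (mem_opOf_iff.2 h1))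
        rwa [show (y : G) * ((a⁻¹ * (y⁻¹ * g) : C) : G) = (y : G) * (a : G)⁻¹ * (y : G)⁻¹ * g by push_cast; group,
          ← hc _ (inv_mem ha) _ y.2, mul_inv_cancel_right] at this
      refine mem_of_coprime_pow (a := 2 ^ k) (b := orderOf g.1) ((Nat.coprime_two_left.2 ho).pow_left k) ?_
        (pow_orderOf_eq_one g.1 ▸ one_mem W)
      have := pow_mem h2 (2 ^ k)
      rwa [Commute.mul_pow (hc _ (inv_mem ha) _ g.2), inv_pow, hk, inv_one, one_mul] at this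
  have oY : ∀ {y}, y ∈ Y → Odd (orderOf y) := fun hy => ho.of_dvd_nat (orderOf_dvd_natCard _ hy)
  have nY : ∀ g : C, g.1 ∈ normalizer (Y : Set G) → f g ∈ normalizer ((Y.subgroupOf C).map f : Set Q) :=
    fun g hg => mem_normalizer_of_forall (by
      rintro _ ⟨y, hy, rfl⟩
      exact ⟨g * y * g⁻¹, conj_mem_of_mem_normalizer (x := y.1) hg hy, by simp⟩)
  have E : ∀ {a b : C}, a.1 = b.1 → f a = f b := fun e => congrArg f (Subtype.ext e)
  rcases l7a hQ (t := f ⟨t, tC⟩) (x := f ⟨x, xC⟩) (u := f ⟨u, uC⟩) (ρ := f ⟨ρ, ρC⟩) (d := f ⟨d, dC⟩)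
    ⟨by rw [← map_mul, ← map_one f]; exact E h.tt, by rw [← map_mul, ← map_one f]; exact E h.xx,
      by rw [← map_mul, ← map_mul]; exact E h.tx, by rw [← map_mul, ← map_one f]; exact E h.uu, fun e => by
        obtain ⟨a, ha, h1⟩ := (kf _).1 e
        have h2 : (a : G)⁻¹ * u ∈ (Z ⊔ closure {t, x}) ⊓ opOf 2 C :=
          mem_inf.2 ⟨mul_mem (mem_sup_left (inv_mem ha)) (mem_sup_right uS), mem_opOf_iff.2 h1⟩
        rw [isPGroup_inf_opOf hs.pgroup, mem_bot, inv_mul_eq_one] at h2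
        exact h.u1 (mem_bot.1 (hd ▸ mem_inf.2 ⟨h2 ▸ ha, uS⟩)),
      by rw [← map_inv, ← map_mul, ← map_mul]; exact E h.r1,
      by rw [← map_inv, ← map_mul, ← map_mul, ← map_mul]; exact E h.r2,
      by rw [← map_inv, ← map_mul, ← map_mul]; exact E h.d1,
      by rw [← map_inv, ← map_mul, ← map_mul]; exact E h.d2⟩
    (by
      have := CFun.sylIn_map_top (IsSylowIn.of_sylow_top hs.toSylow) sf
      rw [hs.coe_toSylow] at this
      convert this using 1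
      refine le_antisymm ((closure_le _).2 ?_) (map_le_iff_le_comap.2 fun g hg => ?_)
      · rintro _ (rfl | rfl)
        exacts [⟨_, mem_sup_right tS, rfl⟩, ⟨_, mem_sup_right xS, rfl⟩]
      · obtain ⟨g', h1, h2⟩ := (sup_le (c := ((closure {f ⟨t, tC⟩, f ⟨x, xC⟩}).comap f).map C.subtype)
          (fun a ha => ⟨⟨a, hZ ha⟩, by
            rw [SetLike.mem_coe, mem_comap, (kf ⟨a, hZ ha⟩).2 ⟨⟨a, hZ ha⟩, ha, by simp⟩]; exact one_mem _, rfl⟩)
          ((closure_le _).2 (by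
            rintro _ (rfl | rfl)
            exacts [⟨⟨_, tC⟩, subset_closure (by simp), rfl⟩, ⟨⟨_, xC⟩, subset_closure (by simp), rfl⟩]))) hg
        exact Subtype.ext h2 ▸ h1)
    (Y := (Y.subgroupOf C).map f) (ho.of_dvd_nat ((card_map_dvd _ _).trans (by rw [Core.card_subgroupOf_of_le hY])))
    (nY _ tY) (nY _ hx) (nY _ hρ) with ⟨h1, h2⟩ | h1
  · refine Or.inr ⟨?_, fun y hy => ⟨?_, ?_⟩⟩
    · rw [← h1, ← relIndex_ker, ← relIndex_subgroupOf hY, ← inf_relIndex_right f.ker]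
      congr 1
      refine le_antisymm (fun g hg => ⟨(kf g).2 ⟨1, one_mem _, by simpa using mem_opOf_iff.1 hg⟩, hO hg⟩)
        fun g hg => K le_rfl g 1 (one_mem _) (hg.1.trans (map_one f).symm) (oY hg.2)
    · refine K le_rfl (⟨t, tC⟩ * ⟨y, hY hy⟩ * (⟨t, tC⟩ : C)⁻¹ * ⟨y, hY hy⟩) 1 (one_mem _) ?_
        (oY (mul_mem (conj_mem_of_mem_normalizer tY hy) hy))
      rw [map_mul, map_mul, map_mul, map_inv, (h2 _ ⟨⟨y, hY hy⟩, hy, rfl⟩).1, inv_mul_cancel, map_one]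
    · refine K le_rfl (⟨x, xC⟩ * ⟨y, hY hy⟩ * (⟨x, xC⟩ : C)⁻¹ * (⟨y, hY hy⟩ : C)⁻¹) 1 (one_mem _) ?_
        (oY (mul_mem (conj_mem_of_mem_normalizer hx hy) (inv_mem hy)))
      rw [map_mul, map_mul, map_mul, map_inv, (h2 _ ⟨⟨y, hY hy⟩, hy, rfl⟩).2, map_inv, mul_inv_cancel, map_one]
  · have x'Y : d * x * d⁻¹ ∈ normalizer (Y : Set G) := mem_normalizer_of_forall fun y hy => by
      refine K hO (⟨d, dC⟩ * ⟨x, xC⟩ * (⟨d, dC⟩ : C)⁻¹ * ⟨y, hY hy⟩ * (⟨d, dC⟩ * ⟨x, xC⟩ * (⟨d, dC⟩ : C)⁻¹)⁻¹)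
        ⟨y, hY hy⟩ hy ?_ ((ord_conj _ y).symm ▸ oY hy)
      rw [map_mul, map_inv, map_mul, map_mul, map_mul, map_inv, (h1 _ ⟨⟨y, hY hy⟩, hy, rfl⟩).2, mul_inv_cancel_right]
    set x' := d * x * d⁻¹ with hx'
    have a1 : x' * t * x'⁻¹ = t := by
      calc _ = d * (x * u * x⁻¹) * d⁻¹ := by rw [← h.d2, hx']; group
        _ = _ := by rw [xu, h.d2]
    have a2 : x' * u * x'⁻¹ = u * t := by
      calc _ = d * (x * t * x⁻¹) * d⁻¹ := by rw [← h.d1, hx']; group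
        _ = _ := by rw [xt, ← conj_mul, h.d1, h.d2]
    have a3 : x * x' * x * t * (x * x' * x)⁻¹ = u := by
      calc _ = x * (x' * (x * t * x⁻¹) * x'⁻¹) * x⁻¹ := by group
        _ = _ := by rw [xt, ← conj_mul (b := x'), a1, a2, ← tu, ← mul_assoc t, h.tt, one_mul, xu]
    have a4 : x * x' * x * u * (x * x' * x)⁻¹ = t := by
      calc _ = x * (x' * (x * u * x⁻¹) * x'⁻¹) * x⁻¹ := by group
        _ = _ := by rw [xu, a2, ← conj_mul (b := x), xu, xt, tu, ← mul_assoc, h.uu, one_mul]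
    have n := mul_mem (mul_mem hx x'Y) hx
    have m := mul_mem (mul_mem xC (mul_mem (mul_mem dC xC) (inv_mem dC))) xC
    refine Or.inl ((mul_mem_cancel_left (inv_mem n)).1 (hC (mem_inf.2 ⟨mem_inf.2 ⟨mul_mem (inv_mem m) dC,
      mem_Cx'.2 ?_⟩, mem_Cx'.2 ?_⟩)))
    · calc _ = (x * x' * x)⁻¹ * (d * t * d⁻¹) * (x * x' * x) := by group
        _ = _ := by rw [h.d1, ← a3]; group
    · calc _ = (x * x' * x)⁻¹ * (d * u * d⁻¹) * (x * x' * x) := by group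
        _ = _ := by rw [h.d2, ← a4]; group

end CfsgLib.Har
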