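import Cfsg.Agent.Lib.Har.Hyp1
import Cfsg.Agent.Lib.Har.Hyp2
import Cfsg.Agent.Lib.Har.L7r

/-!
Project HAR (S1918, plans/HAR.md). The subgroup `W•` (package HYP3).
-/

set_option autoImplicit false
set_option Elab.async false
set_option linter.unusedSectionVars false
set_option synthInstance.maxSize 100000
set_option maxRecDepth 100000

namespace CfsgLib.Har

open Subgroup Equiv Function CfsgLib.W2 CfsgLib.W2.TG CfsgLib.Tech CfsgLib.PComp Cfsg CfsgLib.A16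
  CfsgLib.SylT

variable {G : Type*} [Group G] [Finite G] {J : TW →* G} {π : G → WB} {ρ σ d x y : G} {r : Fin 4 → G}
  {W : Subgroup G}

theorem hyp3_facts : (∀ e : EG, Nat.land e.v 3 = 0 →
      bit (sp [eb 2, eb 3, eb 4, eb 5, eb 6, eb 7] 1) e.v = true) ∧
    (∀ q : Fin 8, 2 ≤ q → bW (eb 0) * tE (eb q) = tE (eb q) * bW (eb 0) ∧ sV 0 (eb q) = eb q) ∧
    ze = ue 0 * (ue 1 * ue 2 * ue 3) ∧ Nat.land (ue 1 * ue 2 * ue 3).v 3 = 0 ∧
    tau1 ze = ze * eb 1 ∧ tau1 (tau1 ze) = ze ∧ (∀ a : EG, ∀ q, a * eb q = eb q * a) ∧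
    bW (eb 1) * bW (eb 1) = 1 := by decide +kernel

omit [Finite G] in
theorem hyp3_memC {g : G} (h : ∀ q : Fin 8, 2 ≤ q → g * J (tE (eb q)) = J (tE (eb q)) * g) :
    g ∈ centralizer (EO J : Set G) := by
  rintro _ ⟨e, he, rfl⟩
  refine mem_Cx.1 (map_mem_of_sp (J.comp tE) (S := Cx g) (fun k hk => ?_) (hyp3_facts.1 e he))
  simp only [List.mem_cons, List.not_mem_nil, or_false] at hk
  rcases hk with rfl | rfl | rfl | rfl | rfl | rfl <;> exact mem_Cx.2 (h _ (by decide)).symm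

omit [Finite G] in
theorem hyp3_EC (a : EG) : J (tE a) ∈ centralizer (EO J : Set G) := hyp3_memC fun q _ => by
  rw [← map_mul, ← map_mul, hyp3_facts.2.2.2.2.2.2.1, map_mul, map_mul]

omit [Finite G] in
theorem hyp3_mem_inf {A B : Subgroup G} {g : G} (h1 : g ∈ normalizer (A : Set G))
    (h2 : g ∈ normalizer (B : Set G)) : g ∈ normalizer ((A ⊓ B : Subgroup G) : Set G) := by
  rw [mem_normalizer_iff_cj] at *
  rw [cj_inf, h1, h2]

/-- a subgroup normalized by `W`, `x₀` and `C_H(t₁)` is normalized by `H` -/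
theorem hyp3_gen (L : LB J π) {N : Subgroup G} (h0 : opOf 2 (Cx (J (bW ze))) ≤ N)
    (h1 : J (tE (eb 0)) ∈ N) (h2 : Cx (J (bW ze)) ⊓ Cx (J (bW (eb 1))) ≤ N) :
    Cx (J (bW ze)) ≤ N := by
  let K : Subgroup WB :=
    { carrier := {w | ∃ g ∈ Cx (J (bW ze)), g ∈ N ∧ π g = w}
      one_mem' := ⟨1, one_mem _, one_mem _, L.one⟩
      mul_mem' := by
        rintro _ _ ⟨a, a1, a2, rfl⟩ ⟨b, b1, b2, rfl⟩
        exact ⟨a * b, mul_mem a1 b1, mul_mem a2 b2, L.mul a1 b1⟩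
      inv_mem' := by
        rintro _ ⟨a, a1, a2, rfl⟩
        exact ⟨a⁻¹, inv_mem a1, inv_mem a2, L.inv a1⟩ }
  have hK : K = ⊤ := gen_t1 (fun w hw => by
    obtain ⟨c, c1, c2, c3⟩ := L.lift_comm (LB.memH (bW (eb 1)))
      (by rw [← map_mul, hyp3_facts.2.2.2.2.2.2.2, map_one]) (a := w)
      (by rw [L.sec, iT_bW, eB_eb]; exact hw)
    exact ⟨c, c1, h2 ⟨c1, c3⟩, c2⟩) ⟨_, LB.memH _, h1, L.sec _⟩
  intro h hh
  obtain ⟨g, g1, g2, e⟩ : π h ∈ K := hK ▸ mem_top _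
  have : h * g⁻¹ ∈ N := h0 ((L.ker (mul_mem hh (inv_mem g1))).1 (by
    rw [L.mul hh (inv_mem g1), L.inv g1, e, mul_inv_cancel]))
  simpa using mul_mem this g2

open scoped commutatorElement in
/-- `C₀ = C(E⁰)`, `Y = W ⊓ C₀`, `W = [W, E⁰] Y` (coprime action), `O(C₀) ≤ W` (`max`), `W₁ = d W d⁻¹`.
`l7r` (`hC`: `C₀ ⊓ C(t₀) ⊓ C(u₀) ≤ H ≤ N(W)`; `r 0 ∈ N(E) ≤ N(W)`). If `d ∈ N(Y)` then `W ≤ W₁`
(`hyp1`), `W = W₁`: take `W' = W`. Otherwise `W• = [W, E⁰] O(C₀) ≤ W ⊓ W₁` has index 1 or 3 in `W`; if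
`W = W₁` take `W' = W`; else `W' = W• = W ⊓ W₁` has index 3, is normal in `W ⊇ O(H)` (odd order); it is
normalized by `d` (`d² ∈ C(B') ≤ H`), by `r 0` and `x₀` (they normalize `W`, `E⁰`, `C₀`), by
`C_H(t₁) ≤ N(W) ⊓ d H d⁻¹` (`d z d⁻¹ = z t₁`), so by `H` (`gen_t1`, `lift_comm`). If `W• = 1` then
`W = Y` has order 3 and `O(H) ≤ W`. -/
theorem SW.hyp (L : LB J π) (hr : RD J r d) (hW : SW J W) : ∃ W' : Subgroup G, Odd (Nat.card W') ∧
    Cx (J (bW ze)) ≤ normalizer (W' : Set G) ∧ r 0 ∈ normalizer (W' : Set G) ∧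
    d ∈ normalizer (W' : Set G) ∧ (W' = ⊥ → opOf 2 (Cx (J (bW ze))) = ⊥ ∨ O3 J) := by
  obtain ⟨-, f2, f3, f4, f5, f6, -, -⟩ := hyp3_facts
  set C := centralizer (EO J : Set G) with hC
  have tC : J (bW (eb 0)) ∈ C := hyp3_memC fun q hq => by rw [← map_mul, (f2 q hq).1, map_mul]
  have xC : J (tE (eb 0)) ∈ C := hyp3_EC _
  have rC : r 0 ∈ C := hyp3_memC fun q hq => ((hr.act 0 (eb q)).of_eq rfl (f2 q hq).2).comm
  have dC : d ∈ C := hyp3_memC fun q hq => (hr.dE q hq).comm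
  have EC : (J.comp tE).range ≤ C := by rintro _ ⟨a, rfl⟩; exact hyp3_EC a
  have ZE : EO J ≤ (J.comp tE).range := map_le_range _ _
  have rW : r 0 ∈ normalizer (W : Set G) := hW.nE (mem_normalizer_of_forall (by
    rintro _ ⟨a, rfl⟩; exact ⟨_, Eq.symm (hr.act 0 a)⟩))
  have xW : J (tE (eb 0)) ∈ normalizer (W : Set G) := hW.nH (LB.memH _)
  have OW : opOf 2 C ≤ W := hW.max _ (odd_card_opOf C) (EC.trans (le_normalizer_opOf C))
  have OY : opOf 2 C ≤ W ⊓ C := le_inf OW (opOf_le C)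
  have nY : ∀ {g}, g ∈ normalizer (W : Set G) → g ∈ C → g ∈ normalizer ((W ⊓ C : Subgroup G) : Set G) :=
    fun h1 h2 => hyp3_mem_inf h1 (le_normalizer h2)
  have two : IsPGroup 2 (EO J) := Gold.isPGroup_of_elem (by
    rintro _ ⟨a, -, rfl⟩
    rw [← map_mul, (by decide +kernel : ∀ a : EG, a * a = 1), map_one])
  have ZW : EO J ≤ normalizer (W : Set G) := (ZE.trans le_normalizer).trans hW.nE
  have dec : ∀ {H : Subgroup G}, ⁅W, EO J⁆ ≤ H → W ⊓ C ≤ H → W ≤ H := fun h1 h2 =>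
    Gold.le_of_commutator_of_inf two hW.odd ZW h1 h2
  have K1 := hW.hyp1 L hr
  by_cases hd : W ⊓ C ≤ cj d W
  · refine ⟨W, hW.odd, hW.nH, rW, mem_normalizer_iff_cj.2
      (eq_of_le_of_card_ge (dec K1 hd) (card_cj d W).le).symm, fun e => Or.inl ?_⟩
    exact le_bot_iff.1 (e ▸ hW.th)
  obtain h7 | ⟨i3, act⟩ := l7r (C := C) (Z := EO J) (Y := W ⊓ C) (hr.dc L) ⟨tC, xC, rC, dC⟩ (ZE.trans EC)
    (fun a ha c hc => hc a ha) (EO_inf L) L.sylC inf_le_right (Gold.odd_of_le hW.odd inf_le_left) OY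
    (nY xW xC) (nY rW rC) (fun g hg => nY (hW.nH (by
      have c1 : g ∈ Cx (J (bW (ue 1 * ue 2 * ue 3))) := mem_Cx.2 (hg.1.1 _ ⟨_, f4, by
        simp only [map_mul, MonoidHom.comp_apply, (tE_facts.1 _).2]⟩).symm
      rw [f3, map_mul, map_mul]
      exact Cx_comm.1 (mul_mem (Cx_comm.1 hg.2) (Cx_comm.1 c1)))) hg.1.1)
  · exact absurd (mem_normalizer_iff_cj.1 h7 ▸ cj_mono d inf_le_left) hd
  have KW : ⁅W, EO J⁆ ≤ W := commutator_le.2 fun a ha b hb => by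
    rw [commutatorElement_def, mul_assoc, mul_assoc, ← mul_assoc b]
    exact mul_mem ha (conj_mem_of_mem_normalizer (ZW hb) (inv_mem ha))
  have O1 : opOf 2 C ≤ cj d W := mem_normalizer_iff_cj.1 (le_normalizer_opOf (p := 2) C dC) ▸ cj_mono d OW
  have YO : W ⊓ C ⊓ cj d W = opOf 2 C := by
    have l1 : opOf 2 C ≤ W ⊓ C ⊓ cj d W := le_inf OY O1
    have := relIndex_mul_relIndex _ _ _ l1 (inf_le_left : _ ≤ W ⊓ C)
    rw [i3] at this
    rcases (Nat.dvd_prime Nat.prime_three).1 (Dvd.intro_left _ this) with e | e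
    · exact absurd ((relIndex_eq_one.1 e).trans inf_le_right) hd
    · rw [e] at this
      exact le_antisymm (relIndex_eq_one.1 (by omega)) l1
  have nK : W ≤ normalizer ((⁅W, EO J⁆ : Subgroup G) : Set G) := by
    intro w hw
    refine mem_normalizer_of_cj_le (cj_le_iff.2 fun k hk => ?_)
    refine (commutator_le (H₃ := (⁅W, EO J⁆ : Subgroup G).comap (MulAut.conj w).toMonoidHom)).2
      (fun a ha b hb => ?_) hk
    have : w * ⁅a, b⁆ * w⁻¹ = ⁅w * a, b⁆ * ⁅w, b⁆⁻¹ := by simp only [commutatorElement_def]; group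
    exact (this ▸ mul_mem (commutator_mem_commutator (mul_mem hw ha) hb)
      (inv_mem (commutator_mem_commutator hw hb)) : w * ⁅a, b⁆ * w⁻¹ ∈ _)
  have prod : ∀ w ∈ W, ∃ k ∈ ⁅W, EO J⁆, ∃ y ∈ W ⊓ C, w = k * y := fun w hw => by
    let H : Subgroup G :=
      { carrier := {w | ∃ k ∈ ⁅W, EO J⁆, ∃ y ∈ W ⊓ C, w = k * y}
        one_mem' := ⟨1, one_mem _, 1, one_mem _, by simp⟩
        mul_mem' := by
          rintro _ _ ⟨k, hk, y, hy, rfl⟩ ⟨k', hk', y', hy', rfl⟩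
          exact ⟨k * (y * k' * y⁻¹), mul_mem hk (conj_mem_of_mem_normalizer (nK hy.1) hk'), y * y',
            mul_mem hy hy', by group⟩
        inv_mem' := by
          rintro _ ⟨k, hk, y, hy, rfl⟩
          exact ⟨y⁻¹ * k⁻¹ * y, conj_mem_of_mem_normalizer' (nK hy.1) (inv_mem hk), y⁻¹, inv_mem hy,
            by group⟩ }
    exact dec (H := H) (fun k hk => ⟨k, hk, 1, one_mem _, by simp⟩)
      (fun y hy => ⟨1, one_mem _, y, hy, by simp⟩) hw
  have eW : W ⊓ cj d W = ⁅W, EO J⁆ ⊔ opOf 2 C := by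
    refine le_antisymm (fun w hw => ?_) (sup_le (le_inf KW K1) (le_inf OW O1))
    obtain ⟨k, hk, y, hy, rfl⟩ := prod w hw.1
    exact mul_mem (mem_sup_left hk) (mem_sup_right
      (YO ▸ ⟨hy, by simpa using mul_mem (inv_mem (K1 hk)) hw.2⟩))
  have nC : ∀ {g}, g ∈ normalizer (W : Set G) → g ∈ C →
      g ∈ normalizer ((W ⊓ cj d W : Subgroup G) : Set G) := fun {g} h1 h2 => by
    rw [eW, mem_normalizer_iff_cj, cj_sup, cj_commutator, mem_normalizer_iff_cj.1 h1,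
      mem_normalizer_iff_cj.1 (centralizer_le_normalizer _ h2),
      mem_normalizer_iff_cj.1 (le_normalizer_opOf (p := 2) C h2)]
  have nW : W ≤ normalizer ((W ⊓ cj d W : Subgroup G) : Set G) :=
    dec ((le_inf KW K1).trans le_normalizer) fun y hy => nC (le_normalizer hy.1) hy.2
  have dz : d * J (bW ze) * d⁻¹ = J (bW ze) * J (bW (eb 1)) := by
    rw [← map_mul, ← map_mul, ← f5]; exact hr.dB ze
  refine ⟨W ⊓ cj d W, Gold.odd_of_le hW.odd inf_le_left,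
    hyp3_gen L (hW.th.trans nW) (nC xW xC) fun g hg => hyp3_mem_inf (hW.nH hg.1) ?_, nC rW rC, ?_,
    fun e => ?_⟩
  · rw [← cj_normalizer]
    refine cj_mono d hW.nH ?_
    rw [cj_Cx, dz]
    exact Cx_comm.1 (mul_mem (Cx_comm.1 hg.1) (Cx_comm.1 hg.2))
  · have dd : d * d ∈ Cx (J (bW ze)) :=
      mem_Cx.2 (((hr.dB (tau1 ze)).comp (hr.dB ze)).of_eq rfl f6).comm
    rw [mem_normalizer_iff_cj, cj_inf, ← cj_mul, mem_normalizer_iff_cj.1 (hW.nH dd), inf_comm]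
  · rw [eW, sup_eq_bot_iff] at e
    have WY : W ≤ W ⊓ C := dec (e.1 ▸ bot_le) le_rfl
    rw [e.2, relIndex_bot_left] at i3
    simp only [e.2, mem_bot] at act
    have l := hW.th.trans WY
    rcases (Nat.dvd_prime Nat.prime_three).1 (i3 ▸ card_dvd_of_le l) with c | c
    · exact Or.inl (card_eq_one.1 c)
    · exact Or.inr ⟨c, fun w hw => ⟨eq_inv_of_mul_eq_one_left (act w (l hw)).1,
        mul_inv_eq_one.1 (act w (l hw)).2⟩⟩

end CfsgLib.Har
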