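import Cfsg.Agent.Lib.Har.Eta1
import Cfsg.Agent.Lib.Har.Reg

/-!
Project HAR (S1918, plans/HAR.md). The group `S₁` (package JJ).
-/

set_option autoImplicit false
set_option Elab.async false
set_option linter.unusedSectionVars false
set_option synthInstance.maxSize 100000
set_option maxRecDepth 100000

namespace CfsgLib.Har

open Subgroup Equiv Function CfsgLib.W2 CfsgLib.W2.TG CfsgLib.Tech CfsgLib.PComp Cfsg CfsgLib.A16
  CfsgLib.SylT

variable {G : Type*} [Group G] [Finite G] {J : TL →* G} {π : G → P16}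
variable {β : BG →* G} {ρ σ : G} {ε : Bool} {e : EG →* G}

namespace Jj

theorem fF : ∀ f, TL.In 960 f → eps (ge (i0 f)) = i0 f := by decide +kernel

theorem inF : ∀ t, pr (i0 t) = 1 → TL.In 960 t := by decide +kernel

theorem tpE : ∀ a, (tp (eps a)).v < 16 := by decide +kernel

theorem tpB : ∀ b, tp (bet b) = 1 := by decide +kernel

theorem tpT : ∀ t, (tp (i0 t)).v < 16 → TL.In 960 t ∨ TL.In 960 (TL.x12 * t) := by decide +kernel

theorem facts : cE (i0 TL.x12) (eb 0) = eb 1 ∧ cE (i0 TL.x45) (eb 0) = eb 4 ∧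
    cE (i0 TL.x34) (eb 0) = Har.sE (ge (bet (th false TL.x34 (ub 0)))) ∧
    cE (i0 TL.x23) (eb 0) = eb 0 ∧ TL.In 960 TL.x23 ∧ TL.In 884 TL.x12 ∧ TL.x12 * TL.x12 = 1 ∧
    xs 0 = eps (eb 0) ∧ trH (o 1) = eps (eb 0) ∧ par (eb 0) = true := by decide +kernel

theorem ind {P : EG → Prop} (hm : ∀ a b, P a → P b → P (a * b))
    (h1 : ∀ f, TL.In 960 f → P (ge (i0 f))) (h2 : P (ue 0)) (h3 : P (eb 0)) (a : EG) : P a := by
  have k : ∀ a, par a = false → P a := fun a ha => by
    obtain ⟨k, -, hF, rfl | rfl⟩ := eta1_even a ha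
    exacts [h1 _ hF, hm _ _ (h1 _ hF) h2]
  cases ha : par a
  · exact k a ha
  · have := hm _ _ h3 (k (eb 0 * a) (by rw [par_mul, ha, facts.2.2.2.2.2.2.2.2.2]; rfl))
    rwa [← mul_assoc, EG.sq, one_mul] at this

theorem eB (he : ES J β ε σ e) {c : BG} {a : EG} (h : bet c = eps a) : β c = e a := by
  rw [he.eta1_E (by rw [h, ge_eps]), h, ge_eps]

theorem inj_of {φ : SG →* G} (h : φ zs ≠ 1) : Injective φ := by
  rw [← MonoidHom.ker_eq_bot_iff]
  by_contra hn
  have := isPGroup_SG.isNilpotent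
  obtain ⟨c, h1, h2, h3⟩ := PGroup.exists_mem_center_of_normal φ.ker hn
  rcases center_SG fun s => (mem_center_iff.1 h2 s).symm with e | e
  · exact h3 e
  · exact h (e ▸ h1)

theorem actB (hb : BS J π β ρ false) (he : ES J β false σ e)
    (hx : ∀ b, W2.Rel β (e (eb 0)) b (cB (xs 0) b)) (b : BG) (a : EG) :
    W2.Rel e (β b) a (cE (bet b) a) := by
  have Q : ∀ b, W2.Rel β (e a) b (cB (eps a) b) := by
    refine ind (P := fun a => ∀ b, W2.Rel β (e a) b (cB (eps a) b)) (fun a a' h h' b => ?_)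
      (fun f hf b => ?_) (fun b => ?_) (facts.2.2.2.2.2.2.2.1 ▸ hx) a
    · rw [map_mul, map_mul, map_mul]
      exact (h _).comp (h' b)
    · rw [he.eF f hf, fF f hf, ← th_false]
      exact hb.act f b
    · rw [he.eu, ← z_facts.2.2.2.2.2, cB_bet]
      exact W2.Rel.of_comm (by rw [← map_mul, mul_comm, map_mul])
  have h1 := eB he (c := b * cB (eps a) b⁻¹) (a := cE (bet b) a * a⁻¹) (by
    rw [map_mul, map_mul, bet_cB, eps_cE, map_inv, map_inv]; group)
  have h2 := Q b⁻¹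
  rw [W2.Rel] at h2 ⊢
  rw [map_mul, map_mul, ← h2, map_inv, map_inv] at h1
  rw [← mul_left_inj (e a)⁻¹, ← h1]; group

theorem actT (hb : BS J π β ρ false) (he : ES J β false σ e) (t : TL) :
    ∀ a, W2.Rel e (J t) a (cE (i0 t) a) := by
  obtain ⟨f1, f2, f3, f4, f5, -⟩ := facts
  refine ind_of_genB TL.gen4 (P := fun t => ∀ a, W2.Rel e (J t) a (cE (i0 t) a))
    (fun a => by simp [W2.Rel]) (fun t ih g hg a => ?_) t
  rw [map_mul, map_mul, map_mul]
  refine (ih _).comp (ind (P := fun a => W2.Rel e (J g) a (cE (i0 g) a)) (fun a a' h h' => ?_)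
    (fun f hf => ?_) ?_ ?_ a)
  · rw [map_mul]; exact h.mul h'
  · have h1 : eps (cE (i0 g) (ge (i0 f))) = i0 (g * f * g⁻¹) := by
      rw [eps_cE, fF f hf, map_mul, map_mul, map_inv]
    have h2 := inF _ (h1 ▸ pr_eps _)
    change J g * e _ * (J g)⁻¹ = e _
    rw [← ge_eps (cE _ _), h1, he.eF _ h2, he.eF _ hf, map_mul, map_mul, map_inv]
  · change J g * e _ * (J g)⁻¹ = e _
    rw [he.eu, ← eB he (c := cB (i0 g) (ub 0)) (by rw [bet_cB, eps_cE, z_facts.2.2.2.2.2]),
      ← th_false]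
    exact hb.act g _
  · simp only [List.mem_cons, List.not_mem_nil, or_false] at hg
    rcases hg with rfl | rfl | rfl | rfl
    · rw [f1]; exact he.x12
    · rw [f4, ← he.eF _ f5]
      exact W2.Rel.of_comm (by rw [← map_mul, mul_comm, map_mul])
    · rw [f3]; exact he.x34
    · rw [f2]; exact he.x45

theorem agree (hb : BS J π β ρ false) (he : ES J β false σ e) {a : EG} {b : BG} {t : TL}
    (h : eps a = bet b * i0 t) : e a = β b * J t := by
  have k : ∀ b t, TL.In 960 t → eps a = bet b * i0 t → e a = β b * J t := fun b t ht h => by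
    rw [← he.eF t ht, eB he (c := b) (a := a * (ge (i0 t))⁻¹) (by
      rw [map_mul, map_inv, fF t ht, h, mul_inv_cancel_right]), map_mul, map_inv, inv_mul_cancel_right]
  obtain ⟨-, -, -, -, -, f6, f7, -⟩ := facts
  have h1 := tpE a
  rw [h, tp_mul, tpB, one_mul] at h1
  rcases tpT t h1 with ht | ht
  · exact k b t ht h
  · have g1 : β (o 85) = J TL.x12 := by
      rw [← hb.a _ f6, i0_tr.2.2.2.2.2.2.1, gb_bet]
    rw [k (b * o 85) _ ht (by
      rw [h, map_mul, map_mul, ← i0_tr.2.2.2.2.2.2.1, mul_assoc, ← mul_assoc (i0 _), ← map_mul, f7,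
        map_one, one_mul]), map_mul, map_mul, g1, mul_assoc, ← mul_assoc (J _), ← map_mul, f7, map_one,
      one_mul]

end Jj

/-- `amal` twice. In `T₂ = range bet ⊔ range i0 ≤ SG` glue `β` and `J` (`act`, `th_false`;
`bet b = i0 t` forces `t ∈ A'`, field `a`): `J₂`. Then `SG = range eps · T₂`
(`dec_S`; `sc` of the generators `o 1, o 16, o 32` of `T8` lie in `range eps · T₂`), glue `e` and `J₂`:
they agree on `E₁ = ge (i0 F) ⟨ue 0⟩ = range eps ⊓ T₂`; the action of `J₂ k` on `e a` has to be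
checked for generators `k ∈ {x12, x23, x34, x45} ∪ B` and `a ∈ E₁` (inside `T₂`) or `a = eb 0`
(fields `x12, x34, x45`, `x23 ∈ F`, and `hx` for `B`). Injective since `J' zs = J z ≠ 1` and `zs`
lies in every nontrivial normal subgroup (`Z(SG) = ⟨zs⟩`). -/
theorem ES.c3 (h : Hy J π) (hb : BS J π β ρ false) (he : ES J β false σ e)
    (hx : ∀ b, W2.Rel β (e (eb 0)) b (cB (xs 0) b)) : ∃ J' : SG →* G, C3 J' π ρ σ := by
  let j : BG ⋊[cB.comp i0] TL →* SG := SemidirectProduct.lift bet i0 fun t =>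
    MonoidHom.ext fun b => bet_cB (i0 t) b
  let g : BG ⋊[cB.comp i0] TL →* G := SemidirectProduct.lift β J fun t =>
    MonoidHom.ext fun b => by
      have := hb.act t b
      rw [th_false] at this
      exact Eq.symm this
  have j1 : ∀ k, j k = bet k.left * i0 k.right := fun k => rfl
  have g1 : ∀ k, g k = β k.left * J k.right := fun k => rfl
  have jT : ∀ t, i0 t = j (SemidirectProduct.inr t) := fun t =>
    (SemidirectProduct.lift_inr _ _ _ t).symm
  have jB : ∀ b, bet b = j (SemidirectProduct.inl b) := fun b =>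
    (SemidirectProduct.lift_inl _ _ _ b).symm
  have hs : ∀ s, s ∈ eps.range ⊔ j.range := fun s => by
    rw [← trH_tp s]
    refine mul_mem (mem_sup_right ⟨_, (jB _).symm⟩)
      ((eq_top_of_genB gP_gen (S := (eps.range ⊔ j.range).comap trH) fun p hp => ?_).ge (mem_top _))
    simp only [gP, List.mem_cons, List.not_mem_nil, or_false] at hp
    rcases hp with rfl | rfl | rfl | rfl
    · exact mem_sup_left ⟨_, Jj.facts.2.2.2.2.2.2.2.2.1.symm⟩
    · exact mem_sup_right ⟨_, (jT _).symm.trans i0_tr.2.1⟩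
    · exact mem_sup_right ⟨_, (jT _).symm.trans i0_tr.2.2.1⟩
    · exact mem_sup_right ⟨_, (jT _).symm.trans i0_tr.2.2.2.2.1⟩
  obtain ⟨φ, h1, h2⟩ := amal eps j (fun s => by
      obtain ⟨_, ⟨n, rfl⟩, _, ⟨k, rfl⟩, e⟩ := mem_sup_of_normal_left.1 (hs s)
      exact ⟨n, k, e.symm⟩) e g (fun n k e => g1 k ▸ Jj.agree hb he (j1 k ▸ e))
    (fun k n => ⟨_, (eps_cE _ n).symm⟩) fun k n n' e' => by
      rw [← eps_inj ((eps_cE _ n).trans e'), j1, g1, map_mul]
      exact (Jj.actB hb he hx _ _).comp (Jj.actT hb he _ _)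
  have h3 : φ.comp i0 = J := MonoidHom.ext fun t => by
    rw [MonoidHom.comp_apply, jT]
    exact (DFunLike.congr_fun h2 _).trans (SemidirectProduct.lift_inr _ _ _ t)
  have h4 : φ.comp bet = β := MonoidHom.ext fun b => by
    rw [MonoidHom.comp_apply, jB]
    exact (DFunLike.congr_fun h2 _).trans (SemidirectProduct.lift_inl _ _ _ b)
  refine ⟨φ, h3 ▸ h, Jj.inj_of fun e' => ?_, h3 ▸ hb.rN, hb.rp, h4 ▸ hb.rb, h3 ▸ hb.rq, h1 ▸ he.sE⟩
  rw [← i0_tr.2.2.2.2.2.1] at e'
  exact absurd (h.inj (((DFunLike.congr_fun h3 _).symm.trans e').trans (map_one J).symm))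
    (by decide +kernel)

end CfsgLib.Har
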