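import Cfsg.Agent.Lib.Har.Defs3
import Cfsg.Agent.Lib.W2.Tools

/-!
Project HAR (S1918, plans/HAR.md). The case of `A₇` (package L7C).
-/

set_option autoImplicit false
set_option Elab.async false
set_option linter.unusedSectionVars false
set_option synthInstance.maxSize 100000
set_option maxRecDepth 100000

namespace CfsgLib.Har

open Subgroup Equiv Function CfsgLib.W2 CfsgLib.W2.TG CfsgLib.Tech CfsgLib.PComp Cfsg CfsgLib.A16
  CfsgLib.SylT

namespace L7c

abbrev S7 : Type := Perm (Fin 7)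

/-- the map with a given code -/
def ap (n : ℕ) (i : Fin 7) : Fin 7 := Fin.ofNat 7 (Nat.land (Nat.shiftRight n (Nat.mul 3 i.val)) 7)

/-- the permutation with a given code -/
def pm (n m : ℕ) (h : ∀ i, ap m (ap n i) = i ∧ ap n (ap m i) = i := by decide +kernel) : S7 :=
  ⟨ap n, ap m, fun i => (h i).1, fun i => (h i).2⟩

/-- `(0 1)(2 3)` -/
def u0 : S7 := pm 1754305 1754305
/-- `(4 5 6)` -/
def c0 : S7 := pm 1267336 1468040

/-- the centralizer of `u0` -/
def LC : List ℕ := [1754760, 1525384, 1726088, 1267336, 1468040, 1238664, 1754312, 1524936, 1725640, 1266888, 1467592, 1238216, 1754753, 1525377, 1726081, 1267329, 1468033, 1238657, 1754305, 1524929, 1725633, 1266881, 1467585, 1238209, 1753626, 1524250, 1724954, 1266202, 1466906, 1237530, 1753178, 1523802, 1724506, 1265754, 1466458, 1237082, 1753619, 1524243, 1724947, 1266195, 1466899, 1237523, 1753171, 1523795, 1724499, 1265747, 1466451, 1237075]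

/-- its double transpositions -/
def LI : List S7 := [u0, pm 1753626 1753626, pm 1753171 1753171, pm 1726081 1726081, pm 1238657 1238657,
  pm 1525377 1525377, pm 1725640 1725640, pm 1238216 1238216, pm 1524936 1524936]

/-- conjugating elements -/
def LS : List S7 := [pm 1754704 1754704, pm 1753752 1753752, pm 1682184 1682184, pm 961800 961800, pm 871752 871752,
  pm 1607340 1607340, pm 427700 427700, pm 280245 280245, pm 702856 702856, pm 641928 641928,
  pm 169638 169638, pm 50862 50862]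

attribute [local instance 10000] List.decidableBAll List.decidableBEx

theorem k1 : ∀ a : Fin 7, u0 a ≠ a → ∀ b, u0 b ≠ b → b ≠ a → b ≠ u0 a → ∀ c, u0 c = c → ∀ d, u0 d = d →
    d ≠ c → ∀ e, u0 e = e → e ≠ c → e ≠ d → ∃ p ∈ LC, ap p 0 = a ∧ ap p 2 = b ∧ ap p 4 = c ∧ ap p 5 = d ∧
      ap p 6 = e ∧ ap p 1 = u0 a ∧ ap p 3 = u0 b := by decide +kernel

theorem mem_LC {g : S7} (h : g * u0 = u0 * g) : ∃ p ∈ LC, ⇑g = ap p := by
  have e : ∀ i, u0 (g i) = g (u0 i) := fun i => (congrArg (fun s : S7 => s i) h).symm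
  have n : ∀ {i j}, i ≠ j → g i ≠ g j := fun h => g.injective.ne h
  obtain ⟨p, hp, h0, h2, h4, h5, h6, h1, h3⟩ := k1 (g 0) (e _ ▸ n (by decide)) (g 2) (e _ ▸ n (by decide))
    (n (by decide)) (e _ ▸ n (by decide)) (g 4) (e 4) (g 5) (e 5) (n (by decide)) (g 6) (e 6) (n (by decide))
    (n (by decide))
  rw [e] at h1 h3
  refine ⟨p, hp, (funext fun i => ?_ : ap p = g).symm⟩
  fin_cases i
  exacts [h0, h1, h2, h3, h4, h5, h6]

theorem k2 : ∀ p ∈ LC, ((∀ i, ap p (ap p (ap p (ap p i))) = i) ∨ (∀ i, ap p (ap p (ap p (ap p i))) = c0 i) ∨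
    ∀ i, ap p (ap p (ap p (ap p i))) = c0⁻¹ i) ∧ ((∀ i, ap p (ap p i) = i) →
      (Finset.univ.filter fun i => ap p i ≠ i).card = 4 → ∃ q ∈ LI, ∀ i, ap p i = q i) := by
  decide +kernel

theorem pow_four {g : S7} (h : g * u0 = u0 * g) :
    g * g * (g * g) = 1 ∨ g * g * (g * g) = c0 ∨ g * g * (g * g) = c0⁻¹ := by
  obtain ⟨p, hp, e⟩ := mem_LC h
  simpa only [Perm.ext_iff, Perm.mul_apply, Perm.one_apply, e] using (k2 p hp).1

theorem mem_LI {g : S7} (h : g * u0 = u0 * g) (h2 : g * g = 1) (h4 : g.support.card = 4) : g ∈ LI := by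
  obtain ⟨p, hp, e⟩ := mem_LC h
  obtain ⟨q, hq, k⟩ := (k2 p hp).2 (fun i => e ▸ Perm.ext_iff.1 h2 i) (e ▸ h4)
  exact (Perm.ext fun i => by rw [e, k] : g = q) ▸ hq

theorem k3 : ∀ x ∈ LI, ∀ t ∈ LI, t * x * (t * x) = u0 →
    (t * c0 * t⁻¹ = c0⁻¹ ∧ x * c0 * x⁻¹ = c0 ∧ (∃ s ∈ LS, s * u0 * s⁻¹ = x ∧ s * c0 * s⁻¹ = c0) ∧
      ∃ s ∈ LS, s * u0 * s⁻¹ = x * u0 ∧ s * c0 * s⁻¹ = c0) ∨
    ∃ s ∈ LS, s * u0 * s⁻¹ = x ∧ ∃ w ∈ LS, s * c0 * s⁻¹ * c0 * (s * c0 * s⁻¹) * c0⁻¹ = w ∧ w ≠ 1 ∧ w * w = 1 := by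
  simp only [ne_eq, Perm.ext_iff]
  decide +kernel

theorem k4 : u0 * u0 = 1 ∧ u0 ≠ 1 ∧ u0.support.card = 4 ∧ c0 ^ 3 = 1 ∧ c0 ≠ 1 ∧ c0 * u0 = u0 * c0 := by
  decide +kernel

theorem ord_c0 : orderOf c0 = 3 := orderOf_eq_prime k4.2.2.2.1 k4.2.2.2.2.1

/-- elements of odd order commuting with a conjugate of `u0` -/
theorem odd_cent {y s : S7} (ho : Odd (orderOf y)) (h : y * (s * u0 * s⁻¹) = s * u0 * s⁻¹ * y) :
    y ∈ zpowers (s * c0 * s⁻¹) ∧ (y ≠ 1 → s * c0 * s⁻¹ ∈ zpowers y) := by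
  have h1 : s⁻¹ * y * s * u0 = u0 * (s⁻¹ * y * s) := by
    calc _ = s⁻¹ * (y * (s * u0 * s⁻¹)) * s := by group
      _ = _ := by rw [h]; group
  have h2 : y ∈ zpowers (y ^ 4) := mem_zpowers_pow_iff.2 ((Nat.coprime_two_left.2 ho).pow_left 2)
  have h3 : y ^ 4 = s * (s⁻¹ * y * s * (s⁻¹ * y * s) * (s⁻¹ * y * s * (s⁻¹ * y * s))) * s⁻¹ := by
    rw [show y ^ 4 = y * y * (y * y) by simp only [pow_succ, pow_zero, one_mul, mul_assoc]]; group
  have h4 : y ^ 4 ∈ zpowers y := npow_mem_zpowers y 4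
  rcases pow_four h1 with e | e | e <;> rw [e] at h3 <;> rw [h3] at h2 h4
  · have : y = 1 := by simpa using h2
    exact ⟨this ▸ one_mem _, fun n => absurd this n⟩
  · exact ⟨h2, fun _ => h4⟩
  · rw [← conj_inv] at h2 h4
    exact ⟨by rwa [zpowers_inv] at h2, fun _ => inv_mem_iff.1 h4⟩

theorem main {t x ρ d : S7} (h : DC t x u0 ρ d) {Y : Subgroup S7} (ho : Odd (Nat.card Y))
    (ht : t ∈ normalizer (Y : Set S7)) (hx : x ∈ normalizer (Y : Set S7))
    (hρ : ρ ∈ normalizer (Y : Set S7)) :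
    Y = ⊥ ∨ (Nat.card Y = 3 ∧ ∀ y ∈ Y, t * y * t⁻¹ = y⁻¹ ∧ x * y * x⁻¹ = y) := by
  have od : ∀ y ∈ Y, Odd (orderOf y) := fun y hy => ho.of_dvd_nat (orderOf_dvd_natCard Y hy)
  have o2 : orderOf u0 = 2 := orderOf_eq_prime (by rw [pow_two, h.uu]) h.u1
  have ox : orderOf x = 2 := by rw [← h.r1, ← o2]; exact orderOf_injective (MulAut.conj ρ).toMonoidHom (MulAut.conj ρ).injective u0
  have xu : x * u0 = u0 * x := by
    have e : x * u0 * (x * u0) = 1 := by rw [← h.r2, conj_mul, h.xx]; group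
    rw [← inv_eq_of_mul_eq_one_right e, mul_inv_rev, inv_eq_of_mul_eq_one_right h.xx,
      inv_eq_of_mul_eq_one_right h.uu]
  have tu : t * u0 = u0 * t := by
    have e : t * u0 * t = u0⁻¹ := by
      rw [← h.tx]
      calc _ = t * t * (x * t * x * t) := by group
        _ = _ := by
          rw [h.tt, one_mul, mul_inv_rev, mul_inv_rev, inv_eq_of_mul_eq_one_right h.xx,
            inv_eq_of_mul_eq_one_right h.tt]; group
    rw [inv_eq_of_mul_eq_one_right h.uu] at e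
    calc _ = t * u0 * t * t := by rw [mul_assoc _ t t, h.tt, mul_one]
      _ = _ := by rw [e]
  have ne : x ≠ u0 := fun e => by
    have := h.r2
    rw [e, h.uu, conj_eq_one_iff] at this
    exact h.u1 this
  have hu : u0 ∈ normalizer (Y : Set S7) := h.tx ▸ mul_mem (mul_mem ht hx) (mul_mem ht hx)
  have cu : ∀ y ∈ Y, y * u0 = u0 * y → y ∈ zpowers c0 ∧ (y ≠ 1 → c0 ∈ zpowers y) := fun y hy e => by
    simpa using odd_cent (s := 1) (od y hy) (by simpa using e)
  by_cases hc : c0 ∈ Y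
  swap
  · have key : ∀ v : S7, (∀ y ∈ Y, y * v = v * y → y = 1) → ∀ y ∈ Y, y * (ρ * v * ρ⁻¹) = ρ * v * ρ⁻¹ * y →
        y = 1 := fun v hv y hy e => by
      have := hv (ρ⁻¹ * y * ρ⁻¹⁻¹) ((mem_normalizer_iff.1 (inv_mem hρ) y).1 hy) (by
        calc _ = ρ⁻¹ * (y * (ρ * v * ρ⁻¹)) * ρ := by group
          _ = _ := by rw [e]; group)
      exact conj_eq_one_iff.1 this
    have a0 : ∀ y ∈ Y, y * u0 = u0 * y → y = 1 := fun y hy e => by
      by_contra n
      exact hc (zpowers_le.2 hy ((cu y hy e).2 n))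
    have a1 := key _ a0
    rw [h.r1] at a1
    have a2 := key _ a1
    rw [h.r2] at a2
    exact Or.inl (eq_bot_iff.2 (le_of_four ho ox o2 ne xu hx hu
      (fun y hy => a1 y hy.1 (mem_centralizer_singleton_iff.1 hy.2))
      (fun y hy => a0 y hy.1 (mem_centralizer_singleton_iff.1 hy.2))
      fun y hy => a2 y hy.1 (mem_centralizer_singleton_iff.1 hy.2)))
  rcases k3 x (mem_LI xu h.xx (by rw [← h.r1, Perm.card_support_conj, k4.2.2.1])) t (mem_LI tu h.tt
    (by rw [← Perm.card_support_conj (σ := d), h.d1, k4.2.2.1])) h.tx with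
    ⟨e1, e2, ⟨s, -, s1, s2⟩, r, -, r1, r2⟩ | ⟨s, -, s1, w, -, rfl, s2, s3⟩
  · have hY : Y = zpowers c0 := le_antisymm (le_of_four ho ox o2 ne xu hx hu
      (fun y hy => s2 ▸ (odd_cent (od y hy.1) (s1 ▸ mem_centralizer_singleton_iff.1 hy.2)).1)
      (fun y hy => (cu y hy.1 (mem_centralizer_singleton_iff.1 hy.2)).1)
      fun y hy => r2 ▸ (odd_cent (od y hy.1) (r1 ▸ mem_centralizer_singleton_iff.1 hy.2)).1) (zpowers_le.2 hc)
    refine Or.inr ⟨by rw [hY, Nat.card_zpowers, ord_c0], fun y hy => ?_⟩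
    obtain ⟨i, rfl⟩ := mem_zpowers_iff.1 (hY ▸ hy)
    rw [← conj_zpow, ← conj_zpow, e1, e2, inv_zpow]
    exact ⟨rfl, rfl⟩
  · have m1 := (mem_normalizer_iff.1 hρ c0).1 hc
    have m2 := zpowers_le.2 m1 ((odd_cent (s := s) (od _ m1) (by
      rw [s1, ← h.r1, conj_mul, conj_mul, k4.2.2.2.2.2])).2 fun e => k4.2.2.2.2.1 (conj_eq_one_iff.1 e))
    have := od _ (mul_mem (mul_mem (mul_mem m2 hc) m2) (inv_mem hc))
    rw [orderOf_eq_prime (p := 2) (by rw [pow_two, s3]) s2] at this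
    exact absurd this (by decide)

theorem cyc {u : S7} (h : u * u = 1) (h1 : u ≠ 1) (hs : Perm.sign u = 1) : u.cycleType = {2, 2} := by
  obtain ⟨n, hn⟩ := Perm.cycleType_prime_order (σ := u) (by
    rw [orderOf_eq_prime (p := 2) (by rw [pow_two, h]) h1]; exact Nat.prime_two)
  rw [orderOf_eq_prime (p := 2) (by rw [pow_two, h]) h1] at hn
  have h2 := u.sum_cycleType_le
  have h3 := u.sign_of_cycleType
  rw [hn, Multiset.sum_replicate, smul_eq_mul, Fintype.card_fin] at h2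
  rw [hn, hs, Multiset.sum_replicate, Multiset.card_replicate, smul_eq_mul] at h3
  have : n ≤ 2 := by omega
  interval_cases n
  · exact absurd h3 (by decide)
  · exact hn
  · exact absurd h3 (by decide)

end L7c

open L7c in
/-- `Y = ⟨C_Y(v) : v ∈ {x, u, x u}⟩` (coprime action of the four-group). An involution `v` of `A₇` is a
double transposition, an element of odd order commuting with it is a 3-cycle on its three fixed
points. `ρ` permutes the three subgroups. If `x`, `u` have the same support, `Y` is generated by a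
3-cycle `c` (or trivial), `t` normalizes it and does not centralize it (otherwise `t, x` fix three
points and `t x` of order 4 lies in `A₄`). Otherwise the fixed sets of `x`, `u` meet in one point
and two such 3-cycles `c₁, c₂` generate a group of even order (`c₁ c₂⁻¹ c₁⁻¹ c₂`-type word: decide
after conjugating), so `Y = 1`. -/
theorem l7c {t x u ρ d : alternatingGroup (Fin 7)} (h : DC t x u ρ d)
    {Y : Subgroup (alternatingGroup (Fin 7))} (ho : Odd (Nat.card Y))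
    (ht : t ∈ normalizer (Y : Set (alternatingGroup (Fin 7))))
    (hx : x ∈ normalizer (Y : Set (alternatingGroup (Fin 7))))
    (hρ : ρ ∈ normalizer (Y : Set (alternatingGroup (Fin 7)))) :
    Y = ⊥ ∨ (Nat.card Y = 3 ∧ ∀ y ∈ Y, t * y * t⁻¹ = y⁻¹ ∧ x * y * x⁻¹ = y) := by
  obtain ⟨s, hs⟩ := isConj_iff.1 (Perm.isConj_iff_cycleType_eq.2 ((cyc (u := u.1) (congrArg Subtype.val h.uu)
    (fun e => h.u1 (Subtype.ext e)) (Perm.mem_alternatingGroup.1 u.2)).trans
    (cyc k4.1 k4.2.1 (by simp [show u0 = swap 0 1 * swap 2 3 by decide +kernel])).symm))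
  let φ : alternatingGroup (Fin 7) →* S7 := (MulAut.conj s).toMonoidHom.comp (Subgroup.subtype _)
  have hφ : Injective φ := (MulAut.conj s).injective.comp Subtype.val_injective
  have e : φ u = u0 := hs
  have n := fun {g} (hg : g ∈ normalizer (Y : Set (alternatingGroup (Fin 7)))) =>
    le_normalizer_map φ (mem_map_of_mem φ hg)
  have hc := card_map_of_injective (K := Y) hφ
  rcases main (t := φ t) (x := φ x) (ρ := φ ρ) (d := φ d) ⟨by rw [← map_mul, h.tt, map_one],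
    by rw [← map_mul, h.xx, map_one], by rw [← map_mul, ← map_mul, h.tx, e], k4.1, k4.2.1,
    by rw [← e, ← map_inv, ← map_mul, ← map_mul, h.r1], by rw [← e, ← map_inv, ← map_mul, ← map_mul, h.r2, map_mul],
    by rw [← e, ← map_inv, ← map_mul, ← map_mul, h.d1], by rw [← e, ← map_inv, ← map_mul, ← map_mul, h.d2]⟩
    (hc ▸ ho) (n ht) (n hx) (n hρ) with a | ⟨a, b⟩
  · exact Or.inl ((map_eq_bot_iff_of_injective Y hφ).1 a)
  · refine Or.inr ⟨hc ▸ a, fun y hy => ?_⟩
    have := b _ (mem_map_of_mem φ hy)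
    exact ⟨hφ (by simpa only [map_mul, map_inv] using this.1), hφ (by simpa only [map_mul, map_inv] using this.2)⟩

end CfsgLib.Har
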