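import Cfsg.Agent.Lib.Har.L7b
import Cfsg.Agent.Lib.Har.L7c
import Cfsg.Agent.Lib.Har.Gen
import Cfsg.Agent.Lib.AltAut.Basic
import Cfsg.Agent.Lib.TwoGrp.Pres
import Cfsg.Agent.Lib.FT.OddOrder
import Cfsg.Agent.S0483

/-!
Project HAR (S1918, plans/HAR.md). Groups with Sylow subgroup `D₈` (package L7A).
-/

set_option autoImplicit false
set_option Elab.async false
set_option linter.unusedSectionVars false
set_option synthInstance.maxSize 100000
set_option maxRecDepth 100000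

namespace CfsgLib.Har

open Subgroup Equiv Function CfsgLib.W2 CfsgLib.W2.TG CfsgLib.Tech CfsgLib.PComp Cfsg CfsgLib.A16
  CfsgLib.SylT

open scoped commutatorElement

theorem l7_d4 : ∀ a b c : DihedralGroup 4, a * a = 1 → b * b = 1 → a ≠ 1 → b ≠ 1 → a ≠ b → a * b = b * a →
    c * a = a * c → c * b = b * c → c = 1 ∨ c = a ∨ c = b ∨ c = a * b := by decide +kernel

namespace DC

variable {C : Type*} [Group C] [Finite C] {t x u ρ d : C} (h : DC t x u ρ d)
include h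

theorem l7_map {C' : Type*} [Group C'] (f : C ≃* C') : DC (f t) (f x) (f u) (f ρ) (f d) :=
  ⟨by rw [← map_mul, h.tt, map_one], by rw [← map_mul, h.xx, map_one], by rw [← map_mul, ← map_mul, h.tx],
    by rw [← map_mul, h.uu, map_one], fun e => h.u1 (f.injective (e.trans (map_one f).symm)),
    by rw [← map_inv, ← map_mul, ← map_mul, h.r1], by rw [← map_inv, ← map_mul, ← map_mul, h.r2, map_mul],
    by rw [← map_inv, ← map_mul, ← map_mul, h.d1], by rw [← map_inv, ← map_mul, ← map_mul, h.d2]⟩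

theorem l7_t1 : t ≠ 1 := fun e => h.u1 (by rw [← h.d1, e, mul_one, mul_inv_cancel])

theorem l7_x1 : x ≠ 1 := fun e => h.u1 (by simpa [e, mul_inv_eq_one] using h.r1)

theorem l7_ti : t⁻¹ = t := inv_eq_of_mul_eq_one_right h.tt

theorem l7_xi : x⁻¹ = x := inv_eq_of_mul_eq_one_right h.xx

theorem l7_u : u = x * t * (x * t) := by
  rw [← inv_eq_of_mul_eq_one_right h.uu, ← h.tx]
  simp only [mul_inv_rev, h.l7_ti, h.l7_xi, mul_assoc]

theorem l7_xt : x * t * x = t * u := by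
  rw [← h.tx, ← mul_assoc, ← mul_assoc, ← mul_assoc, h.tt, one_mul]

theorem l7_tu : t * u = u * t := by
  rw [← h.l7_xt, h.l7_u, mul_assoc (x * t), mul_assoc x t t, h.tt, mul_one]

theorem l7_xu : x * u = u * x := by
  calc x * u = x * x * (t * x * t) := by rw [h.l7_u]; simp only [mul_assoc]
    _ = t * x * t * (x * x) := by rw [h.xx, one_mul, mul_one]
    _ = u * x := by rw [← h.tx]; simp only [mul_assoc]

theorem l7_ntx : t * x ≠ x * t := fun e => h.u1 (by
  rw [← h.tx, mul_assoc, ← mul_assoc x, ← e, mul_assoc t x x, h.xx, mul_one, h.tt])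

theorem l7_tnu : t ≠ u := fun e => h.l7_ntx (by rw [e, h.l7_xu])

theorem l7_xnu : x ≠ u := fun e => h.l7_ntx (by rw [e, h.l7_tu])

theorem l7_comm : u = ⁅t, x⁆ := by
  rw [commutatorElement_def, h.l7_ti, h.l7_xi, ← h.tx, mul_assoc (t * x)]

theorem l7_dih : Nonempty (↥(closure {t, x}) ≃* DihedralGroup 4) := by
  have := Fact.mk Nat.prime_two
  have o : orderOf (t * x) = 2 ^ (1 + 1) := orderOf_eq_prime_pow (by rw [pow_one, sq, h.tx]; exact h.u1)
    (by rw [pow_succ, pow_mul, pow_one, sq, sq, h.tx, h.uu])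
  have i : t * (t * x) * t⁻¹ = (t * x)⁻¹ := by
    rw [← mul_assoc, h.tt, one_mul, mul_inv_rev, h.l7_xi]
  have n : ¬ Commute t (t * x) := fun c => h.l7_ntx (mul_left_cancel (a := t) (by rw [c.eq, mul_assoc]))
  have e : closure {t, x} = zpowers (t * x) ⊔ zpowers t := by
    refine le_antisymm ((closure_le _).2 ?_) (sup_le (zpowers_le.2 (mul_mem (subset_closure (by simp))
      (subset_closure (by simp)))) (zpowers_le.2 (subset_closure (by simp))))
    refine Set.insert_subset (mem_sup_right (mem_zpowers t)) (Set.singleton_subset_iff.2 ?_)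
    exact (mul_mem_cancel_left (mem_sup_right (mem_zpowers t))).1 (mem_sup_left (mem_zpowers (t * x)))
  rw [e]
  exact TwoGrp.nonempty_sup_mulEquiv_dihedral o h.tt i fun ⟨k, hk⟩ => n (by
    simpa only [hk] using Commute.zpow_self (t * x) k)

theorem l7_four (hs : IsSylowIn 2 (closure {t, x}) ⊤) {W : Subgroup C} (hW : IsPGroup 2 W) (ht : t ∈ W)
    (hu : u ∈ W) {c : C} (hc : c ∈ W) (c1 : c * t = t * c) (c2 : c * u = u * c) :
    c = 1 ∨ c = t ∨ c = u ∨ c = t * u := by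
  obtain ⟨e⟩ := h.l7_dih
  obtain ⟨g, -, hg⟩ := hs.exists_cj_le hW le_top
  obtain ⟨f, hf⟩ : ∃ f : W →* DihedralGroup 4, Injective f :=
    ⟨e.toMonoidHom.comp ((inclusion hg).comp (cjEquiv g W).toMonoidHom),
      e.injective.comp ((inclusion_injective hg).comp (cjEquiv g W).injective)⟩
  have k : ∀ {a b : W}, f a = f b → (a : C) = b := fun e => congrArg Subtype.val (hf e)
  have k' : ∀ {a b : W}, (a : C) = b → f a = f b := fun e => congrArg f (Subtype.ext e)
  have := l7_d4 (f ⟨t, ht⟩) (f ⟨u, hu⟩) (f ⟨c, hc⟩)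
  simp only [← map_mul] at this
  rw [← map_one f] at this
  exact (this (k' h.tt) (k' h.uu) (fun e => h.l7_t1 (k e)) (fun e => h.u1 (k e)) (fun e => h.l7_tnu (k e))
    (k' h.l7_tu) (k' c1) (k' c2)).imp k (Or.imp k (Or.imp k k))

theorem l7_cent (hO : pPrimeCore 2 C = ⊥) (hs : IsSylowIn 2 (closure {t, x}) ⊤) {K : Subgroup C} [K.Normal]
    (ht : t ∈ K) (hx : x ∈ K) : centralizer (K : Set C) = ⊥ := by
  refine eq_bot_iff.2 (hO ▸ Core.le_pPrimeCore (Nat.coprime_two_right.2 (Nat.not_even_iff_odd.1 fun he => ?_)))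
  obtain ⟨⟨z, hz⟩, oz⟩ := exists_prime_orderOf_dvd_card' 2 he.two_dvd
  rw [orderOf_mk] at oz
  obtain ⟨g, -, hg⟩ := hs.exists_conj_mem (mem_top z) (isPGroup_zpowers_iff.2 ⟨1, oz⟩)
  have nrm : (centralizer (K : Set C)).Normal := inferInstance
  have h1 := mem_centralizer_iff.1 (nrm.conj_mem z hz g)
  have t' : t ∈ closure {t, x} := subset_closure (by simp)
  have x' : x ∈ closure {t, x} := subset_closure (by simp)
  have hu : u ∈ K := h.tx ▸ mul_mem (mul_mem ht hx) (mul_mem ht hx)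
  rcases h.l7_four hs hs.pgroup t' (h.tx ▸ mul_mem (mul_mem t' x') (mul_mem t' x')) hg (h1 t ht).symm
    (h1 u hu).symm with e | e | e | e
  · exact ne_one_of_ord ((ord_conj g z).trans oz) e
  · exact h.l7_ntx (e ▸ (h1 x hx).symm)
  · exact h.l7_ntx (mem_centralizer_iff.1 (h.d2 ▸ nrm.conj_mem u (e ▸ nrm.conj_mem z hz g) d) x hx).symm
  · have := h1 x hx
    rw [e, mul_assoc, ← h.l7_xu, ← mul_assoc, ← mul_assoc] at this
    exact h.l7_ntx (mul_right_cancel this).symm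

theorem l7_psl (hs : IsSylowIn 2 (closure {t, x}) ⊤) {K : Subgroup C} [hK : K.Normal] (tK : t ∈ K) (xK : x ∈ K)
    (cent : ∀ a ∈ K, ∀ g ∈ K, ∀ k ∈ K, Odd (orderOf a) → a ≠ 1 → g * a = a * g → k * a = a * k → g * k = k * g)
    (four : ∀ a ∈ K, ∀ v ∈ K, ∀ w ∈ K, Odd (orderOf a) → v * v = 1 → w * w = 1 → v ≠ 1 → w ≠ 1 → v ≠ w →
      v * a = a * v → w * a = a * w → a = 1)
    {Y : Subgroup C} (ho : Odd (Nat.card Y)) (ht : t ∈ normalizer (Y : Set C)) (hx : x ∈ normalizer (Y : Set C))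
    (hρ : ρ ∈ normalizer (Y : Set C)) {y : C} (hy : y ∈ Y) :
    x * y = y * x ∧ d * x * d⁻¹ * y = y * (d * x * d⁻¹) := by
  have uK : u ∈ K := h.tx ▸ mul_mem (mul_mem tK xK) (mul_mem tK xK)
  have oY : ∀ a ∈ Y, Odd (orderOf a) := fun a ha => ho.of_dvd_nat (orderOf_dvd_natCard Y ha)
  have key : ∀ P : Subgroup C, P ≤ Y ⊓ K → x ∈ normalizer (P : Set C) → u ∈ normalizer (P : Set C) →
      ρ ∈ normalizer (P : Set C) → P = ⊥ := by
    intro P
    induction P using WellFoundedLT.induction with | ind P ih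
    intro hP p1 p2 p3
    by_contra h0
    have oP : Odd (Nat.card P) := ho.of_dvd_nat (card_dvd_of_le (hP.trans inf_le_left))
    have := FT.odd_subgroup_solvable oP
    have := (nontrivial_iff_ne_bot P).2 h0
    have h9 := Group.IsSolvable.commutator_lt_top_of_nontrivial P
    rw [← map_subtype_lt_map_subtype, _root_.commutator_def, Subgroup.map_commutator, ← MonoidHom.range_eq_map,
      range_subtype] at h9
    have ab := commutator_eq_bot_iff_le_centralizer.1 (ih _ h9 (h9.le.trans hP)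
      (Core.normalizer_inf_le_normalizer_commutator _ _ ⟨p1, p1⟩)
      (Core.normalizer_inf_le_normalizer_commutator _ _ ⟨p2, p2⟩)
      (Core.normalizer_inf_le_normalizer_commutator _ _ ⟨p3, p3⟩))
    have kill : ∀ v ∈ K, v * v = 1 → v ≠ 1 → ρ * v * ρ⁻¹ ≠ v → P ⊓ Cx v ≤ ⊥ := by
      rintro v hv vv v1 vr a ⟨ha, av⟩
      by_contra a1
      have hb := Tech.conj_mem_of_mem_normalizer p3 ha
      have b1 := cent a (hP ha).2 v hv _ (hP hb).2 (oY a (hP ha).1) a1 (mem_Cx.1 av).symm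
        (mem_centralizer_iff.1 (ab ha) _ hb)
      have b2 := four _ (hP hb).2 v hv _ (hK.conj_mem v hv ρ) (oY _ (hP hb).1) vv
        (by rw [conj_mul, vv, mul_one, mul_inv_cancel]) v1 (fun e => v1 (by simpa [mul_inv_eq_one] using e))
        vr.symm b1 (mem_Cx.1 (conj_mem_Cx.2 av)).symm
      exact a1 (by simpa [mul_inv_eq_one] using b2)
    refine h0 (eq_bot_iff.2 (le_of_four oP (ord_two h.xx h.l7_x1) (ord_two h.uu h.u1) h.l7_xnu h.l7_xu p1 p2
      (kill x xK h.xx h.l7_x1 fun e => h.u1 (by simpa using h.r2.symm.trans e))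
      (kill u uK h.uu h.u1 fun e => h.l7_xnu (h.r1.symm.trans e))
      (kill _ (mul_mem xK uK) ?_ (fun e => h.l7_xnu ?_) fun e => h.l7_x1 ?_)))
    · rw [mul_assoc, ← mul_assoc u, ← h.l7_xu, mul_assoc, h.uu, mul_one, h.xx]
    · rw [eq_inv_of_mul_eq_one_left e, inv_eq_of_mul_eq_one_right h.uu]
    · rw [← conj_mul, h.r1, h.r2, mul_assoc, ← h.l7_xu, ← mul_assoc, h.xx, one_mul] at e
      simpa using e
  have nK : ∀ g : C, g ∈ normalizer (K : Set C) := fun g => (normalizer_eq_top K).ge (mem_top g)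
  have hu : u ∈ normalizer (Y : Set C) := h.tx ▸ mul_mem (mul_mem ht hx) (mul_mem ht hx)
  have h0 := key _ le_rfl (inf_normalizer_le_normalizer_inf ⟨hx, nK x⟩) (inf_normalizer_le_normalizer_inf ⟨hu, nK u⟩)
    (inf_normalizer_le_normalizer_inf ⟨hρ, nK ρ⟩)
  have cm : ∀ v ∈ K, v ∈ normalizer (Y : Set C) → v * y = y * v := fun v hv hn => by
    have h1 : v * y * v⁻¹ * y⁻¹ ∈ Y ⊓ K := mem_inf.2 ⟨mul_mem (Tech.conj_mem_of_mem_normalizer hn hy) (inv_mem hy), by
      rw [mul_assoc, mul_assoc, ← mul_assoc y]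
      exact mul_mem hv (hK.conj_mem _ (inv_mem hv) y)⟩
    rwa [h0, mem_bot, mul_inv_eq_one, mul_inv_eq_iff_eq_mul] at h1
  refine ⟨cm x xK hx, ?_⟩
  have yt : Commute t y := cm t tK ht
  have yu : Commute u y := cm u uK hu
  have tu : Commute t u := h.l7_tu
  have hW : IsPGroup 2 (K ⊓ Cx t ⊓ Cx u : Subgroup C) := isPGroup_iff_mem.2 fun c hc => by
    obtain ⟨k, m, hm, e⟩ := Nat.exists_eq_two_pow_mul_odd (orderOf_pos c).ne'
    have hc' := pow_mem hc (2 ^ k)
    exact ⟨k, four _ hc'.1.1 t tK u uK (hm.of_dvd_nat (orderOf_dvd_of_pow_eq_one (by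
      rw [← pow_mul, ← e, pow_orderOf_eq_one]))) h.tt h.uu h.l7_t1 h.u1 h.l7_tnu (mem_Cx.1 hc'.1.2).symm
      (mem_Cx.1 hc'.2).symm⟩
  obtain ⟨x', hx'⟩ : ∃ x', x' = d * x * d⁻¹ := ⟨_, rfl⟩
  rw [← hx']
  have xK' : x' ∈ K := hx' ▸ hK.conj_mem x xK d
  have a1 : Commute t x' := by
    have : Commute (d * u * d⁻¹) (d * x * d⁻¹) := by
      rw [Commute, SemiconjBy, conj_mul, conj_mul, h.l7_xu]
    rwa [h.d2, ← hx'] at this
  have a2 : x'⁻¹ * u * x' = u * t := by
    rw [hx', conj_inv, h.l7_xi]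
    conv_lhs => rw [← h.d1, conj_mul, conj_mul, h.l7_xt, ← conj_mul, h.d1, h.d2]
  have c1 : Commute t (y * x' * y⁻¹ * x'⁻¹) := ((yt.mul_right a1).mul_right yt.inv_right).mul_right a1.inv_right
  have c2 : y * x' * y⁻¹ * x'⁻¹ * u = u * (y * x' * y⁻¹ * x'⁻¹) := by
    have b1 : y⁻¹ * (u * t) * y = u * t := by rw [mul_assoc, (yu.mul_left yt).eq, inv_mul_cancel_left]
    have b2 : y * u * y⁻¹ = u := by rw [← yu.eq, mul_inv_cancel_right]
    calc y * x' * y⁻¹ * x'⁻¹ * u = y * x' * (y⁻¹ * (x'⁻¹ * u * x') * y) * y⁻¹ * x'⁻¹ := by group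
      _ = y * x' * (x'⁻¹ * u * x') * y⁻¹ * x'⁻¹ := by rw [a2, b1]
      _ = y * u * y⁻¹ * (y * x' * y⁻¹ * x'⁻¹) := by group
      _ = _ := by rw [b2]
  have c3 : y * x' * y⁻¹ * x'⁻¹ ∈ K := mul_mem (hK.conj_mem _ xK' y) (inv_mem xK')
  have c4 : y * (y * x' * y⁻¹ * x'⁻¹) = y * x' * y⁻¹ * x'⁻¹ * y ∧
      y * x' * y⁻¹ * x'⁻¹ * (y * x' * y⁻¹ * x'⁻¹) = 1 := by
    rcases h.l7_four hs hW ⟨⟨tK, mem_Cx.2 rfl⟩, mem_Cx.2 tu.eq⟩ ⟨⟨uK, mem_Cx.2 tu.eq.symm⟩, mem_Cx.2 rfl⟩
      ⟨⟨c3, mem_Cx.2 c1.eq.symm⟩, mem_Cx.2 c2⟩ c1.eq.symm c2 with e | e | e | e <;> rw [e]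
    · exact ⟨by rw [mul_one, one_mul], mul_one 1⟩
    · exact ⟨yt.eq.symm, h.tt⟩
    · exact ⟨yu.eq.symm, h.uu⟩
    · exact ⟨(yt.mul_left yu).eq.symm, by
        rw [mul_assoc, ← mul_assoc u, ← tu.eq, mul_assoc, h.uu, mul_one, h.tt]⟩
  exact (odd_fix (oY y hy) (inv_mul_cancel_right _ x').symm c4.1 c4.2).symm

end DC

/-- `K = ⟨{t, x}^C⟩` is perfect (`K / K'` is generated by the images of `t, x`; `u = [t, x] ∈ K'`,
`K'` is normal in `C`, `x ∼ u ∼ t`), `⟨t, x⟩ ≅ D₈` is Sylow in `K`, `O(K) = 1`; S0483. `C_C(K)` meets `K`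
trivially, so has odd order and is trivial. `K ≅ A₇`: `C` embeds in `S₇`
(`AltAut.exists_hom_perm_of_ne_six`) and `|C : K|` is odd, so `C = K`, `l7c` (`Y = ⊥` gives the second
alternative). `K ≅ L₂(q)`: `Y ⊓ K = 1`: otherwise it is solvable (`FT.odd_subgroup_solvable`) and has
a characteristic abelian subgroup `P ≠ 1`, normalized by `x, u, ρ`; some `C_P(v) ≠ 1`, so by `ρ`
there are `1 ≠ a ∈ C_P(u)`, `1 ≠ b ∈ C_P(x)`; `u, b ∈ C_K(a)` commute (`psl_cent`), against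
`psl_four`. So `[Y, t], [Y, x] ≤ Y ⊓ K = 1`. `x' = d x d⁻¹ ∈ K` normalizes `V' = ⟨t, u⟩`, `y ∈ Y`
centralizes `V'`, so `[y, x'] ∈ C_K(V') = V'` (a 2-group by `psl_four`, conjugate into `D₈`);
`y x' y⁻¹ = c x'` is an involution, so `c ∈ ⟨t⟩`; `odd_fix`. -/
theorem l7a {C : Type*} [Group C] [Finite C] (hO : pPrimeCore 2 C = ⊥) {t x u ρ d : C}
    (h : DC t x u ρ d) (hs : IsSylowIn 2 (closure {t, x}) ⊤) {Y : Subgroup C} (ho : Odd (Nat.card Y))
    (ht : t ∈ normalizer (Y : Set C)) (hx : x ∈ normalizer (Y : Set C))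
    (hρ : ρ ∈ normalizer (Y : Set C)) :
    (Nat.card Y = 3 ∧ ∀ y ∈ Y, t * y * t⁻¹ = y⁻¹ ∧ x * y * x⁻¹ = y) ∨
      ∀ y ∈ Y, x * y = y * x ∧ d * x * d⁻¹ * y = y * (d * x * d⁻¹) := by
  have uK : u ∈ normalClosure {u} := subset_normalClosure rfl
  have nK : (normalClosure {u}).Normal := inferInstance
  have tK : t ∈ normalClosure {u} := h.d2 ▸ nK.conj_mem u uK d
  have xK : x ∈ normalClosure {u} := h.r1 ▸ nK.conj_mem u uK ρ
  have pf : ⁅normalClosure {u}, normalClosure {u}⁆ = normalClosure {u} := le_antisymm (commutator_le_self _)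
    (normalClosure_le_normal (Set.singleton_subset_iff.2 (by
      have := commutator_mem_commutator tK xK
      rwa [← h.l7_comm] at this)))
  generalize normalClosure {u} = K at uK nK tK xK pf
  have := isPerfect_iff.2 pf
  have hD : closure {t, x} ≤ K := (closure_le _).2 (Set.insert_subset tK (Set.singleton_subset_iff.2 xK))
  have hsK := hs.of_le hD le_top
  obtain ⟨e⟩ := h.l7_dih
  have hOK : oddCore K = ⊥ := (map_eq_bot_iff_of_injective _ K.subtype_injective).1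
    (eq_bot_iff.2 (hO ▸ opOf_le_pPrimeCore nK.isSubnormal))
  let e0 : K ≃* K ⧸ oddCore K :=
    QuotientGroup.quotientBot.symm.trans (QuotientGroup.quotientMulEquivOfEq hOK.symm)
  rcases Cfsg.Agent.S0483.result hsK.toSylow 4 (by norm_num) ⟨(subgroupOfEquivOfLe hD).trans e⟩ with
    ⟨F, _, _, hF, -, ⟨f⟩⟩ | ⟨⟨f⟩⟩
  · have f := e0.trans f
    have k : ∀ {a b : K}, f a = f b → (a : C) = b := fun e => congrArg Subtype.val (f.injective e)
    have k' : ∀ {a b : K}, (a : C) = b → f a = f b := fun e => congrArg f (Subtype.ext e)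
    refine Or.inr fun y hy => h.l7_psl hs tK xK (fun a ha g hg b hb o a1 c1 c2 => ?_)
      (fun a ha v hv w hw o vv ww v1 w1 vw c1 c2 => ?_) ho ht hx hρ hy
    · have := psl_cent hF (a := f ⟨a, ha⟩) (g := f ⟨g, hg⟩) (k := f ⟨b, hb⟩) (by rwa [f.orderOf_eq, orderOf_mk])
      simp only [← map_mul] at this
      rw [← map_one f] at this
      exact k (this (fun e => a1 (k e)) (k' c1) (k' c2))
    · have := psl_four hF (a := f ⟨a, ha⟩) (x := f ⟨v, hv⟩) (u := f ⟨w, hw⟩) (by rwa [f.orderOf_eq, orderOf_mk])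
      simp only [← map_mul] at this
      rw [← map_one f] at this
      exact k (this (k' vv) (k' ww) (fun e => v1 (k e)) (fun e => w1 (k e)) (fun e => vw (k e)) (k' c1) (k' c2))
  · have f := e0.trans f
    obtain ⟨φ, hφ, -⟩ := AltAut.exists_hom_perm_of_ne_six (by simp) (by simp) f (h.l7_cent hO hs tK xK)
    have c1 : Nat.card C ∣ 2 * Nat.card K := by
      rw [Nat.card_congr f.toEquiv, mul_comm, ← alternatingGroup.index_eq_two (α := Fin 7), card_mul_index]
      exact card_dvd_of_injective φ hφ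
    have c2 : K.index ∣ 2 := by
      rwa [← K.index_mul_card, Nat.mul_dvd_mul_iff_right Nat.card_pos] at c1
    have c3 : K = ⊤ := index_eq_one.1 (((Nat.dvd_prime Nat.prime_two).1 c2).resolve_right fun e =>
      hs.not_dvd (by rw [relIndex_top_right, ← e]; exact index_dvd_of_le hD))
    have E : C ≃* alternatingGroup (Fin 7) := topEquiv.symm.trans ((MulEquiv.subgroupCongr c3.symm).trans f)
    have n : ∀ {g}, g ∈ normalizer (Y : Set C) → E g ∈ normalizer (Y.map E.toMonoidHom : Set _) := fun hg =>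
      le_normalizer_map _ (mem_map_of_mem E.toMonoidHom hg)
    have cY : Nat.card (Y.map E.toMonoidHom) = Nat.card Y := card_map_of_injective E.injective
    rcases l7c (h.l7_map E) (cY ▸ ho) (n ht) (n hx) (n hρ) with e | ⟨e1, e2⟩
    · refine Or.inr fun y hy => ?_
      rw [(map_eq_bot_iff_of_injective _ E.injective).1 e, mem_bot] at hy
      simp [hy]
    · refine Or.inl ⟨cY ▸ e1, fun y hy => ?_⟩
      have := e2 (E y) (mem_map_of_mem E.toMonoidHom hy)
      simp only [← map_inv, ← map_mul] at this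
      exact ⟨E.injective this.1, E.injective this.2⟩

end CfsgLib.Har
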