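import Cfsg.Agent.Lib.Har.Defs3

/-!
Project HAR (S1918, plans/HAR.md). Two facts on `L₂(q)`, `q` odd (package L7B).
-/

set_option autoImplicit false
set_option Elab.async false
set_option linter.unusedSectionVars false
set_option synthInstance.maxSize 100000
set_option maxRecDepth 100000

namespace CfsgLib.Har

open Subgroup Equiv Function CfsgLib.W2 CfsgLib.W2.TG CfsgLib.Tech CfsgLib.PComp Cfsg CfsgLib.A16
  CfsgLib.SylT

variable {F : Type} [Field F] [Fintype F]

theorem l7b_one (M : Matrix.SpecialLinearGroup (Fin 2) F) :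
    (QuotientGroup.mk M : Matrix.ProjectiveSpecialLinearGroup (Fin 2) F) = 1 ↔
      M.1 0 1 = 0 ∧ M.1 1 0 = 0 ∧ M.1 0 0 = M.1 1 1 := by
  rw [QuotientGroup.eq_one_iff, Matrix.SpecialLinearGroup.mem_center_iff]
  constructor
  · rintro ⟨r, -, e⟩
    rw [← e]
    simp
  · rintro ⟨h1, h2, h3⟩
    have d := M.2
    rw [Matrix.det_fin_two, h1, ← h3] at d
    refine ⟨M.1 0 0, by simpa [sq] using d, ?_⟩
    ext i j
    fin_cases i <;> fin_cases j <;> simp [h1, h2, h3]

theorem l7b_two (hF : Odd (Fintype.card F)) : (2 : F) ≠ 0 := fun h => by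
  have : ringChar F = 2 := CharP.ringChar_of_prime_eq_zero Nat.prime_two (by exact_mod_cast h)
  have := FiniteField.even_card_of_char_two this
  obtain ⟨k, hk⟩ := hF
  omega

theorem l7b_mul (A B : Matrix.SpecialLinearGroup (Fin 2) F) (i j : Fin 2) :
    (A * B).1 i j = A.1 i 0 * B.1 0 j + A.1 i 1 * B.1 1 j := by
  rw [Matrix.SpecialLinearGroup.coe_mul, Matrix.mul_apply, Fin.sum_univ_two]

/-- the lifts commute -/
theorem l7b_comm (hF : Odd (Fintype.card F)) {A G : Matrix.SpecialLinearGroup (Fin 2) F}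
    (ho : Odd (orderOf (QuotientGroup.mk A : Matrix.ProjectiveSpecialLinearGroup (Fin 2) F)))
    (h1 : (QuotientGroup.mk A : Matrix.ProjectiveSpecialLinearGroup (Fin 2) F) ≠ 1)
    (h : (QuotientGroup.mk G : Matrix.ProjectiveSpecialLinearGroup (Fin 2) F) * QuotientGroup.mk A =
      QuotientGroup.mk A * QuotientGroup.mk G) :
    G.1 0 1 * A.1 1 0 = A.1 0 1 * G.1 1 0 ∧ A.1 0 1 * (G.1 0 0 - G.1 1 1) = G.1 0 1 * (A.1 0 0 - A.1 1 1) ∧
      A.1 1 0 * (G.1 0 0 - G.1 1 1) = G.1 1 0 * (A.1 0 0 - A.1 1 1) := by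
  obtain ⟨Z, hZ⟩ : ∃ Z, Z = G * A * (A * G)⁻¹ := ⟨_, rfl⟩
  have e0 : (QuotientGroup.mk Z : Matrix.ProjectiveSpecialLinearGroup (Fin 2) F) = 1 := by
    rw [hZ, QuotientGroup.mk_mul, QuotientGroup.mk_inv, QuotientGroup.mk_mul, QuotientGroup.mk_mul, h,
      mul_inv_cancel]
  obtain ⟨z1, z2, z3⟩ := (l7b_one Z).1 e0
  have e : G * A = Z * (A * G) := by rw [hZ, inv_mul_cancel_right]
  have dZ := Z.2
  rw [Matrix.det_fin_two, z1, ← z3, zero_mul, sub_zero, mul_self_eq_one_iff] at dZ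
  have f := fun i j => congrArg (fun M : Matrix.SpecialLinearGroup (Fin 2) F => M.1 i j) e
  have f00 := f 0 0
  have f01 := f 0 1
  have f10 := f 1 0
  have f11 := f 1 1
  simp only [l7b_mul, z1, z2, ← z3, zero_mul, add_zero, zero_add] at f00 f01 f10 f11
  rcases dZ with r | r
  · rw [r] at f00 f01 f10 f11
    exact ⟨by linear_combination f00, by linear_combination f01, by linear_combination -f10⟩
  · exfalso
    rw [r] at f00 f01 f10 f11
    have dG := G.2
    rw [Matrix.det_fin_two] at dG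
    have t : A.1 0 0 + A.1 1 1 = 0 := by
      refine mul_left_cancel₀ (l7b_two hF) ?_
      linear_combination G.1 1 1 * f00 - G.1 1 0 * f01 - G.1 0 1 * f10 + G.1 0 0 * f11
        - 2 * (A.1 0 0 + A.1 1 1) * dG
    have e2 : (QuotientGroup.mk (A * A) : Matrix.ProjectiveSpecialLinearGroup (Fin 2) F) = 1 := by
      rw [l7b_one, l7b_mul, l7b_mul, l7b_mul, l7b_mul]
      exact ⟨by linear_combination A.1 0 1 * t, by linear_combination A.1 1 0 * t,
        by linear_combination (A.1 0 0 - A.1 1 1) * t⟩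
    rw [QuotientGroup.mk_mul, ← sq] at e2
    have h2 := orderOf_dvd_of_pow_eq_one e2
    rcases (Nat.dvd_prime Nat.prime_two).1 h2 with h3 | h3
    · exact h1 (orderOf_eq_one_iff.1 h3)
    · rw [h3] at ho
      exact absurd ho (by decide)

theorem l7b_prop {b c e q r p q' r' p' : F} (h : ¬ (b = 0 ∧ c = 0 ∧ e = 0))
    (h1 : q * c = b * r ∧ b * p = q * e ∧ c * p = r * e) (h2 : q' * c = b * r' ∧ b * p' = q' * e ∧ c * p' = r' * e) :
    q * r' = q' * r ∧ q' * p = q * p' ∧ r' * p = r * p' := by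
  obtain ⟨a1, a2, a3⟩ := h1
  obtain ⟨b1, b2, b3⟩ := h2
  by_cases hb : b = 0
  · by_cases hc : c = 0
    · have he : e ≠ 0 := fun he => h ⟨hb, hc, he⟩
      subst hb hc
      have k : ∀ {x y : F}, 0 * y = x * e → x = 0 := fun h => by
        rw [zero_mul] at h
        exact (mul_eq_zero.1 h.symm).resolve_right he
      rw [k a2, k a3, k b2, k b3]
      simp
    · refine ⟨mul_left_cancel₀ hc ?_, mul_left_cancel₀ hc ?_, mul_left_cancel₀ hc ?_⟩
      · linear_combination r' * a1 - r * b1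
      · linear_combination p * b1 - p' * a1 + (r' * p - r * p') * hb
      · linear_combination r' * a3 - r * b3
  · refine ⟨mul_left_cancel₀ hb ?_, mul_left_cancel₀ hb ?_, mul_left_cancel₀ hb ?_⟩
    · linear_combination q' * a1 - q * b1
    · linear_combination q' * a2 - q * b2
    · have k : q * r' = q' * r := mul_left_cancel₀ hb (by linear_combination q' * a1 - q * b1)
      linear_combination r' * a2 - r * b2 + e * k

/-- Lift `a` to `A ∈ SL₂` of odd order, not scalar; `g A g⁻¹ = ± A` forces `+` (orders), and the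
matrices commuting with a nonscalar `2 × 2` matrix commute with each other. -/
theorem psl_cent (hF : Odd (Fintype.card F)) {a g k : Matrix.ProjectiveSpecialLinearGroup (Fin 2) F}
    (ho : Odd (orderOf a)) (h1 : a ≠ 1) (hg : g * a = a * g) (hk : k * a = a * k) :
    g * k = k * g := by
  obtain ⟨A, rfl⟩ := QuotientGroup.mk_surjective a
  obtain ⟨G, rfl⟩ := QuotientGroup.mk_surjective g
  obtain ⟨K, rfl⟩ := QuotientGroup.mk_surjective k
  obtain ⟨e1, e2, e3⟩ := l7b_prop (fun h => h1 ((l7b_one A).2 ⟨h.1, h.2.1, sub_eq_zero.1 h.2.2⟩))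
    (l7b_comm hF ho h1 hg) (l7b_comm hF ho h1 hk)
  rw [← QuotientGroup.mk_mul, ← QuotientGroup.mk_mul]
  congr 1
  refine Matrix.SpecialLinearGroup.ext _ _ fun i j => ?_
  change (G * K).1 i j = (K * G).1 i j
  rw [l7b_mul, l7b_mul]
  fin_cases i <;> fin_cases j
  · exact (by linear_combination e1 : G.1 0 0 * K.1 0 0 + G.1 0 1 * K.1 1 0 = K.1 0 0 * G.1 0 0 + K.1 0 1 * G.1 1 0)
  · exact (by linear_combination e2 : G.1 0 0 * K.1 0 1 + G.1 0 1 * K.1 1 1 = K.1 0 0 * G.1 0 1 + K.1 0 1 * G.1 1 1)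
  · exact (by linear_combination -e3 :
      G.1 1 0 * K.1 0 0 + G.1 1 1 * K.1 1 0 = K.1 1 0 * G.1 0 0 + K.1 1 1 * G.1 1 0)
  · exact (by linear_combination -e1 :
      G.1 1 0 * K.1 0 1 + G.1 1 1 * K.1 1 1 = K.1 1 0 * G.1 0 1 + K.1 1 1 * G.1 1 1)

theorem l7b_tr {X : Matrix.SpecialLinearGroup (Fin 2) F}
    (h : (QuotientGroup.mk X : Matrix.ProjectiveSpecialLinearGroup (Fin 2) F) * QuotientGroup.mk X = 1)
    (h1 : (QuotientGroup.mk X : Matrix.ProjectiveSpecialLinearGroup (Fin 2) F) ≠ 1) : X.1 1 1 = -X.1 0 0 := by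
  rw [← QuotientGroup.mk_mul, l7b_one, l7b_mul, l7b_mul, l7b_mul, l7b_mul] at h
  obtain ⟨a1, a2, a3⟩ := h
  by_contra t
  have t' : X.1 0 0 + X.1 1 1 ≠ 0 := fun e => t (by linear_combination e)
  exact h1 ((l7b_one X).2 ⟨mul_left_cancel₀ t' (by linear_combination a1),
    mul_left_cancel₀ t' (by linear_combination a2), mul_left_cancel₀ t' (by linear_combination a3)⟩)

/-- Lifts `X`, `U` of `x`, `u` have trace zero (`X² = -1`) and commute with the lift `A` of odd order;
if `A` is not scalar, `X, U ∈ F[A]` commute and `F[A] ⊓ {trace 0}` is a line, so `U = ± X`. -/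
theorem psl_four (hF : Odd (Fintype.card F)) {a x u : Matrix.ProjectiveSpecialLinearGroup (Fin 2) F}
    (ho : Odd (orderOf a)) (hx : x * x = 1) (hu : u * u = 1) (x1 : x ≠ 1) (u1 : u ≠ 1) (e : x ≠ u)
    (h1 : x * a = a * x) (h2 : u * a = a * u) : a = 1 := by
  by_contra a1
  obtain ⟨A, rfl⟩ := QuotientGroup.mk_surjective a
  obtain ⟨X, rfl⟩ := QuotientGroup.mk_surjective x
  obtain ⟨U, rfl⟩ := QuotientGroup.mk_surjective u
  obtain ⟨e1, e2, e3⟩ := l7b_prop (fun h => a1 ((l7b_one A).2 ⟨h.1, h.2.1, sub_eq_zero.1 h.2.2⟩))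
    (l7b_comm hF ho a1 h1) (l7b_comm hF ho a1 h2)
  have tX := l7b_tr hx x1
  have tU := l7b_tr hu u1
  rw [tX, tU] at e2 e3
  have two := l7b_two hF
  have e4 : (QuotientGroup.mk (X * U) : Matrix.ProjectiveSpecialLinearGroup (Fin 2) F) = 1 := by
    rw [l7b_one, l7b_mul, l7b_mul, l7b_mul, l7b_mul, tX, tU]
    exact ⟨mul_left_cancel₀ two (by linear_combination e2), mul_left_cancel₀ two (by linear_combination -e3),
      by linear_combination e1⟩
  rw [QuotientGroup.mk_mul] at e4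
  exact e (mul_left_cancel (hx.trans e4.symm))

end CfsgLib.Har
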