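import Cfsg.Agent.Lib.Har.Wbm
import Cfsg.Agent.Lib.Har.Gen
import Cfsg.Agent.Lib.A16.Loc

/-!
Project HAR (S1918, plans/HAR.md). First consequences of `LB` (package LBAS); copy `Lib/A16/Loc.lean`.
-/

set_option autoImplicit false
set_option Elab.async false
set_option linter.unusedSectionVars false
set_option synthInstance.maxSize 100000
set_option maxRecDepth 100000

namespace CfsgLib.Har

open Subgroup Equiv Function CfsgLib.W2 CfsgLib.W2.TG CfsgLib.Tech CfsgLib.PComp Cfsg CfsgLib.A16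
  CfsgLib.SylT

variable {G : Type*} [Group G] [Finite G] {J : TW →* G} {π : G → WB} {ρ σ d x y : G} {r : Fin 4 → G}
  {W : Subgroup G}

namespace Lbas

theorem sq_of_s {w : WB} (h : w.s = 1) : w * w = 1 :=
  WB.ext' (fun p => by simp [h, WD.aa]) fun p => by simp [h]

theorem iT_inj : Injective iT := (injective_iff_map_eq_one _).2 fun t h => by
  have e : iT t = eB t.left * liftB (pw t.right) := by
    conv_lhs => rw [← SemidirectProduct.inl_left_mul_inr_right t, map_mul, iT_bW, iT_pW]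
  have h1 : t.right = 1 := pw_inj (by
    have := congrArg WB.s (e.symm.trans h)
    rw [WB.mul_s, eB_s, one_mul] at this
    rw [map_one]
    exact this)
  rw [h1, map_one, map_one, mul_one, h] at e
  exact SemidirectProduct.ext (eB_inj (e.symm.trans (map_one _).symm)) h1

theorem eq_one_of_comm {w : WB} (ho : Odd (orderOf w)) (h : ∀ i, w * eB (ue i) = eB (ue i) * w) : w = 1 := by
  have k : ∀ p q : Fin 8, (∀ i, bv (ue i).v q = bv (ue i).v p) → q = p ∨ q = mu1 p := by decide +kernel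
  have k2 : ∀ p, mu1 (mu1 p) = p := by decide +kernel
  have h1 : ∀ p, w.s⁻¹ p = p ∨ w.s⁻¹ p = mu1 p := fun p => k p _ fun i => by
    have := congrFun (congrArg WB.b (h i)) p
    rw [WB.mul_b, WB.mul_b, eB_s, eB_b, inv_one, Perm.one_apply, add_comm] at this
    exact add_right_cancel this
  have h2 : w.s⁻¹ * w.s⁻¹ = 1 := Perm.ext fun p => by
    rw [Perm.mul_apply, Perm.one_apply]
    rcases h1 p with e | e
    · rw [e, e]
    · rcases h1 (mu1 p) with e' | e'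
      · rw [e, e', w.s⁻¹.injective (e'.trans e.symm)]
      · rw [e, e', k2]
  have h3 : (w * w).s = 1 := by rw [WB.mul_s, ← inv_eq_one, mul_inv_rev, h2]
  exact eq_one_of_odd ho (k := 2) (by
    rw [show 2 ^ 2 = 2 + 2 from rfl, pow_add, sq]; exact sq_of_s h3)

theorem iT_ue (i : Fin 4) : iT (tE (ue i)) = eB (ue i) := by
  have k : ∀ i, iB (ub i) = ue i := by decide +kernel
  rw [tE, MonoidHom.comp_apply, ← z_facts.2.2.2.2.2 i, i1_bet, iT_bW, k]

end Lbas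

open Lbas

namespace LB

variable (L : LB J π)
include L

omit L in
theorem memH (t : TW) : J t ∈ Cx (J (bW ze)) := by
  refine mem_Cx.2 ?_
  rw [← map_mul, ← map_mul]
  exact congrArg J (iT_inj (by rw [map_mul, map_mul, iT_bW, eB_ze, zB_comm]))

noncomputable def hom : Cx (J (bW ze)) →* WB := MonoidHom.mk' (fun x => π x) fun x y => L.mul x.2 y.2

theorem one : π 1 = 1 := by
  exact map_one L.hom

theorem inv (hx : x ∈ Cx (J (bW ze))) : π x⁻¹ = (π x)⁻¹ := by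
  exact map_inv L.hom ⟨x, hx⟩

theorem conj (hx : x ∈ Cx (J (bW ze))) (hy : y ∈ Cx (J (bW ze))) :
    π (x * y * x⁻¹) = π x * π y * (π x)⁻¹ := by
  rw [L.mul (mul_mem hx hy) (inv_mem hx), L.mul hx hy, L.inv hx]

theorem sq (hx : x ∈ Cx (J (bW ze))) (h : x * x = 1) : π x * π x = 1 := by
  rw [← L.mul hx hx, h, L.one]

theorem odd_pi (hx : x ∈ Cx (J (bW ze))) (h : Odd (orderOf x)) : Odd (orderOf (π x)) :=
  h.of_dvd_nat ((orderOf_map_dvd L.hom ⟨x, hx⟩).trans (orderOf_mk _ _).dvd)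

theorem odd_ker (hx : x ∈ Cx (J (bW ze))) (h : π x = 1) : Odd (orderOf x) := by
  exact odd_of_mem_opOf ((L.ker hx).1 h)

theorem eq_one (hx : x ∈ Cx (J (bW ze))) {k : ℕ} (h : x ^ 2 ^ k = 1) (e : π x = 1) : x = 1 := by
  exact eq_one_of_odd (L.odd_ker hx e) h

theorem conj_of_eq (hx : x ∈ Cx (J (bW ze))) (hy : y ∈ Cx (J (bW ze))) (ex : x * x = 1)
    (ey : y * y = 1) (e : π x = π y) : ∃ c ∈ Cx (J (bW ze)), π c = 1 ∧ c * x * c⁻¹ = y := by
  have h1 := (L.ker (mul_mem hx hy)).1 (by rw [L.mul hx hy, e, L.sq hy ey])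
  obtain ⟨c, hc, e'⟩ := conj_of_odd ex ey (odd_of_mem_opOf h1)
  have h2 := zpowers_le.2 h1 hc
  exact ⟨c, opOf_le _ h2, (L.ker (opOf_le _ h2)).2 h2, e'⟩

theorem conj_of_conj (hx : x ∈ Cx (J (bW ze))) (hy : y ∈ Cx (J (bW ze))) (ex : x * x = 1)
    (ey : y * y = 1) {a : WB} (e : a * π x * a⁻¹ = π y) :
    ∃ c ∈ Cx (J (bW ze)), π c = a ∧ c * x * c⁻¹ = y := by
  obtain ⟨n, hn, rfl⟩ := L.surj a
  obtain ⟨c, hc, e1, e2⟩ := L.conj_of_eq (mul_mem (mul_mem hn hx) (inv_mem hn)) hy (conj_sq ex n) ey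
    (by rw [L.conj hn hx, e])
  exact ⟨c * n, mul_mem hc hn, by rw [L.mul hc hn, e1, one_mul], by rw [← e2]; group⟩

theorem lift_comm (hx : x ∈ Cx (J (bW ze))) (ex : x * x = 1) {a : WB} (e : a * π x = π x * a) :
    ∃ c ∈ Cx (J (bW ze)), π c = a ∧ c ∈ Cx x := by
  obtain ⟨c, hc, e1, e2⟩ := L.conj_of_conj hx hx ex ex (mul_inv_eq_iff_eq_mul.2 e)
  exact ⟨c, hc, e1, mem_Cx'.2 e2⟩

/-- `π y` has odd order, so `π y = inc w` (`mem_inc`); `A16.eq_one_of_odd_comm` with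
`μ = ν mu1 ν⁻¹`; as `A16.Loc.odd_le`. -/
theorem odd_le {Y : Subgroup G} (hY : Odd (Nat.card Y)) (ν : Perm (Fin 8))
    (h : ∀ i, ∃ t ∈ Cx (J (bW ze)), t ∈ normalizer (Y : Set G) ∧
      π t = liftB ν * eB (ue i) * (liftB ν)⁻¹) :
    Y ⊓ Cx (J (bW ze)) ≤ opOf 2 (Cx (J (bW ze))) := by
  intro y hy
  have ho : ∀ y ∈ Y, Odd (orderOf y) := fun y hy => hY.of_dvd_nat (orderOf_dvd_natCard _ hy)
  have h0 : (liftB ν)⁻¹ * π y * (liftB ν)⁻¹⁻¹ = 1 := by
    refine eq_one_of_comm (((MulAut.conj (liftB ν)⁻¹).orderOf_eq (π y)).symm ▸ L.odd_pi hy.2 (ho y hy.1))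
      fun i => ?_
    obtain ⟨t, h1, h2, e⟩ := h i
    have h3 : t * y⁻¹ * t⁻¹ ∈ Cx (J (bW ze)) := mul_mem (mul_mem h1 (inv_mem hy.2)) (inv_mem h1)
    have h4 := L.odd_pi (mul_mem hy.2 h3)
      (ho _ (mul_mem hy.1 (conj_mem_of_mem_normalizer h2 (inv_mem hy.1))))
    rw [L.mul hy.2 h3, L.conj h1 (inv_mem hy.2), L.inv hy.2] at h4
    have h5 : (π t).s = 1 := by rw [e, WB.mul_s, WB.mul_s, eB_s, WB.inv_s, mul_one, mul_inv_cancel]
    have h6 := eq_one_of_odd h4 (k := 1) (by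
      rw [pow_one, _root_.sq]; exact sq_of_s (by simp [h5]))
    have h7 : π y * π t = π t * π y := by
      calc _ = π y * (π t * (π y)⁻¹ * (π t)⁻¹) * (π t * π y) := by group
        _ = _ := by rw [h6, one_mul]
    rw [e] at h7
    calc _ = (liftB ν)⁻¹ * (π y * (liftB ν * eB (ue i) * (liftB ν)⁻¹)) * liftB ν := by group
      _ = _ := by rw [h7]; group
  refine (L.ker hy.2).1 ?_
  calc π y = liftB ν * ((liftB ν)⁻¹ * π y * (liftB ν)⁻¹⁻¹) * (liftB ν)⁻¹ := by group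
    _ = 1 := by rw [h0]; group

/-- `π x` is conjugate to an element commuting with all `u_i` (`nf_inv`; `c u_i c⁻¹` depends only on
`c.s`); `lift_comm`, `odd_le` for `Y = O(C(x))`. -/
theorem bal (hx : x ∈ Cx (J (bW ze))) (ex : x * x = 1) :
    opOf 2 (Cx x) ⊓ Cx (J (bW ze)) ≤ opOf 2 (Cx (J (bW ze))) := by
  obtain ⟨c, δ, e, h1, -⟩ := nf_inv (L.sq hx ex)
  obtain ⟨e', h2⟩ := dec_WB c
  refine L.odd_le (odd_card_opOf _) (c.s)⁻¹ fun i => ?_
  have h3 : eB (ue i) * (c * π x * c⁻¹) = c * π x * c⁻¹ * eB (ue i) := by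
    have a1 : eB (ue i) * iT (tE e) = iT (tE e) * eB (ue i) := by
      rw [← iT_ue, ← map_mul, ← map_mul, ← map_mul, ← map_mul, mul_comm]
    rw [h1, map_mul, ← mul_assoc, mul_assoc _ (iT (tE e)), ← a1, ← mul_assoc]
    congr 1
    split_ifs
    · rw [iT_bW, ← map_mul, ← map_mul, mul_comm]
    · rw [map_one, mul_one, one_mul]
  have h4 : liftB (c.s)⁻¹ * eB (ue i) * (liftB (c.s)⁻¹)⁻¹ = c⁻¹ * eB (ue i) * c := by
    have a1 : eB (ue i) * eB e' = eB e' * eB (ue i) := by rw [← map_mul, ← map_mul, mul_comm]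
    generalize c.s = s at h2
    rw [h2, map_inv]
    calc _ = (liftB s)⁻¹ * (eB e')⁻¹ * (eB e' * eB (ue i)) * liftB s := by group
      _ = _ := by rw [← a1]; group
  obtain ⟨t, t1, t2, t3⟩ := L.lift_comm hx ex (a := c⁻¹ * eB (ue i) * c) (by
    calc _ = c⁻¹ * (eB (ue i) * (c * π x * c⁻¹)) * c := by group
      _ = _ := by rw [h3]; group)
  exact ⟨t, t1, le_normalizer_opOf _ t3, t2.trans h4.symm⟩

end LB

end CfsgLib.Har
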