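import Cfsg.Agent.Lib.Har.Ags2
import Cfsg.Agent.Lib.ExtraTwo.Coord

/-!
Project HAR (S1918, plans/HAR.md). The hypothesis of S1918 gives `Hy` (package M0).
-/

set_option autoImplicit false
set_option Elab.async false
set_option linter.unusedSectionVars false
set_option synthInstance.maxSize 100000
set_option maxRecDepth 100000

namespace CfsgLib.Har

open Subgroup Equiv Function CfsgLib.W2 CfsgLib.W2.TG CfsgLib.Tech CfsgLib.PComp Cfsg CfsgLib.A16
  CfsgLib.SylT

theorem m0_eps {X : Type*} [Group X] [Finite X] {E : Subgroup X} (hE : IsElementaryAbelian 2 E)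
    (h16 : Nat.card E = 16) : ∃ ε : Fin 16 → X, Injective ε ∧ (∀ p, ε p ∈ E) ∧ (∀ x ∈ E, ∃ p, ε p = x) ∧
      ∀ p q, ε (xr p q) = ε p * ε q := by
  have sq : ∀ x ∈ E, x * x = 1 := fun x hx => pow_two x ▸ hE.2 x hx
  obtain ⟨n, π, h1, h2, h3⟩ := ExtraTwo.exists_coord_of_sq_mem E ⊥ (fun x hx => mem_bot.2 (sq x hx))
    fun x _ y _ hy => by rw [mem_bot.1 hy]; simp
  have inj : ∀ x ∈ E, ∀ y ∈ E, π x = π y → x = y := fun x hx y hy e => by
    have := mem_bot.1 ((h3 _ (mul_mem hx hy)).1 (by rw [h1 x hx y hy, e, ExtraTwo.add_self_zmod2]))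
    rw [← mul_right_inj x, this, sq x hx]
  have hn : n = 4 := by
    have := Nat.card_eq_of_bijective (fun x : E => π x) ⟨fun x y e => Subtype.ext (inj _ x.2 _ y.2 e),
      fun v => (h2 v).elim fun x h => ⟨⟨x, h.1⟩, h.2⟩⟩
    rw [h16, Nat.card_fun, Nat.card_zmod, Nat.card_eq_fintype_card, Fintype.card_fin] at this
    exact Nat.pow_right_injective le_rfl this.symm
  subst hn
  choose s hs hs' using h2
  obtain ⟨d, d1, d2, d3⟩ : ∃ d : Fin 16 → Fin 4 → ZMod 2, (∀ p q, d p = d q → p = q) ∧ (∀ v, ∃ p, d p = v) ∧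
      ∀ p q, d (xr p q) = d p + d q :=
    ⟨fun p i => ((p.val / 2 ^ i.val : ℕ) : ZMod 2), by decide +kernel⟩
  refine ⟨fun p => s (d p), fun p q e => d1 p q ?_, fun p => hs _, fun x hx => ?_, fun p q => ?_⟩
  · rw [← hs' (d p), ← hs' (d q)]; exact congrArg π e
  · obtain ⟨p, e⟩ := d2 (π x)
    exact ⟨p, inj _ (hs _) _ hx (by rw [hs', e])⟩
  · exact inj _ (hs _) _ (mul_mem (hs _) (hs _)) (by rw [h1 _ (hs _) _ (hs _), hs', hs', hs', d3])

theorem m0_mu {X : Type*} [Group X] [Finite X] {E K : Subgroup X} (hn : E.Normal) (hE : IsElementaryAbelian 2 E)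
    (h16 : Nat.card E = 16) (hC : centralizer (E : Set X) = E) (h1 : E ⊓ K = ⊥) (h2 : E ⊔ K = ⊤)
    (h3 : Nonempty (K ≃* GL (Fin 4) (ZMod 2))) : ∃ μ : X →* P16, Injective μ ∧ μ.range = AG := by
  obtain ⟨ε, inj, mem, sur, add⟩ := m0_eps hE h16
  have sq : ∀ x ∈ E, x * x = 1 := fun x hx => pow_two x ▸ hE.2 x hx
  have com : ∀ x ∈ E, ∀ y ∈ E, x * y = y * x := fun x hx y hy => hC.ge hy x hx
  have e0 : ε 0 = 1 := by
    have := add 0 0
    rwa [xr_facts.2.2.1, sq _ (mem 0)] at this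
  have dec : ∀ g : X, ∃ e ∈ E, ∃ k ∈ K, e * k = g := fun g =>
    (mem_sup_of_normal_left (s := E) (t := K)).1 (h2 ▸ mem_top g)
  have u : ∀ x ∈ E, ∀ y ∈ E, (x : X ⧸ K) = y → x = y := fun x hx y hy e => by
    rw [← inv_mul_eq_one, ← mem_bot, ← h1]
    exact mem_inf.2 ⟨mul_mem (inv_mem hx) hy, QuotientGroup.eq.1 e⟩
  let β : Fin 16 ≃ X ⧸ K := Equiv.ofBijective (fun p => (ε p : X ⧸ K))
    ⟨fun p q e => inj (u _ (mem p) _ (mem q) e), fun x => by
      obtain ⟨g, rfl⟩ := QuotientGroup.mk_surjective x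
      obtain ⟨e, he, k, hk, rfl⟩ := dec g
      obtain ⟨p, rfl⟩ := sur e he
      exact ⟨p, (QuotientGroup.mk_mul_of_mem _ hk).symm⟩⟩
  let μ : X →* P16 := β.symm.permCongrHom.toMonoidHom.comp (MulAction.toPermHom X (X ⧸ K))
  have key : ∀ e ∈ E, ∀ k ∈ K, ∀ p, ε (μ (e * k) p) = e * (k * ε p * k⁻¹) := fun e he k hk p => by
    refine u _ (mem _) _ (mul_mem he (hn.conj_mem _ (mem p) k)) ?_
    have : β (μ (e * k) p) = (e * k) • β p := β.apply_symm_apply _
    refine this.trans ?_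
    change ((e * k * ε p : X) : X ⧸ K) = _
    rw [← QuotientGroup.mk_mul_of_mem (e * k * ε p) (inv_mem hk)]
    congr 1; group
  have i : Injective μ := (injective_iff_map_eq_one μ).2 fun g hg => by
    obtain ⟨e, he, k, hk, rfl⟩ := dec g
    have a := key e he k hk
    simp only [hg, Perm.one_apply] at a
    have a0 : e = 1 := by simpa [e0] using (a 0).symm
    rw [a0, one_mul, ← mem_bot, ← h1]
    refine mem_inf.2 ⟨hC.le fun x hx => ?_, hk⟩
    obtain ⟨p, rfl⟩ := sur x hx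
    rw [← mul_inv_eq_iff_eq_mul.1 (by simpa [a0] using (a p).symm : k * ε p * k⁻¹ = ε p)]
  refine ⟨μ, i, eq_of_le_of_card_ge ?_ ?_⟩
  · rintro _ ⟨g, rfl⟩ p q
    obtain ⟨e, he, k, hk, rfl⟩ := dec g
    refine inj ?_
    rw [add, add, key e he k hk, key e he k hk, key e he k hk, key e he k hk, add, e0, mul_one, mul_inv_cancel,
      mul_one, mul_assoc _ _ e, mul_assoc e _ e, ← com e he _ (hn.conj_mem _ (mem q) k), ← mul_assoc e e, sq e he,
      one_mul]
    group
  · obtain ⟨f⟩ := h3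
    obtain ⟨g⟩ := InvChar.nonempty_GL_four_two_equiv
    rw [card_AG, ← Nat.card_congr (MonoidHom.ofInjective i).toEquiv, card_eq_card_quotient_mul_card_subgroup K,
      ← Nat.card_congr β, Nat.card_congr (f.trans g).toEquiv, nat_card_alternatingGroup]
    simp [Nat.factorial]

/-- Let `N̄ = N / O(N)`. Choose `ε : Multiplicative (Fin 16 with xr) ≅ E` (`E` is elementary abelian of
order 16: a bijection `ε : Fin 16 → E` with `ε (xr p q) = ε p * ε q`). `N̄ = E K` acts on `E` by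
`(e k) · x = e * (k x k⁻¹)` (the action on the cosets of `K`): a homomorphism `μ : N̄ →* P16` with
values in `AG`, injective (the kernel lies in `K` and centralizes `E`), onto `AG` by
`|N̄| = 16 * 20160 = card_AG`. `π₀ = μ ∘ mk : N →* AG`; `TL.exists_lift` (with `syl_i16`) gives
`J₀ : TL →* N`; `J = subtype ∘ J₀`. `A` is a normal 2-subgroup of `N`, so `A ≤ range J`; `π₀ A` is a
normal subgroup of `AG` of order 16 (`A ⊓ O(N) = ⊥`), so it is `TR = i16 AT` (`AG_normal`,
`map_AT`); hence `A = J AT`. Extend `π₀` by `1` outside `N`. -/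
theorem exists_hy {G : Type*} [Group G] [Finite G] (A : Subgroup G) (hA : IsElementaryAbelian 2 A)
    (hA16 : Nat.card A = 16)
    (hN : ∃ (E K : Subgroup (↥(normalizer (A : Set G)) ⧸ oddCore ↥(normalizer (A : Set G)))),
      E.Normal ∧ IsElementaryAbelian 2 E ∧ Nat.card E = 16 ∧
      centralizer (E : Set (↥(normalizer (A : Set G)) ⧸ oddCore ↥(normalizer (A : Set G)))) = E ∧
      E ⊓ K = ⊥ ∧ E ⊔ K = ⊤ ∧ Nonempty (K ≃* GL (Fin 4) (ZMod 2))) :
    ∃ (J : TL →* G) (π : G → P16), Hy J π := by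
  classical
  obtain ⟨E, K, h1, h2, h3, h4, h5, h6, h7⟩ := hN
  obtain ⟨μ, i, r⟩ := m0_mu h1 h2 h3 h4 h5 h6 h7
  let N := normalizer (A : Set G)
  let ν : N →* P16 := μ.comp (QuotientGroup.mk' (oddCore N))
  have m : ∀ x, ν x ∈ AG := fun x => r.le ⟨_, rfl⟩
  have su : ∀ g ∈ AG, ∃ x, ν x = g := fun g hg => by
    obtain ⟨y, rfl⟩ := r.ge hg
    obtain ⟨x, rfl⟩ := QuotientGroup.mk_surjective y
    exact ⟨x, rfl⟩
  have k : ∀ x, ν x = 1 ↔ x ∈ oddCore N := fun x =>
    (map_eq_one_iff μ i).trans (QuotientGroup.eq_one_iff x)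
  have ho : Odd (Nat.card (oddCore N)) := by
    have := odd_card_opOf (⊤ : Subgroup N)
    rwa [opOf_top] at this
  obtain ⟨J, e, sy⟩ := exists_lift (π := ν.codRestrict AG m) (ψ := i16.codRestrict AG i16_mem)
    (fun g => (su g g.2).imp fun _ => Subtype.ext)
    (by rwa [show (ν.codRestrict AG m).ker = oddCore N from Subgroup.ext fun x => Subtype.ext_iff.trans (k x)])
    (by
      have := IsSylowIn.of_sylow_top syl_i16.toSylow
      rwa [syl_i16.coe_toSylow, show i16.range.subgroupOf AG = (i16.codRestrict AG i16_mem).range from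
        Subgroup.ext fun x => exists_congr fun t => (Subtype.ext_iff (a1 := i16.codRestrict AG i16_mem t)).symm] at this)
  have e' : ∀ t, ν (J t) = i16 t := fun t => congrArg Subtype.val (DFunLike.congr_fun e t)
  have iJ : Injective (N.subtype.comp J) := fun a b h => i16_inj (by rw [← e', ← e', Subtype.ext h])
  have s1 : IsSylowIn 2 (N.subtype.comp J).range N := by
    have := IsSylowIn.of_sylow_subgroup sy.toSylowTop
    rwa [sy.coe_toSylowTop, MonoidHom.map_range] at this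
  have a1 : A ≤ (N.subtype.comp J).range := s1.le_of_le_normalizer
    (isPGroup_iff_mem.2 fun x hx => ⟨1, by simpa using hA.2 x hx⟩) le_normalizer le_rfl
  have a2 : (A.comap (N.subtype.comp J)).map (N.subtype.comp J) = A := map_comap_eq_self a1
  have a3 : Nat.card ((A.comap (N.subtype.comp J)).map i16) = 16 := by
    rw [card_map_of_injective i16_inj, ← card_map_of_injective iJ, a2, hA16]
  have a4 : AT.map (N.subtype.comp J) = A := by
    rcases AG_normal (N := (A.comap (N.subtype.comp J)).map i16) (by rintro _ ⟨t, -, rfl⟩; exact i16_mem t) (by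
      rintro g hg _ ⟨t, ht, rfl⟩
      obtain ⟨x, rfl⟩ := su g hg
      have := conj_mem_of_mem_normalizer x.2 ht
      obtain ⟨t', ht'⟩ := a1 this
      refine ⟨t', mem_comap.2 (ht' ▸ this), ?_⟩
      rw [← e', ← e', ← map_mul, ← map_inv, ← map_mul]
      exact congrArg ν (Subtype.ext ht')) with h | h | h
    · rw [h, card_bot] at a3; omega
    · rw [← map_injective i16_inj (h.trans map_AT.symm), a2]
    · rw [h, card_AG] at a3; omega
  have a5 : NA (N.subtype.comp J) = N := by rw [NA, a4]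
  refine ⟨N.subtype.comp J, fun x => if h : x ∈ N then ν ⟨x, h⟩ else 1, iJ, a5.symm ▸ s1, fun {x y} hx hy => ?_,
    fun t => (dif_pos (J t).2).trans (e' t), fun {x} hx => ?_, fun g hg => ?_, fun {x} hx h => ?_⟩
  · rw [a5] at hx hy
    rw [dif_pos hx, dif_pos hy, dif_pos (mul_mem hx hy), ← map_mul]; rfl
  · rw [a5] at hx
    rw [dif_pos hx]; exact m _
  · obtain ⟨x, rfl⟩ := su g hg
    exact ⟨x, a5.symm ▸ x.2, dif_pos x.2⟩
  · rw [a5] at hx
    rw [dif_pos hx, k] at h
    exact ho.of_dvd_nat (Subgroup.orderOf_mk x hx ▸ orderOf_dvd_natCard _ h)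

end CfsgLib.Har
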