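import Cfsg.Agent.Lib.Har.Scb
import Cfsg.Agent.Lib.A16.Fin1

/-!
Project HAR (S1918, plans/HAR.md). `C(z) / O(C(z)) = W(B₈)` (package PI).
-/

set_option autoImplicit false
set_option Elab.async false
set_option linter.unusedSectionVars false
set_option synthInstance.maxSize 100000
set_option maxRecDepth 100000

namespace CfsgLib.Har

open Subgroup Equiv Function CfsgLib.W2 CfsgLib.W2.TG CfsgLib.Tech CfsgLib.PComp Cfsg CfsgLib.A16
  CfsgLib.SylT

variable {G : Type*} [Group G] [Finite G] {J : TW →* G} {ρ σ d : G} {f : G → WB} {r : Fin 4 → G}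

theorem pi_soc : ∀ g : P8, g = 1 ∨ g = o 15 ∨ ∃ k ∈ ([o 64, o 3, o 1, o 4, o 16, o 32, o 5, o 48, o 33, o 20] : List P8),
    k * g * k⁻¹ * g⁻¹ = o 15 ∨ ∃ l ∈ ([o 64, o 3, o 1, o 4, o 16, o 32, o 5, o 48, o 33, o 20] : List P8),
      l * (k * g * k⁻¹ * g⁻¹) * l⁻¹ * (k * g * k⁻¹ * g⁻¹)⁻¹ = o 15 := by decide +kernel

/-- the argument in `H / O(H)` -/
theorem pi_surj {X N : Type*} [Group X] [Finite X] [Group N] {j : TW →* N} {ψ : N →* X} {F : N →* WB}
    {i : TW →* X} (hi : ∀ t, ψ (j t) = i t) (hO : pPrimeCore 2 X = ⊥) (syl : IsSylowIn 2 i.range ⊤)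
    (inj : Injective i) (sc : IsStronglyClosed (i.comp bW).range i.range) (Fs : Surjective F)
    (Fj : ∀ t, F (j t) = iT t) (wd : ∀ a b, ψ a = ψ b → F a = F b)
    (nB : ∀ n e, ∃ e', n * j (bW e) * n⁻¹ = j (bW e'))
    (lf : ∀ x ∈ normalizer ((i.comp bW).range : Set X), ∃ n, ψ n = x) : Surjective ψ := by
  set E := (i.comp bW).range with hE
  set K := normalClosure (E : Set X) with hK
  have Ec : ∀ a ∈ E, ∀ b ∈ E, a * b = b * a := by
    rintro _ ⟨a, rfl⟩ _ ⟨b, rfl⟩; rw [← map_mul, mul_comm, map_mul]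
  have hS : IsSylowIn 2 E K := by
    convert sylow_inf_normal syl.toSylowTop K using 1
    refine le_antisymm (le_inf sc.1 le_normalClosure) ?_
    rintro _ ⟨⟨s, rfl⟩, k⟩
    have : s.right = 1 := by
      refine (injective_iff_map_eq_one _).1 (injective_of_socle
        ((QuotientGroup.mk' K).comp (i.comp pW)) (z := o 15) (fun e => ?_) _ pi_soc) _
        ((QuotientGroup.eq_one_iff _).2 ?_)
      · obtain ⟨b, e'⟩ := mem_of_sc syl hO Ec sc ⟨_, rfl⟩ ((QuotientGroup.eq_one_iff _).1 e)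
          (by rw [← map_mul, ← map_mul, show (o 15 * o 15 : P8) = 1 by decide +kernel, map_one, map_one])
        exact absurd (show (1 : P8) = o 15 from congrArg SemidirectProduct.right (inj e')) (by decide +kernel)
      · rw [← SemidirectProduct.inl_left_mul_inr_right s, map_mul] at k
        exact (mul_mem_cancel_left (le_normalClosure (show _ ∈ E from ⟨_, rfl⟩))).1 k
    exact ⟨s.left, by
      rw [MonoidHom.comp_apply, ← SemidirectProduct.inl_left_mul_inr_right s, this, map_one, mul_one]; rfl⟩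
  have nE : ∀ n, ψ n ∈ normalizer (E : Set X) := fun n => mem_normalizer_of_forall (by
    rintro _ ⟨e, rfl⟩
    obtain ⟨e', he⟩ := nB n e
    exact ⟨e', by rw [MonoidHom.comp_apply, MonoidHom.comp_apply, ← hi, ← hi, ← he, map_mul, map_mul, map_inv]⟩)
  have ss : Surjective (sB.comp F) := fun s => let ⟨n, e⟩ := Fs (liftB s); ⟨n, congrArg sB e⟩
  have hM : (K.comap ψ).map (sB.comp F) = ⊥ := by
    by_contra hne
    have := Normal.map (inferInstance : (K.comap ψ).Normal) (sB.comp F) ss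
    obtain ⟨n, hn, e⟩ := Perm.alternatingGroup_le_of_normal (by simp) ((nontrivial_iff_ne_bot _).2 hne)
      (show Equiv.swap (0 : Fin 8) 1 * Equiv.swap 2 3 ∈ alternatingGroup (Fin 8) from
        Perm.mem_alternatingGroup.2 (by decide))
    have := (normal_subgroupOf_iff_le_normalizer (le_inf hS.le le_normalizer)).2 inf_le_right
    obtain ⟨b, hb⟩ : ψ n ^ E.relIndex (K ⊓ normalizer (E : Set X)) ∈ E :=
      pow_index_mem (H := E.subgroupOf (K ⊓ normalizer (E : Set X))) ⟨ψ n, hn, nE n⟩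
    rw [MonoidHom.comp_apply, ← hi, ← map_pow] at hb
    have e2 := congrArg sB (wd _ _ hb)
    rw [Fj, iT_bW, map_pow, map_pow, show sB (F n) = _ from e] at e2
    exact absurd (mem_bot.1 (mem_of_coprime_pow ((Nat.Prime.coprime_iff_not_dvd Nat.prime_two).2
      (hS.of_le (le_inf hS.le le_normalizer) inf_le_left).not_dvd) (H := ⊥)
      (x := Equiv.swap (0 : Fin 8) 1 * Equiv.swap 2 3) (mem_bot.2 (by decide)) (mem_bot.2 e2.symm))) (by decide)
  have hN : E.Normal := by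
    rw [le_antisymm hS.le (le_of_npc (npc_of_burnside hS fun x hx hx' => ?_) hS
      (by rw [opOf_eq_bot hO]; exact bot_le) le_rfl)]
    · infer_instance
    rintro _ ⟨e, rfl⟩
    obtain ⟨n, rfl⟩ := lf x hx'
    obtain ⟨e', he⟩ := nB n e
    obtain ⟨e₀, h0⟩ := dec_WB (F n)
    rw [show (F n).s = 1 from mem_bot.1 (hM.le ⟨n, hx, rfl⟩), map_one, mul_one] at h0
    have e2 := congrArg F he
    rw [map_mul, map_mul, map_inv, Fj, Fj, iT_bW, iT_bW, h0, ← map_inv, ← map_mul, ← map_mul,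
      mul_inv_cancel_comm] at e2
    obtain rfl := eB_inj e2
    rw [MonoidHom.comp_apply, ← hi, ← map_mul, ← map_mul, mul_inv_eq_iff_eq_mul.1 he]
  exact fun x => lf x (by rw [normalizer_eq_top]; trivial)

/-- In `H̄ = H / O(H)` the image of `B'` is strongly closed in the image of `T` (`scb`; lift the
conjugation over `O(H)`). `L = ⟨B'^H̄⟩`: if `T̄ ⊓ L > B'`, its image in `P8` is a nontrivial normal
subgroup and contains the central `o 15`, so `pW (o 15) ∈ L`, against `A16.mem_of_sc`. So `B'` is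
Sylow in `L`; `N_L(B')` acts on `B'` as a normal subgroup of odd order of `S₈`, trivially; Burnside:
`L = B' O(L) = B'`. So `B' O(H)` is normal in `H`, `H = O(H) N₀`. `π (c n) = f n`: well defined as
`f (N₀ ⊓ O(H))` is a normal subgroup of odd order of `WB` (`zB_mem`); `ker π = O(H) ker f` is normal
of odd order. -/
theorem TU.lb (h : TU J ρ σ) (hf : FB J f) (hu : Fus J) : ∃ π, LB J π := by
  classical
  have hH : ∀ t, J t ∈ Cx (J (bW ze)) := fun t => mem_Cx.2 (by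
    rw [← map_mul, ← map_mul]
    exact congrArg J (iT_inj (by rw [map_mul, map_mul, iT_bW, eB_ze, zB_comm])))
  have hN : ∀ t, J t ∈ N0 J := fun t => ⟨h.syl.le ⟨t, rfl⟩, hH t⟩
  let φ := QuotientGroup.mk' (pPrimeCore 2 (Cx (J (bW ze))))
  have hk : ∀ x, φ x = 1 ↔ (x : G) ∈ opOf 2 (Cx (J (bW ze))) := fun x =>
    (QuotientGroup.eq_one_iff x).trans mem_opOf_iff.symm
  have hko : ∀ x, φ x = 1 → Odd (orderOf (x : G)) := fun x e => odd_of_mem_opOf ((hk x).1 e)
  have φs : Surjective φ := QuotientGroup.mk'_surjective _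
  have hO := Core.pPrimeCore_quotient_pPrimeCore 2 (Cx (J (bW ze)))
  let ψ := φ.comp (inclusion (inf_le_right : N0 J ≤ _))
  let F : N0 J →* WB := MonoidHom.mk' (fun n => f n) fun a b => hf.mul a.2 b.2
  let j' := J.codRestrict _ hH
  have Fs : Surjective F := fun w => let ⟨x, hx, e⟩ := hf.surj w; ⟨⟨x, hx⟩, e⟩
  have k1 : ∀ n, ψ n = 1 → F n = 1 := fun n hn => by
    by_contra hne
    obtain ⟨c, hc, e⟩ := zB_mem (Normal.map (inferInstance : ψ.ker.Normal) F Fs)
      fun e => hne (mem_bot.1 (e.le ⟨n, hn, rfl⟩))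
    have o1 : Odd (orderOf (c : G)) := hko _ hc
    rw [orderOf_coe] at o1
    exact absurd (mem_bot.1 (mem_of_coprime_pow (Nat.coprime_two_left.2 o1) (H := ⊥) (x := zB)
      (mem_bot.2 (by decide)) (mem_bot.2 (by rw [← e, ← map_pow, pow_orderOf_eq_one, map_one])))) (by decide)
  have wd : ∀ a b, ψ a = ψ b → F a = F b := fun a b e => by
    rw [← mul_inv_eq_one, ← map_inv, ← map_mul]
    exact k1 _ (by rw [map_mul, map_inv, e, mul_inv_cancel])
  have inj : Injective (φ.comp j') := (injective_iff_map_eq_one _).2 fun t e => by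
    obtain ⟨k, hk⟩ := two_TW t
    have o1 : Odd (orderOf (J t)) := hko _ e
    rw [orderOf_injective J h.inj] at o1
    exact mem_bot.1 (mem_of_coprime_pow ((Nat.coprime_two_left.2 o1).pow_left k) (H := ⊥)
      (mem_bot.2 hk) (mem_bot.2 (pow_orderOf_eq_one t)))
  have lg : ∀ (y : Cx (J (bW ze))) (P : Subgroup TW),
      (∀ a ∈ P, φ y * φ.comp j' a * (φ y)⁻¹ ∈ (φ.comp j').range) → ∃ g, φ g = φ y ∧
      ∀ a ∈ P, ∀ b, φ.comp j' b = φ y * φ.comp j' a * (φ y)⁻¹ → W2.Rel J g a b := fun y P hP => by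
    obtain ⟨g, -, e, r⟩ := lift_gen (N := ⊤) (f := φ) (fun _ _ => map_mul _ _ _)
      (fun {x} _ e => by rw [← orderOf_coe]; exact hko x e) (J := j') (fun _ => mem_top _) two_TW inj
      (fun _ => rfl) (mem_top y) P hP
    exact ⟨g, e, fun a ha b e => congrArg Subtype.val (r a ha b e)⟩
  have hψ : Surjective ψ := by
    refine pi_surj (j := J.codRestrict _ hN) (i := φ.comp j') (fun _ => rfl) hO ⟨le_top,
      two_TW.of_surjective _ (φ.comp j').rangeRestrict_surjective, fun e => ?_⟩ inj ⟨?_, ?_⟩ Fs hf.sec wd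
      (fun n e => ?_) fun x hx => ?_
    · rw [relIndex_top_right, MonoidHom.range_comp] at e
      refine (h.top.of_le (K := Cx (J (bW ze))) (by rintro _ ⟨t, rfl⟩; exact hH t) le_top).not_dvd ?_
      rw [relIndex, show J.range.subgroupOf _ = j'.range from Subgroup.ext fun x =>
        ⟨fun ⟨t, e⟩ => ⟨t, Subtype.ext e⟩, fun ⟨t, e⟩ => ⟨t, congrArg Subtype.val e⟩⟩]
      exact e.trans (index_map_dvd _ φs)
    · rintro _ ⟨e, rfl⟩; exact ⟨_, rfl⟩
    · rintro _ ⟨b, rfl⟩ x ⟨a, ha⟩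
      obtain ⟨y, rfl⟩ := φs x
      obtain ⟨g, -, r⟩ := lg y (zpowers (bW b)) (by
        rintro _ ⟨k, rfl⟩
        exact ⟨a ^ k, by rw [map_zpow, map_zpow, ha, conj_zpow]; rfl⟩)
      obtain ⟨e, rfl⟩ := h.scb hf hu g.2 (r _ (mem_zpowers _) a ha)
      exact ⟨e, ha⟩
    · obtain ⟨e', he⟩ := conj_mem_of_mem_normalizer n.2.1 (x := J (bW e)) ⟨e, rfl⟩
      exact ⟨e', Subtype.ext he.symm⟩
    · obtain ⟨y, rfl⟩ := φs x
      have a : ∀ e, ∃ e', φ.comp j' (bW e') = φ y * φ.comp j' (bW e) * (φ y)⁻¹ := fun e =>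
        conj_mem_of_mem_normalizer hx ⟨e, rfl⟩
      obtain ⟨g, e, r⟩ := lg y bW.range (by
        rintro _ ⟨e, rfl⟩
        exact let ⟨_, h⟩ := a e; ⟨_, h⟩)
      refine ⟨⟨g, mem_normalizer_of_forall ?_, g.2⟩, e⟩
      rintro _ ⟨e, rfl⟩
      obtain ⟨e', he⟩ := a e
      exact ⟨e', Eq.symm (r _ ⟨e, rfl⟩ _ he)⟩
  have k2 : ∀ n, F n = 1 → ψ n = 1 := fun n hn => by
    have := Normal.map (inferInstance : F.ker.Normal) ψ hψ
    refine mem_bot.1 (hO.le (Core.le_pPrimeCore (N := F.ker.map ψ) (Nat.coprime_two_right.2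
      (StrEmb.odd_card_of_forall ?_)) ⟨n, hn, rfl⟩))
    rintro _ ⟨c, hc, rfl⟩ e
    have o1 : Odd (orderOf (c : G)) := hf.ker c.2 hc
    rw [orderOf_coe] at o1
    exact Nat.not_even_iff_odd.2 o1 (even_iff_two_dvd.2 (e ▸ orderOf_map_dvd ψ c))
  choose s hs using hψ
  let π : G → WB := fun g => if hg : g ∈ Cx (J (bW ze)) then F (s (φ ⟨g, hg⟩)) else 1
  have hπ : ∀ g hg, π g = F (s (φ ⟨g, hg⟩)) := fun g hg => dif_pos hg
  have hπ' : ∀ g ∈ N0 J, π g = f g := fun g hg => (hπ g hg.2).trans (wd _ ⟨g, hg⟩ (hs _))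
  refine ⟨π, h.inj, h.top, fun {x y} hx hy => ?_, fun w => ?_, fun {x} hx => ?_,
    fun t => (hπ' _ (hN t)).trans (hf.sec t), hu⟩
  · rw [hπ _ hx, hπ _ hy, hπ _ (mul_mem hx hy), ← map_mul]
    exact wd _ _ (by rw [map_mul, hs, hs, hs, ← map_mul]; rfl)
  · obtain ⟨x, hx, e⟩ := hf.surj w
    exact ⟨x, hx.2, (hπ' x hx).trans e⟩
  · rw [hπ _ hx, ← hk ⟨x, hx⟩]
    exact ⟨fun e => (hs _).symm.trans (k2 _ e), fun e => k1 _ ((hs _).trans e)⟩

end CfsgLib.Har
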