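import Cfsg.Agent.Lib.Har.Bas

/-!
Project HAR (S1918, plans/HAR.md). Reduction to a simple group (package RED2).
-/

set_option autoImplicit false
set_option Elab.async false
set_option linter.unusedSectionVars false
set_option synthInstance.maxSize 100000
set_option maxRecDepth 100000

namespace CfsgLib.Har

open Subgroup Equiv Function CfsgLib.W2 CfsgLib.W2.TG CfsgLib.Tech CfsgLib.PComp Cfsg CfsgLib.A16
  CfsgLib.SylT

variable {G : Type*} [Group G] [Finite G] {J : TL →* G} {π : G → P16}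

namespace Red2

theorem va_facts : (∀ v w, va v * va w = va w * va v) ∧ (∀ v, va v * va v = 1) ∧ TL.In 698 TL.z ∧ TL.z ≠ 1 ∧
    i16 TL.z ≠ 1 ∧ ∃ v, va v * TL.x12 ≠ TL.x12 * va v := by decide +kernel

theorem A_sq {t : TL} (h : TL.In 698 t) : t * t = 1 := by
  obtain ⟨v, rfl⟩ := exists_va t h
  exact va_facts.2.1 v

theorem zA : J TL.z ∈ AT.map J := ⟨_, va_facts.2.2.1, rfl⟩

theorem pgA (h : Hy J π) : IsPGroup 2 (AT.map J) := h.syl.pgroup.to_le (map_le_range _ _)

theorem toZ (h : Hy J π) {a : TL} (ha : TL.In 698 a) (h1 : a ≠ 1) : ∃ n : G, n * J a * n⁻¹ = J TL.z := by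
  obtain ⟨n, -, r⟩ := h.typ (A_sq ha) h1
  rw [tyr, if_pos ha] at r
  exact ⟨n, r⟩

/-- the intersection of the nontrivial normal subgroups -/
def soc (X : Type*) [Group X] : Subgroup X := sInf {L | L.Normal ∧ L ≠ ⊥}

theorem mem_soc {X : Type*} [Group X] {x : X} : x ∈ soc X ↔ ∀ L : Subgroup X, L.Normal → L ≠ ⊥ → x ∈ L := by
  simp only [soc, mem_sInf, Set.mem_setOf_eq, and_imp]

instance (X : Type*) [Group X] : (soc X).Characteristic :=
  characteristic_iff_le_comap.2 fun φ x hx => mem_soc.2 fun L h1 h2 =>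
    mem_soc.1 hx (L.comap φ.toMonoidHom) (h1.comap _) fun e => h2 (by
      rw [← map_comap_eq_self_of_surjective (f := φ.toMonoidHom) φ.surjective L, e, Subgroup.map_bot])

theorem mem_NA {L : Subgroup G} (hK : ∀ t, J t ∈ L) {x : L} : x ∈ NA (J.codRestrict L hK) ↔ (x : G) ∈ NA J := by
  constructor
  · intro hx
    refine mem_normalizer_of_forall ?_
    rintro _ ⟨a, ha, rfl⟩
    obtain ⟨b, hb, e⟩ := Tech.conj_mem_of_mem_normalizer hx (mem_map_of_mem (J.codRestrict L hK) ha)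
    exact ⟨b, hb, congrArg Subtype.val e⟩
  · intro hx
    refine mem_normalizer_of_forall ?_
    rintro _ ⟨a, ha, rfl⟩
    obtain ⟨b, hb, e⟩ := Tech.conj_mem_of_mem_normalizer hx (mem_map_of_mem J ha)
    exact ⟨b, hb, Subtype.ext e⟩

theorem odd_bot (hO : oddCore G = ⊥) {L : Subgroup G} (hL : L.Normal) : opOf 2 L = ⊥ :=
  le_bot_iff.1 (hO ▸ opOf_le_pPrimeCore hL.isSubnormal)

end Red2

open Red2

/-- `L` has even order; `S` Sylow in `G` containing `range J`; `A` normalizes the nontrivial 2-group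
`L ⊓ S` and centralizes an element `1 ≠ x` of it; `x ∈ A` by `cent2`; all `a ≠ 1` in `A` are
conjugate to `z` in `N(A)` (`typ`, `tyr a = z`). -/
theorem Hy.le_of_normal (h : Hy J π) (hO : oddCore G = ⊥) {L : Subgroup G} (hL : L.Normal)
    (h1 : L ≠ ⊥) : AT.map J ≤ L := by
  obtain ⟨S, hS, hJ⟩ := exists_isSylowIn_ge h.syl.pgroup le_top
  have hR := hS.inf_of_le_normalizer (N := L) (normalizer_eq_top L).ge
  rw [top_inf_eq] at hR
  have hne : ¬ S ⊓ L ≤ ⊥ := fun e => by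
    have k := hR.not_dvd
    rw [le_bot_iff.1 e, relIndex_bot_left] at k
    exact h1 (by
      rw [← opOf_eq_self_of_coprime ((Nat.Prime.coprime_iff_not_dvd Nat.prime_two).2 k).symm, odd_bot hO hL])
  obtain ⟨r, hr, hr1, -, hc⟩ := step hR.pgroup (pgA h) bot_le (fun v hv => mem_normalizer_of_forall fun x hx =>
    mem_inf.2 ⟨mul_mem (mul_mem (hJ (map_le_range _ _ hv)) (mem_inf.1 hx).1) (inv_mem (hJ (map_le_range _ _ hv))),
      hL.conj_mem _ (mem_inf.1 hx).2 v⟩) (le_top.trans (normalizer_eq_top ⊥).ge) hne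
  obtain ⟨a, ha, rfl⟩ := h.cent2 (g := r) (fun t ht => by
    have := mem_bot.1 (hc _ (mem_map_of_mem J ht))
    rwa [mul_inv_eq_one, mul_inv_eq_iff_eq_mul] at this) (isPGroup_iff_mem.1 hR.pgroup r hr)
  obtain ⟨n, hn⟩ := toZ h ha (fun e => hr1 (by rw [e, map_one]; exact one_mem _))
  have hz : J TL.z ∈ L := hn ▸ hL.conj_mem _ (mem_inf.1 hr).2 n
  rintro _ ⟨b, hb, rfl⟩
  by_cases e : b = 1
  · rw [e, map_one]; exact one_mem _
  obtain ⟨m, hm⟩ := toZ h hb e
  have := hL.conj_mem _ hz m⁻¹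
  rwa [← hm, show m⁻¹ * (m * J b * m⁻¹) * m⁻¹⁻¹ = J b by group] at this

/-- `π (L ⊓ N(A))` is normal in `AG` and contains `TR`. If it is `TR`, then `N_L(A) = A × odd ≤ C(A)`
(`O_centA`), so `A` is a Sylow subgroup of `L` central in its normalizer; by Burnside `L` has a
normal complement, it is `O(L) ≤ O(G) = 1`, so `L = A` is normal in `G`, false. So it is `AG`; then
`N(A) = (L ⊓ N(A)) ker π`, the normal subgroup `L ⊓ N(A)` has odd index and contains `range J`.
The normalizer of `A` in the group `L` is `L ⊓ N(A)`. -/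
theorem Hy.res (h : Hy J π) (hO : oddCore G = ⊥) (hn : NA J ≠ ⊤) {L : Subgroup G} (hL : L.Normal)
    (h1 : L ≠ ⊥) : ∃ hK : ∀ t, J t ∈ L, Hy (J.codRestrict L hK) fun x => π x := by
  have hA := h.le_of_normal hO hL h1
  let f : NA J →* P16 := MonoidHom.mk' (fun x => π x) fun a b => h.mul a.2 b.2
  have mem : ∀ {m}, m ∈ (L.subgroupOf (NA J)).map f ↔ ∃ x ∈ L, x ∈ NA J ∧ π x = m :=
    ⟨fun ⟨x, hx, e⟩ => ⟨x, hx, x.2, e⟩, fun ⟨x, hx, hx', e⟩ => ⟨⟨x, hx'⟩, hx, e⟩⟩
  have hs : ∀ m ∈ AG, ∃ x ∈ L, x ∈ NA J ∧ π x = m := by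
    rcases AG_normal (N := (L.subgroupOf (NA J)).map f) (fun m hm => by
      obtain ⟨x, -, hx, rfl⟩ := mem.1 hm
      exact h.mem hx) (fun m hm y hy => by
      obtain ⟨x, hx, hx', rfl⟩ := mem.1 hy
      obtain ⟨g, hg, rfl⟩ := h.surj m hm
      refine mem.2 ⟨_, hL.conj_mem _ hx g, mul_mem (mul_mem hg hx') (inv_mem hg), ?_⟩
      rw [h.mul (mul_mem hg hx') (inv_mem hg), h.mul hg hx', h.inv hg]) with e | e | e
    · exact absurd (mem_bot.1 (e ▸ mem.2 ⟨_, hA zA, h.memN _, h.sec _⟩)) va_facts.2.2.2.2.1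
    · have hc : ∀ n ∈ L, n ∈ NA J → ∀ t, TL.In 698 t → n * J t = J t * n := fun n hn1 hn2 t ht => by
        obtain ⟨v, hv⟩ := mem_TR.1 (e ▸ mem.2 ⟨n, hn1, hn2, rfl⟩)
        have hi := inv_mem (h.memN (va v))
        have k := h.O_centA (mul_mem hn2 hi) (by
          rw [h.mul hn2 hi, h.inv (h.memN _), h.sec, i16_va, hv, mul_inv_cancel]) ht
        obtain ⟨w, rfl⟩ := exists_va t ht
        have k2 : J (va v) * J (va w) = J (va w) * J (va v) := by rw [← map_mul, va_facts.1, map_mul]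
        calc n * J (va w) = n * (J (va v))⁻¹ * (J (va v) * J (va w)) := by group
          _ = n * (J (va v))⁻¹ * J (va w) * J (va v) := by rw [k2]; group
          _ = J (va w) * n := by rw [k]; group
      have hS : IsSylowIn 2 (AT.map J) L := isSylowIn_of_isSylowIn_normalizer hA
        (isSylowIn_of_maximal (pgA h) (le_inf hA le_normalizer) fun R hR _ hRL r hr => by
          obtain ⟨a, ha, rfl⟩ := h.cent2 (hc r (mem_inf.1 (hRL hr)).1 (mem_inf.1 (hRL hr)).2)
            (isPGroup_iff_mem.1 hR r hr)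
          exact mem_map_of_mem J ha)
      have hLA : L ≤ AT.map J := le_of_npc (npc_of_burnside hS fun n hn1 hn2 x hx => by
        obtain ⟨t, ht, rfl⟩ := hx
        exact hc n hn1 hn2 t ht) hS (by rw [odd_bot hO hL]; exact bot_le) le_rfl
      refine absurd ?_ hn
      rw [NA, ← le_antisymm hLA hA]
      exact normalizer_eq_top L
    · exact fun m hm => mem.1 (e.symm ▸ hm)
  have hK : ∀ t, J t ∈ L := fun t => by
    obtain ⟨x, hx, hx', e⟩ := hs _ (h.mem (h.memN t))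
    have ho := h.ker (mul_mem (inv_mem hx') (h.memN t)) (by
      rw [h.mul (inv_mem hx') (h.memN t), h.inv hx', e, inv_mul_cancel])
    obtain ⟨k, hk⟩ := isPGroup_iff_mem.1 h.syl.pgroup (J t) ⟨t, rfl⟩
    refine mem_of_coprime_pow (Nat.Coprime.pow_left k (Nat.coprime_two_left.2 ho)) (hk ▸ one_mem _) ?_
    have q : (QuotientGroup.mk' L) (J t) = QuotientGroup.mk' L (x⁻¹ * J t) := by
      rw [map_mul, show QuotientGroup.mk' L x⁻¹ = 1 from (QuotientGroup.eq_one_iff _).2 (inv_mem hx), one_mul]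
    rw [← QuotientGroup.eq_one_iff, ← QuotientGroup.mk'_apply, map_pow, q, ← map_pow, pow_orderOf_eq_one, map_one]
  refine ⟨hK, fun a b e => h.inj (congrArg Subtype.val e), ?_, fun hx hy => h.mul ((mem_NA hK).1 hx) ((mem_NA hK).1 hy),
    h.sec, fun hx => h.mem ((mem_NA hK).1 hx), fun m hm => ?_, fun hx e => ?_⟩
  · refine isSylowIn_of_maximal (isPGroup_iff_mem.2 ?_) ?_ fun R hR h2 h3 r hr => ?_
    · rintro _ ⟨t, rfl⟩
      obtain ⟨k, hk⟩ := isPGroup_iff_mem.1 h.syl.pgroup (J t) ⟨t, rfl⟩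
      exact ⟨k, Subtype.ext hk⟩
    · rintro _ ⟨t, rfl⟩
      exact (mem_NA hK).2 (h.memN t)
    · have e := h.syl.eq_of_le (hR.map L.subtype) (by
        rintro _ ⟨t, rfl⟩
        exact ⟨_, h2 ⟨t, rfl⟩, rfl⟩) (by
        rintro _ ⟨y, hy, rfl⟩
        exact (mem_NA hK).1 (h3 hy))
      obtain ⟨t, ht⟩ : (r : G) ∈ J.range := e ▸ mem_map_of_mem L.subtype hr
      exact ⟨t, Subtype.ext ht⟩
  · obtain ⟨x, hx, hx', e⟩ := hs m hm
    exact ⟨⟨x, hx⟩, (mem_NA hK).2 hx', e⟩
  · rw [← Subgroup.orderOf_coe]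
    exact h.ker ((mem_NA hK).1 hx) e

/-- `K` minimal normal in `G`; `Hy` holds in `K` (`res`) and `O(K) = 1`. Let `L` be a minimal normal
subgroup of `K`: all its `G`-conjugates are normal in `K` and contain `A` (`le_of_normal` in `K`), so
they meet nontrivially and are equal by minimality; thus `L` is normal in `G`, `L = K`. `C(K)` is
normal in `G`; if nontrivial it contains `A`, but `J x12 ∈ K` does not centralize `A`. -/
theorem Hy.exists_simple (h : Hy J π) (hO : oddCore G = ⊥) (hn : NA J ≠ ⊤) :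
    ∃ (K : Subgroup G) (hK : ∀ t, J t ∈ K), K.Normal ∧ IsSimpleGroup K ∧
      centralizer (K : Set G) = ⊥ ∧ Hy (J.codRestrict K hK) fun x => π x := by
  have z1 : J TL.z ≠ 1 := fun e => va_facts.2.2.2.1 (h.inj (e.trans (map_one J).symm))
  have hz : J TL.z ∈ soc G := mem_soc.2 fun L h1 h2 => h.le_of_normal hO h1 h2 zA
  have hN : (soc G).Normal := inferInstance
  have h1 : soc G ≠ ⊥ := fun e => z1 (mem_bot.1 (e ▸ hz))
  obtain ⟨hK, h'⟩ := h.res hO hn hN h1
  have hO' : oddCore (soc G) = ⊥ := (map_eq_bot_iff_of_injective _ (soc G).subtype_injective).1 (odd_bot hO hN)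
  have hz' : J.codRestrict _ hK TL.z ∈ soc (soc G) := mem_soc.2 fun L h1 h2 => h'.le_of_normal hO' h1 h2 zA
  refine ⟨soc G, hK, hN, ?_, ?_, h'⟩
  · haveI := (soc G).nontrivial_iff_ne_bot.2 h1
    refine ⟨fun L hL => or_iff_not_imp_left.2 fun h2 => eq_top_iff.2 fun x _ => ?_⟩
    obtain ⟨y, hy, e⟩ := mem_soc.1 x.2 ((soc (soc G)).map (soc G).subtype) inferInstance
      fun e => z1 (mem_bot.1 (e ▸ mem_map_of_mem (soc G).subtype hz'))
    exact Subtype.ext e ▸ mem_soc.1 hy L hL h2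
  · by_contra h2
    obtain ⟨v, hv⟩ := va_facts.2.2.2.2.2
    have k := mem_centralizer_iff.1 (h.le_of_normal hO inferInstance h2 (mem_map_of_mem J (va_mem v))) _ (hK TL.x12)
    exact hv (h.inj (by rw [map_mul, map_mul, k]))

end CfsgLib.Har
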