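import Cfsg.Agent.Lib.Har.Bas
import Cfsg.Agent.Lib.AltAut.Basic
import Cfsg.Agent.Lib.SylT.L5i
import Cfsg.Agent.S0813
import Cfsg.Agent.S2064

/-!
Project HAR (S1918, plans/HAR.md). From the simple normal subgroup to `G` (package RED3).
-/

set_option autoImplicit false
set_option Elab.async false
set_option linter.unusedSectionVars false
set_option linter.style.haveILetI false
set_option synthInstance.maxSize 100000
set_option maxRecDepth 100000

namespace CfsgLib.Har

open Subgroup Equiv Function CfsgLib.W2 CfsgLib.W2.TG CfsgLib.Tech CfsgLib.PComp Cfsg CfsgLib.A16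
  CfsgLib.SylT

variable {G : Type*} [Group G] [Finite G] {J : TL →* G} {π : G → P16}

namespace R3

theorem top_or {X : Type*} [Group X] [Finite X] {K : Subgroup G} (ψ : G →* X) (hψ : Injective ψ)
    (hX : Nat.card X ≤ 2 * Nat.card K) : K = ⊤ ∨ Bijective ψ := by
  have h1 := K.card_mul_index
  have h2 := Nat.card_le_card_of_injective ψ hψ
  have h3 : 0 < Nat.card K := Nat.card_pos
  have h4 : K.index ≠ 0 := index_ne_zero_of_finite
  by_cases h5 : K.index = 1
  · exact Or.inl (index_eq_one.1 h5)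
  · refine Or.inr ((Nat.bijective_iff_injective_and_card ψ).2 ⟨hψ, le_antisymm h2 (hX.trans ?_)⟩)
    rw [← h1, mul_comm 2]
    exact Nat.mul_le_mul_left _ (by omega)

omit [Finite G] in
theorem conj_inj {K : Subgroup G} [K.Normal] (hc : centralizer (K : Set G) = ⊥) :
    Injective (MulAut.conjNormal : G →* MulAut K) := by
  rw [injective_iff_map_eq_one]
  intro g hg
  rw [← mem_bot, ← hc]
  intro k hk
  have := congrArg (fun φ : MulAut K => ((φ ⟨k, hk⟩ : K) : G)) hg
  simp only [MulAut.conjNormal_apply, MulAut.one_apply] at this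
  exact (mul_inv_eq_iff_eq_mul.1 this).symm

theorem sl_gl' (n : ℕ) : Nonempty (Matrix.SpecialLinearGroup (Fin n) (ZMod 2) ≃* GL (Fin n) (ZMod 2)) := by
  have h : ∀ r : ZMod 2, r ≠ 0 → r = 1 := by decide
  refine ⟨MulEquiv.ofBijective Matrix.SpecialLinearGroup.toGL
    ⟨Matrix.SpecialLinearGroup.toGL_injective, fun g => ⟨⟨g.1, h _ g.det_ne_zero⟩, ?_⟩⟩⟩
  exact Units.ext rfl

theorem sl_gl : Nonempty (Held.SL5 ≃* GL (Fin 5) (ZMod 2)) := sl_gl' 5

theorem card_aut_congr {X Y : Type*} [Group X] [Group Y] (e : X ≃* Y) :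
    Nat.card (MulAut X) = Nat.card (MulAut Y) := Nat.card_congr (MulAut.congr e).toEquiv

theorem card_pgl (F : Type*) [Field F] [Finite F] (n : ℕ) :
    Nat.card (Matrix.ProjGenLinGroup (Fin n) F) ≤ Nat.card (GL (Fin n) F) :=
  Nat.card_le_card_of_surjective _ Matrix.ProjGenLinGroup.mk_surjective

theorem card_aut_gl : Nat.card (MulAut (GL (Fin 5) (ZMod 2))) ≤ 2 * Nat.card (GL (Fin 5) (ZMod 2)) := by
  obtain ⟨e1⟩ := sl_gl
  obtain ⟨e2⟩ := TL.psl_equiv (F := ZMod 2) (ZMod.card 2)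
  have h := Cfsg.Agent.S0813.result (F := ZMod 2) 2 1 le_rfl (ZMod.card 2) 5 (by norm_num) (by norm_num)
  have h1 := card_aut_congr (e1.symm.trans e2)
  have h2 := card_pgl (ZMod 2) 5
  rw [if_neg (by norm_num)] at h
  omega

theorem card_aut_M24 : Nat.card (MulAut M24) ≤ Nat.card M24 := by
  rw [card_eq_card_quotient_mul_card_subgroup (Inn M24), Cfsg.Agent.S2064.result, one_mul]
  exact Nat.card_le_card_of_surjective _ (MulAut.conj : M24 →* MulAut M24).rangeRestrict_surjective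

/-- conjugation on the transpositions -/
@[reducible] def swAct {X α : Type*} [Group X] [Fintype α] [DecidableEq α] (φ : X →* Perm α) :
    MulAction X {τ : Perm α // τ.cycleType = {2}} where
  smul g τ := ⟨φ g * τ * (φ g)⁻¹, by rw [Perm.cycleType_conj]; exact τ.2⟩
  one_smul τ := Subtype.ext (by change φ 1 * τ * (φ 1)⁻¹ = τ; simp)
  mul_smul a b τ := Subtype.ext (by
    change φ (a * b) * τ * (φ (a * b))⁻¹ = φ a * (φ b * τ * (φ b)⁻¹) * (φ a)⁻¹
    simp only [map_mul, mul_inv_rev, mul_assoc])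

theorem exists_swap {X : Type*} [Group X] (hX : IsPGroup 2 X) {n : ℕ} (hn : n = 18 ∨ n = 19)
    (φ : X →* Perm (Fin n)) : ∃ τ : Perm (Fin n), τ.cycleType = {2} ∧ ∀ x, φ x * τ = τ * φ x := by
  letI := swAct φ
  haveI : Fact (Nat.Prime 2) := ⟨Nat.prime_two⟩
  have hc : ¬ 2 ∣ Nat.card {τ : Perm (Fin n) // τ.cycleType = {2}} := by
    rw [Nat.card_eq_fintype_card, Fintype.card_subtype,
      Perm.card_of_cycleType_singleton le_rfl (by rw [Fintype.card_fin]; omega), Fintype.card_fin]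
    rcases hn with rfl | rfl <;> decide
  obtain ⟨τ, hτ⟩ := hX.nonempty_fixed_point_of_prime_not_dvd_card _ hc
  exact ⟨τ, τ.2, fun x => mul_inv_eq_iff_eq_mul.1 (congrArg Subtype.val (hτ x))⟩

end R3

/-- `G` embeds in `Aut K` over `Inn K`. `K ≅ SL₅(2) ≅ GL₅(2)`: `|Aut K| = 2 |K|` (S0813 with
`TL.psl_equiv`, `|PGL₅(2)| = |GL₅(2)|`), so `G = K` or `G ≅ Aut K`. `K ≅ M₂₄`: `Out = 1` (S2064), so
`G = K`. `K ≅ A_n`: `AltAut.exists_hom_perm_of_ne_six` gives `f : G ↪ S_n` with `f K = A_n`, so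
`G = K` or `f` is onto. For `n = 18, 19` and `f` onto: the class of a transposition has odd size
`153`, `171`, so the 2-group `f A` fixes a transposition `τ`; `f⁻¹ τ ∈ A ≤ K` by `cent2`, so `τ` is
even, false. -/
theorem Hy.concl_of_simp (h : Hy J π) {K : Subgroup G} (hn : K.Normal) (hK : ∀ t, J t ∈ K)
    (hc : centralizer (K : Set G) = ⊥) (hs : Simp K) : Concl G := by
  have top : K = ⊤ → Nonempty (G ≃* K) := fun e => ⟨topEquiv.symm.trans (MulEquiv.subgroupCongr e.symm)⟩
  rcases hs with ⟨⟨e⟩⟩ | ⟨⟨e⟩⟩ | ⟨n, h16, h19, ⟨e⟩⟩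
  · obtain ⟨e1⟩ := R3.sl_gl
    have e2 := e.trans e1
    rcases R3.top_or ((MulAut.congr e2).toMonoidHom.comp MulAut.conjNormal)
      ((MulAut.congr e2).injective.comp (R3.conj_inj hc))
      (by rw [Nat.card_congr e2.toEquiv]; exact R3.card_aut_gl) with h1 | h1
    · obtain ⟨e3⟩ := top h1
      exact Or.inr (Or.inl ⟨e3.trans e2⟩)
    · exact Or.inr (Or.inr (Or.inl ⟨MulEquiv.ofBijective _ h1⟩))
  · have h1 : K = ⊤ := by
      refine eq_top_of_le_card K ?_
      refine (Nat.card_le_card_of_injective _ ((MulAut.congr e).injective.comp (R3.conj_inj hc))).trans ?_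
      rw [Nat.card_congr e.toEquiv]
      exact R3.card_aut_M24
    obtain ⟨e3⟩ := top h1
    exact Or.inr (Or.inr (Or.inr (Or.inl ⟨e3.trans e⟩)))
  · have hn' : Nat.card (Fin n) = n := Nat.card_fin n
    obtain ⟨f, hf, hfe, -⟩ := AltAut.exists_hom_perm_of_ne_six (by omega) (by omega) e hc
    haveI : Nontrivial (Fin n) := Fin.nontrivial_iff_two_le.2 (by omega)
    rcases R3.top_or (K := K) f hf (by
      rw [Nat.card_congr e.toEquiv, two_mul_nat_card_alternatingGroup]) with h1 | h1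
    · obtain ⟨e3⟩ := top h1
      exact Or.inr (Or.inr (Or.inr (Or.inr (Or.inl ⟨n, h16, h19, ⟨e3.trans e⟩⟩))))
    · by_cases h17 : n ≤ 17
      · exact Or.inr (Or.inr (Or.inr (Or.inr (Or.inr ⟨n, by omega, ⟨MulEquiv.ofBijective f h1⟩⟩))))
      · exfalso
        obtain ⟨τ, hτ, hcomm⟩ := R3.exists_swap bas_two (n := n) (by omega) (f.comp J)
        obtain ⟨g, rfl⟩ := h1.2 τ
        have hsw : (f g).IsSwap := Perm.isSwap_iff_cycleType.2 hτ
        obtain ⟨a, -, rfl⟩ := h.cent2 (g := g) (fun t _ => hf (by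
          rw [map_mul, map_mul]; exact (hcomm t).symm)) ⟨1, hf (by
            rw [map_pow, map_one, pow_one, ← orderOf_dvd_iff_pow_eq_one, hsw.orderOf])⟩
        have h2 : f (J a) ∈ alternatingGroup (Fin n) := by
          rw [hfe ⟨J a, hK a⟩]
          exact (e _).2
        rw [Perm.mem_alternatingGroup, hsw.sign_eq] at h2
        exact absurd h2 (by decide)

end CfsgLib.Har
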