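import Cfsg.Agent.Lib.Har.Lbas
import Cfsg.Agent.Lib.A16.StepB

/-!
Project HAR (S1918, plans/HAR.md). The signalizer functor (package SFT).
-/

set_option autoImplicit false
set_option Elab.async false
set_option linter.unusedSectionVars false
set_option synthInstance.maxSize 100000
set_option maxRecDepth 100000

namespace CfsgLib.Har

open Subgroup Equiv Function CfsgLib.W2 CfsgLib.W2.TG CfsgLib.Tech CfsgLib.PComp Cfsg CfsgLib.A16
  CfsgLib.SylT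

variable {G : Type*} [Group G] [Finite G] {J : TW →* G} {π : G → WB} {ρ σ d x y : G} {r : Fin 4 → G}
  {W : Subgroup G}

/-- the regular elementary abelian group of order sixteen inside `TW` -/
noncomputable def aw (v : Fin 16) : TW :=
  ⟨if bit v.val 3 then ze else 1, (if bit v.val 0 then o 15 else 1) *
    (if bit v.val 1 then o 15 * o 48 else 1) * (if bit v.val 2 then o 15 * o 48 * o 64 else 1)⟩

theorem aw_mul : ∀ v w, aw v * aw w = aw (xr v w) := by decide +kernel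

theorem aw_iT : ∀ v, iT (aw v) = inc (am v) := by decide +kernel

theorem aw_cl : ∀ v, aw v = 1 ∨ cl (iT (bW ze)) = cl (iT (aw v)) := by decide +kernel

theorem aw_facts : aw 0 = 1 ∧ aw 8 = bW ze ∧ aw 1 = tE (sE ze) ∧ aw 9 = tE (sE (sE ze)) ∧
    aw 8 ≠ 1 ∧ aw 1 ≠ 1 ∧ aw 9 ≠ 1 ∧ aw 1 ≠ aw 8 ∧ ∀ v w, aw v = aw w → v = w := by decide +kernel

theorem aw_sq (v : Fin 16) : aw v * aw v = 1 := by rw [aw_mul, xr_facts.2.2.1, aw_facts.1]

noncomputable def AW : Subgroup TW where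
  carrier := Set.range aw
  mul_mem' := by rintro _ _ ⟨v, rfl⟩ ⟨w, rfl⟩; exact ⟨_, (aw_mul v w).symm⟩
  one_mem' := ⟨0, aw_facts.1⟩
  inv_mem' := by rintro _ ⟨v, rfl⟩; exact ⟨v, eq_inv_of_mul_eq_one_left (aw_sq v)⟩

theorem card_AW : 16 ≤ Nat.card AW := by
  simpa using Nat.card_le_card_of_injective (fun v => (⟨aw v, v, rfl⟩ : AW))
    fun v w e => aw_facts.2.2.2.2.2.2.2.2 v w (congrArg Subtype.val e)

/-- odd subgroups normalized by `E` -/
theorem LB.odd_E (L : LB J π) {Y : Subgroup G} (hY : Odd (Nat.card Y))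
    (hN : (J.comp tE).range ≤ normalizer (Y : Set G)) {g : G}
    (hg : g ∈ normalizer ((J.comp tE).range : Set G)) :
    Y ⊓ Cx (g * J (bW ze) * g⁻¹) ≤ opOf 2 (Cx (g * J (bW ze) * g⁻¹)) := by
  have h1 := cj_le_normalizer hN g⁻¹
  rw [mem_normalizer_iff_cj.1 (inv_mem hg)] at h1
  have h2 := cj_mono g (L.odd_le (Y := cj g⁻¹ Y) (by rwa [card_cj]) 1 fun i =>
    ⟨J (tE (ue i)), LB.memH _, h1 ⟨ue i, rfl⟩, by
      rw [L.sec, (tE_facts.1 i).2, iT_bW, map_one, one_mul, inv_one, mul_one]⟩)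
  rwa [cj_inf, cj_cj_inv, cj_Cx, cj_th] at h2

theorem LB.sw (L : LB J π) (hσ : ∀ a, W2.Rel (J.comp tE) σ a (sE a)) : ∃ W, SW J W := by
  obtain ⟨-, f8, f1, f9, n8, n1, n9, n18, -⟩ := aw_facts
  have mA : ∀ v, J (aw v) ∈ AW.map J := fun v => mem_map_of_mem J ⟨v, rfl⟩
  have ne1 : ∀ {t}, t ≠ 1 → J t ≠ 1 := fun h e => h (L.inj (e.trans (map_one J).symm))
  have hz : J (bW ze) ∈ AW.map J := f8 ▸ mA 8
  have z1 : J (bW ze) ≠ 1 := f8 ▸ ne1 n8
  have a1 : ∀ a ∈ AW.map J, a * a = 1 := by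
    rintro _ ⟨_, ⟨v, rfl⟩, rfl⟩
    rw [← map_mul, aw_sq, map_one]
  have a2 : ∀ a ∈ AW.map J, a ≠ 1 → IsConj (J (bW ze)) a := by
    rintro _ ⟨_, ⟨v, rfl⟩, rfl⟩ h
    exact (L.fus _ _ (f8 ▸ aw_sq 8) (aw_sq v)).2
      ((aw_cl v).resolve_left fun e => h (by rw [e, map_one]))
  obtain ⟨hW, hC⟩ := sft_opOf (A := AW.map J) (K := ⊤) le_top
    (fun a ha b hb => comm_of_sq a1 ha hb) a1
    (by rw [card_map_of_injective L.inj]; exact le_trans (by decide) card_AW)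
    fun a ha _ b hb n2 => by
      rw [top_inf_eq, top_inf_eq]
      obtain ⟨g, e⟩ := isConj_iff.1 (a2 b hb n2).symm
      rw [← cj_le_cj_iff g, cj_inf, cj_Cx, cj_th, cj_th, e]
      exact L.bal (e ▸ conj_mem_Cx.2 (mem_Cx.2 (comm_of_sq a1 ha hb))) (conj_sq (a1 a ha) g)
  simp only [top_inf_eq] at hW hC
  set W := Wsup (AW.map J) fun a => opOf 2 (Cx a) with hWd
  have a3 : ∀ a ∈ AW.map J, a ≠ 1 → A16.th a ≤ W := fun a ha n =>
    le_Wsup (fun a => opOf 2 (Cx a)) ha n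
  have a4 : ∀ a ∈ AW.map J, a ∈ normalizer (W : Set G) := fun a ha =>
    mem_normalizer_Wsup (fun b hb => mul_mem (mul_mem ha hb) (inv_mem ha)) fun b _ _ => (cj_th a b).le
  have four : ∀ {Y M : Subgroup G} {s : G}, Odd (Nat.card Y) → s ∈ AW.map J → s ≠ 1 →
      s ≠ J (bW ze) → J (bW ze) ∈ normalizer (Y : Set G) → s ∈ normalizer (Y : Set G) →
      Y ⊓ Cx (J (bW ze)) ≤ M → Y ⊓ Cx s ≤ M → Y ⊓ Cx (s * J (bW ze)) ≤ M → Y ≤ M :=
    fun hY hs n1 n2 m1 m2 c1 c2 c3 => le_of_four hY (ord_two (a1 _ hs) n1) (ord_two (a1 _ hz) z1) n2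
      (comm_of_sq a1 hs hz) m2 m1 c2 c1 c3
  have nz : ∀ {s : G}, s ≠ J (bW ze) → s * J (bW ze) ≠ 1 := fun n e =>
    n (mul_right_cancel (e.trans (a1 _ hz).symm))
  let f : Cx (J (bW ze)) →* WB := MonoidHom.mk' (fun x => π x) fun x y => L.mul x.2 y.2
  let K : Subgroup WB := ((normalizer (W : Set G)).subgroupOf (Cx (J (bW ze)))).map f
  have a5 : ∀ v a, am v ≠ 1 → am v ≠ A16.z0 → a * am v = am v * a → a ∈ K.comap inc :=
    fun v a m1 m2 e => by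
      have ii : Injective inc := fun x y h =>
        WD.ext' (fun p => congrArg (·.b p) h) fun p => congrArg (·.s p) h
      obtain ⟨t, t1, t2, t3⟩ := L.lift_comm (LB.memH (aw v)) (a1 _ (mA v)) (a := inc a)
        (by rw [L.sec, aw_iT, ← map_mul, ← map_mul, e])
      have n3 : J (aw v) ≠ 1 := ne1 fun e => m1 (ii (by rw [← aw_iT, e, map_one, map_one]))
      have n4 : J (aw v) ≠ J (bW ze) := fun e => m2 (ii (by
        rw [← aw_iT, L.inj e, ← f8, aw_iT]; rfl))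
      have k : ∀ b ∈ AW.map J, b ≠ 1 → t ∈ Cx b → W ⊓ Cx b ≤ cj t⁻¹ W := fun b hb n ht => by
        rw [hC b hb n, ← cj_le_cj_iff t, cj_cj_inv, cj_th, mem_Cx'.1 ht]
        exact a3 b hb n
      refine ⟨⟨t, t1⟩, mem_normalizer_of_cj_le (g := t) ?_, t2⟩
      rw [← cj_le_cj_iff t⁻¹, cj_inv_cj]
      exact four hW (mA v) n3 n4 (a4 _ hz) (a4 _ (mA v)) (k _ hz z1 t1) (k _ (mA v) n3 t3)
        (k _ (mul_mem (mA v) hz) (nz n4)
          (mem_Cx.2 (Commute.mul_right (mem_Cx.1 t3) (mem_Cx.1 t1))))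
  have hK : ∀ w, inc w ∈ K := fun w => by
    obtain ⟨-, -, -, g1, g2, g3, g4, -⟩ := am_facts
    exact (eq_top_of_gen (a5 1 _ g3 g4 g2) fun i =>
      let ⟨v, e1, e2, e3⟩ := g1 i; a5 v _ e1 e2 e3).ge (mem_top w)
  have h0 : ∀ h ∈ Cx (J (bW ze)), π h ∈ K → h ∈ normalizer (W : Set G) := fun h hh ⟨n, hn, e⟩ => by
    have h1 : n.1⁻¹ * h ∈ Cx (J (bW ze)) := mul_mem (inv_mem n.2) hh
    have h2 := le_normalizer (a3 _ hz z1 ((L.ker h1).1 (by
      rw [L.mul (inv_mem n.2) hh, L.inv n.2, ← e]; exact inv_mul_cancel _)))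
    exact (mul_mem_cancel_left (inv_mem (mem_subgroupOf.1 hn))).1 h2
  have hE : (J.comp tE).range ≤ normalizer (W : Set G) := by
    rintro _ ⟨e, rfl⟩
    refine h0 _ (LB.memH (tE e)) ?_
    rw [MonoidHom.comp_apply, L.sec, show iT (tE e) = _ from DFunLike.congr_fun iT_i1 (eps e)]
    exact hK _
  have sN : σ ∈ normalizer ((J.comp tE).range : Set G) := mem_normalizer_of_cj_le (cj_le_iff.2 (by
    rintro _ ⟨e, rfl⟩; exact ⟨_, Eq.symm (hσ e)⟩))
  have e0 : J.comp tE ze = J (bW ze) := congrArg J tE_facts.2.1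
  have e1 : σ * J (bW ze) * σ⁻¹ = J (aw 1) := by rw [← e0, f1]; exact hσ ze
  have e2 : σ * σ * J (bW ze) * (σ * σ)⁻¹ = J (aw 9) := by
    rw [← e0, f9]; exact (hσ _).comp (hσ ze)
  have e3 : J (aw 1) * J (bW ze) = J (aw 9) := by rw [← f8, ← map_mul, aw_mul]; rfl
  have hU : ∀ Y : Subgroup G, Odd (Nat.card Y) → (J.comp tE).range ≤ normalizer (Y : Set G) →
      Y ≤ W := fun Y hY hN => by
    have c0 := L.odd_E hY hN (one_mem _)
    have c1 := L.odd_E hY hN sN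
    have c2 := L.odd_E hY hN (mul_mem sN sN)
    rw [one_mul, inv_one, mul_one] at c0
    rw [e1] at c1
    rw [e2] at c2
    exact four hY (mA 1) (ne1 n1) (fun e => n18 (f8 ▸ L.inj e)) (hN ⟨_, e0⟩)
      (hN ⟨sE ze, congrArg J f1.symm⟩) (c0.trans (a3 _ hz z1)) (c1.trans (a3 _ (mA 1) (ne1 n1)))
      (e3 ▸ c2.trans (a3 _ (mA 9) (ne1 n9)))
  have nE : normalizer ((J.comp tE).range : Set G) ≤ normalizer (W : Set G) := fun n hn =>
    mem_normalizer_of_cj_le (hU _ (by rwa [card_cj]) (by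
      have := cj_le_normalizer hE n
      rwa [mem_normalizer_iff_cj.1 hn] at this))
  refine ⟨W, hW, a3 _ hz z1, fun h hh => h0 h hh ((gen_inc hK ?_).ge (mem_top _)), nE, hU⟩
  refine ⟨⟨J (bW (eb 0)), LB.memH _⟩, nE ?_, (L.sec _).trans ((iT_bW _).trans (eB_eb 0))⟩
  rw [MonoidHom.range_comp, ← AI_top]
  exact le_normalizer_map J (mem_map_of_mem J (AI_norm 15 0 (AI_zero ▸ ⟨eb 0, rfl⟩)))

end CfsgLib.Har
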