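import Cfsg.Agent.Lib.Har.Wcl
import Cfsg.Agent.Lib.Transfer.Cocycle

/-!
Project HAR (S1918, plans/HAR.md). The automizer of `B'` is `S₉` (package TH).
-/

set_option autoImplicit false
set_option Elab.async false
set_option linter.unusedSectionVars false
set_option synthInstance.maxSize 100000
set_option maxRecDepth 100000

namespace CfsgLib.Har

open Subgroup Equiv Function CfsgLib.W2 CfsgLib.W2.TG CfsgLib.Tech CfsgLib.PComp Cfsg CfsgLib.A16
  CfsgLib.SylT

variable {G : Type*} [Group G] [Finite G] {J : TW →* G} {ρ σ d : G} {f : G → WB} {r : Fin 4 → G}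

theorem twy_twy (x : TW) : twy (twy x) = x := by
  have k : twy.comp twy = MonoidHom.id TW := SemidirectProduct.hom_ext
    (MonoidHom.ext fun e => by
      change twy (twy (bW e)) = bW e
      rw [twy_bW, twy_bW, alE_alE])
    (MonoidHom.ext fun p => by
      change twy (twy (pW p)) = pW p
      rw [twy_pW, twy_pW])
  exact DFunLike.congr_fun k x

theorem twy_i1 (s : SG) : twy (i1 s) = i1 s := by
  have k : twy.comp i1 = i1 := SG_hom_ext
    (fun b => by
      have k : ∀ b, alE true (iB b) = iB b := by decide +kernel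
      rw [MonoidHom.comp_apply, i1_bet, twy_bW, k])
    (fun p => by rw [MonoidHom.comp_apply, i1_trH, twy_pW])
  exact DFunLike.congr_fun k s

theorem th_range (J : TW →* G) : (J.comp twy).range = J.range :=
  le_antisymm (by rintro _ ⟨x, rfl⟩; exact ⟨_, rfl⟩)
    (by rintro _ ⟨x, rfl⟩; exact ⟨twy x, congrArg J (twy_twy x)⟩)

theorem th_rangeB (J : TW →* G) : ((J.comp twy).comp bW).range = (J.comp bW).range :=
  le_antisymm (by rintro _ ⟨x, rfl⟩; exact ⟨alE true x, congrArg J (twy_bW x).symm⟩)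
    (by rintro _ ⟨x, rfl⟩; exact ⟨alE true x, congrArg J ((twy_bW _).trans (by rw [alE_alE]))⟩)

theorem th_E (J : TW →* G) : (J.comp twy).comp tE = J.comp tE :=
  MonoidHom.ext fun a => congrArg J (twy_i1 (eps a))

theorem th_rel {g : G} {a b : EG} :
    W2.Rel ((J.comp twy).comp bW) g a b ↔ W2.Rel (J.comp bW) g (alE true a) (alE true b) := by
  simp only [W2.Rel, MonoidHom.comp_apply, twy_bW]

theorem TS.twy (h : TS J ρ σ) : TS (J.comp twy) ρ σ := by
  have hz : W2.Rel (J.comp bW) ρ ze ze := by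
    have k := (((((((h.rb 0).mul (h.rb 1)).mul (h.rb 2)).mul (h.rb 3)).mul (h.rb 4)).mul
      (h.rb 5)).mul (h.rb 6)).mul (h.rb 7)
    have e1 : eb 0 * eb 1 * eb 2 * eb 3 * eb 4 * eb 5 * eb 6 * eb 7 = ze := by decide +kernel
    have e2 : eb (r8 0) * eb (r8 1) * eb (r8 2) * eb (r8 3) * eb (r8 4) * eb (r8 5) * eb (r8 6) *
      eb (r8 7) = ze := by decide +kernel
    rwa [e1, e2] at k
  have k : ∀ q, alE true (eb q) = eb q * ze := by decide +kernel
  refine ⟨h.inj.comp (LeftInverse.injective twy_twy), fun q => ?_, ?_, ?_, ?_, ?_, ?_⟩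
  · rw [th_rel, k, k]; exact (h.rb q).mul hz
  · simpa only [W2.Rel, MonoidHom.comp_apply, twy_pW] using h.rv
  · simpa only [MonoidHom.comp_apply, twy_pW] using h.odd
  · rw [th_E]; exact h.sE
  · rw [th_range, th_rangeB]; exact h.syl
  · rw [th_E]; exact h.cE

theorem TS.th_not (h : TS J ρ σ) (hG : ∀ M : Subgroup G, M.index ≠ 2)
    (h1 : ∀ d ∈ AutG (J.comp bW), ∀ e, par (d e) = par e) : False := by
  have k : par (eb 0) = true := by decide +kernel
  obtain ⟨t, a1, a2⟩ := Transfer.thompson_transfer_extremal hG (H := J.range) (Q := i1.range.map J)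
    (R := (J.comp bW).range) (relIndex_top_right J.range ▸ h.top.not_dvd) (by
      rw [J.range_eq_map, relIndex_map_map_of_injective _ _ h.inj, relIndex_top_right, index_eq_two_iff']
      refine ⟨bW (eb 0), fun b => ?_⟩
      rw [mem_i1, mem_i1, SemidirectProduct.mul_left, SemidirectProduct.left_inl,
        SemidirectProduct.right_inl, map_one, MulAut.one_apply, par_mul, k]
      cases par b.left <;> simp) (u := J (bW (eb 0)))
    (by rw [← map_mul, ← map_mul, EG.sq, map_one, map_one])
    (pg_sq (cj_one (J.comp bW).range ▸ sq_range EG.sq _ 1)) (by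
      rintro _ ⟨x, rfl⟩
      rw [mem_Cx, MonoidHom.comp_apply, ← map_mul, ← map_mul, mul_comm, map_mul, map_mul])
  obtain ⟨θ, t1, t2⟩ := A16.exists_aut (j := J.comp bW) (h.inj.comp SemidirectProduct.inl_injective)
  have a3 := h.wc t⁻¹ (cj_le_iff.2 fun x hx => by simpa using a2 x hx)
  have a4 := t1 ⟨_, a3⟩ (eb 0)
  rw [W2.Rel, inv_inv] at a4
  have a5 := mem_i1.1 ((mem_map_iff_mem h.inj).1 (a4 ▸ a1 : J (bW _) ∈ i1.range.map J))
  exact absurd (a5.symm.trans ((h1 _ (t2.le ⟨_, rfl⟩) _).trans k)) (by decide)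

/-- `alE true` as an automorphism -/
noncomputable def thA : MulAut EG where
  toFun := alE true
  invFun := alE true
  left_inv := alE_alE true
  right_inv := alE_alE true
  map_mul' := alH.map_mul

/-- First case of `xalt`: `thompson_transfer_extremal` with `H = T`, `Q = J (range i1)` (index 2,
`mem_i1`), `u = t₀ = J (bW (eb 0))`, `R = B'`: `g⁻¹ B' g ≤ T`, so `g ∈ N(B')` (`wc`) maps the odd `eb 0`
to an even vector, false. Second case: `J' = J` or `J ∘ twy`. -/
theorem TS.tu (h : TS J ρ σ) (hG : ∀ M : Subgroup G, M.index ≠ 2) : ∃ J', TU J' ρ σ := by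
  rcases h.xalt with x | ⟨ε, x1, d, hd, x2⟩
  · exact (h.th_not hG fun d hd => (x d hd).1).elim
  cases ε
  · have e : d = tau1 := MulEquiv.ext x2
    exact ⟨J, h, h.top, h.wc, x1, e ▸ hd⟩
  · refine ⟨J.comp Har.twy, h.twy, h.twy.top, h.twy.wc, fun d' ⟨n, hn⟩ e => ?_, ?_⟩
    · have m : thA * d' * thA ∈ AutG (J.comp bW) := ⟨n, fun a => by
        have := th_rel.1 (hn (alE true a))
        rwa [alE_alE] at this⟩
      have := x1 _ m (alE true e)
      change ol (alE true (alE true (d' (alE true (alE true e))))) = _ at this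
      rwa [alE_alE, alE_alE] at this
    · obtain ⟨n, hn⟩ := hd
      exact ⟨n, fun a => th_rel.2 (by rw [← x2, alE_alE]; exact hn _)⟩

end CfsgLib.Har
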