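import Cfsg.Agent.Lib.Har.Bas
import Cfsg.Agent.Lib.Har.Sh

/-!
Project HAR (S1918, plans/HAR.md). The centralizers of `E` and `F` (package NE).
-/

set_option autoImplicit false
set_option Elab.async false
set_option linter.unusedSectionVars false
set_option synthInstance.maxSize 100000
set_option maxRecDepth 100000

namespace CfsgLib.Har

open Subgroup Equiv Function CfsgLib.W2 CfsgLib.W2.TG CfsgLib.Tech CfsgLib.PComp Cfsg CfsgLib.A16
  CfsgLib.SylT

variable {G : Type*} [Group G] [Finite G] {J : SG →* G} {π : G → P16} {ρ σ y : G}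

theorem ne_f1 : ∀ t, TL.In 960 t → eps (ge (i0 t)) = i0 t := by decide +kernel

theorem ne_f2 : ∀ s, TL.In 698 s → ∀ t, TL.In 960 t → TL.In 960 (s * t * s⁻¹) := by decide +kernel

theorem ne_f3 : ∀ t, TL.In 698 t → (∀ s, TL.In 960 s → s * t = t * s) → TL.In 960 t := by decide +kernel

theorem ne_f4 : ∀ t, TL.In 698 t → TL.In 960 t ∨ TL.In 960 (t * TL.x35) ∨ TL.In 960 (t * TL.x45) ∨
    TL.In 960 (t * TL.x35 * TL.x45) := by decide +kernel

theorem ne_f5 : TL.In 698 TL.x35 ∧ TL.In 698 TL.x45 ∧ TL.x35 * TL.x35 = 1 ∧ TL.x45 * TL.x45 = 1 ∧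
    TL.x35 * TL.x45 = TL.x45 * TL.x35 := by decide +kernel

omit [Finite G] in
theorem ne_FE (J : SG →* G) : TL.A.map (J.comp i0) ≤ (J.comp eps).range := by
  rintro _ ⟨t, ht, rfl⟩
  exact ⟨ge (i0 t), congrArg J (ne_f1 t ht)⟩

omit [Finite G] in
theorem ne_EC (J : SG →* G) : (J.comp eps).range ≤ centralizer ((J.comp eps).range : Set G) := by
  rintro _ ⟨a, rfl⟩ _ ⟨b, rfl⟩
  rw [← map_mul, mul_comm, map_mul]

omit [Finite G] in
theorem ne_cE (J : SG →* G) (s : SG) (a : EG) : J s * J (eps a) = J (eps (cE s a)) * J s := by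
  rw [eps_cE, ← map_mul, ← map_mul, inv_mul_cancel_right]

theorem ne_two (J : SG →* G) : IsPGroup 2 (J.comp eps).range :=
  (isPGroup_SG.of_surjective _ J.rangeRestrict_surjective).to_le (by
    rintro _ ⟨a, rfl⟩; exact ⟨_, rfl⟩)

/-- `D = C(F) ⊓ N(E)` is normalized by `A`; `R ⊇ E` Sylow in `D` normalized by `A` (`syl_inv`). If
`R ≠ E`, `step` gives `r ∈ R ∖ E` with `[r, x35], [r, x45] ∈ E`; by `shF` `J (eps a) · r` centralizes
`x35`, `x45` and `z, x25 ∈ F`, so it lies in `A` (`cent2`) and centralizes `F`, so it lies in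
`⟨z, x25⟩ ≤ E`. -/
theorem C3.ne (h : C3 J π ρ σ) : IsSylowIn 2 (J.comp eps).range
    (centralizer (TL.A.map (J.comp i0) : Set G) ⊓ normalizer ((J.comp eps).range : Set G)) := by
  have ED : (J.comp eps).range ≤ centralizer (TL.A.map (J.comp i0) : Set G) ⊓
      normalizer ((J.comp eps).range : Set G) :=
    le_inf ((ne_EC J).trans (centralizer_le (ne_FE J))) le_normalizer
  have pJ : IsPGroup 2 J.range := isPGroup_SG.of_surjective _ J.rangeRestrict_surjective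
  have pA : IsPGroup 2 (AT.map (J.comp i0)) := pJ.to_le (by rintro _ ⟨a, -, rfl⟩; exact ⟨_, rfl⟩)
  have AE : AT.map (J.comp i0) ≤ normalizer ((J.comp eps).range : Set G) := by
    rintro _ ⟨s, -, rfl⟩
    refine mem_normalizer_of_forall ?_
    rintro _ ⟨a, rfl⟩
    exact ⟨cE (i0 s) a, eq_mul_inv_of_mul_eq (ne_cE J _ a).symm⟩
  have AD : AT.map (J.comp i0) ≤ normalizer ((centralizer (TL.A.map (J.comp i0) : Set G) ⊓
      normalizer ((J.comp eps).range : Set G) : Subgroup G) : Set G) := by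
    rintro _ ⟨s, hs, rfl⟩
    have h1 := AE ⟨s, hs, rfl⟩
    refine mem_normalizer_of_forall fun x hx => ⟨?_, Subgroup.mul_mem _ (Subgroup.mul_mem _ h1 hx.2) (Subgroup.inv_mem _ h1)⟩
    rintro _ ⟨t, ht, rfl⟩
    have := hx.1 _ ⟨s⁻¹ * t * s⁻¹⁻¹, ne_f2 _ (AT.inv_mem hs) t ht, rfl⟩
    rw [map_mul, map_mul, map_inv, map_inv, map_inv, inv_inv] at this
    calc _ = (J.comp i0) s * (((J.comp i0) s)⁻¹ * (J.comp i0) t * (J.comp i0) s * x) * ((J.comp i0) s)⁻¹ := by
          group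
      _ = _ := by rw [this]; group
  obtain ⟨R, hR, ER, AR⟩ := syl_inv pA AD (ne_two J) ED AE
  suffices H : R ≤ (J.comp eps).range by rwa [le_antisymm H ER] at hR
  by_contra H
  obtain ⟨r, rR, rE, -, hr⟩ := step hR.pgroup pA ER AR AE H
  obtain ⟨k1, k2, k3, k4, k5⟩ := ne_f5
  obtain ⟨c1, e1⟩ := hr _ ⟨TL.x35, k1, rfl⟩
  obtain ⟨c2, e2⟩ := hr _ ⟨TL.x45, k2, rfl⟩
  change J (eps c1) = r * J (i0 TL.x35) * r⁻¹ * (J (i0 TL.x35))⁻¹ at e1
  change J (eps c2) = r * J (i0 TL.x45) * r⁻¹ * (J (i0 TL.x45))⁻¹ at e2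
  have inj : ∀ {a b : EG}, J (eps a) = J (eps b) → a = b := fun e => eps_inj (h.inj e)
  have key : ∀ {s t : TL} {c c' : EG}, J (eps c) = r * J (i0 s) * r⁻¹ * (J (i0 s))⁻¹ →
      J (eps c') = r * J (i0 t) * r⁻¹ * (J (i0 t))⁻¹ →
      J (eps (c * cE (i0 s) c')) = r * J (i0 (s * t)) * r⁻¹ * (J (i0 (s * t)))⁻¹ := fun {s t c c'} a1 a2 => by
    rw [map_mul, map_mul, eq_mul_inv_of_mul_eq (ne_cE J (i0 s) c').symm, a1, a2, map_mul, map_mul]
    group
  obtain ⟨a, a1, a2⟩ := shF c1 c2 (inj (by rw [key e1 e1, k3]; simp)) (inj (by rw [key e2 e2, k4]; simp))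
    (inj (by rw [key e1 e2, key e2 e1, k5]))
  have cm : ∀ {s : TL} {c : EG}, J (eps c) = r * J (i0 s) * r⁻¹ * (J (i0 s))⁻¹ → c = a * cE (i0 s) a →
      Commute (J (eps a) * r) (J (i0 s)) := fun {s c} b1 b2 => by
    have b3 : r * J (i0 s) = J (eps c) * J (i0 s) * r := by rw [b1]; group
    show J (eps a) * r * J (i0 s) = J (i0 s) * (J (eps a) * r)
    have b4 : J (eps a) * J (eps c) = J (eps (cE (i0 s) a)) := by
      rw [← map_mul, ← map_mul, b2, ← mul_assoc, EG.sq, one_mul]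
    rw [mul_assoc, b3, ← mul_assoc, ← mul_assoc, b4, ← mul_assoc, ne_cE]
  have gR : J (eps a) * r ∈ R := mul_mem (ER ⟨a, rfl⟩) rR
  have cF : ∀ t, TL.In 960 t → Commute (J (eps a) * r) (J (i0 t)) := fun t ht =>
    ((hR.le gR).1 _ ⟨t, ht, rfl⟩).symm
  have c35 := cm e1 a1
  have c45 := cm e2 a2
  obtain ⟨t, ht, et⟩ := h.hy.cent2 (g := J (eps a) * r) (fun t ht => by
    show Commute (J (eps a) * r) (J (i0 t))
    rcases ne_f4 t ht with k | k | k | k
    · exact cF t k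
    · simpa using (cF _ k).mul_right c35.inv_right
    · simpa using (cF _ k).mul_right c45.inv_right
    · simpa using ((cF _ k).mul_right c45.inv_right).mul_right c35.inv_right)
    (isPGroup_iff_mem.1 hR.pgroup _ gR)
  have tF := ne_f3 t ht fun s hs => h.hy.inj (by
    rw [map_mul, map_mul, et]; exact (cF s hs).symm)
  exact rE ((Subgroup.mul_mem_cancel_left (J.comp eps).range (x := J (eps a)) ⟨a, rfl⟩).1 (et ▸ ne_FE J ⟨t, tF, rfl⟩))

theorem C3.ne1 (h : C3 J π ρ σ) :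
    IsSylowIn 2 (J.comp eps).range (centralizer ((J.comp eps).range : Set G)) := by
  exact h.ne.of_le (ne_EC J) (le_inf (centralizer_le (ne_FE J)) (centralizer_le_normalizer _))

/-- `C(E)` is a normal subgroup of odd index of `C(F) ⊓ N(E)` -/
theorem C3.ne2 (h : C3 J π ρ σ) {g : G} {d : MulAut EG} (hg : ∀ a, W2.Rel (J.comp eps) g a (d a))
    (hF : ∀ t, TL.In 960 t → d (ge (i0 t)) = ge (i0 t)) (h2 : d * d = 1) : d = 1 := by
  have gN : g ∈ normalizer ((J.comp eps).range : Set G) := mem_normalizer_of_forall (by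
    rintro _ ⟨a, rfl⟩; exact ⟨d a, Eq.symm (hg a)⟩)
  have gF : g ∈ centralizer (TL.A.map (J.comp i0) : Set G) := by
    rintro _ ⟨t, ht, rfl⟩
    have := ((hg (ge (i0 t))).of_eq rfl (hF t ht)).comm
    change g * J (eps (ge (i0 t))) = J (eps (ge (i0 t))) * g at this
    rw [ne_f1 t ht] at this
    exact this.symm
  have g2 : g ^ 2 ∈ centralizer ((J.comp eps).range : Set G) := by
    rintro _ ⟨a, rfl⟩
    rw [pow_two]
    exact (((hg (d a)).comp (hg a)).of_eq rfl (by rw [← MulAut.mul_apply, h2]; rfl)).comm.symm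
  obtain ⟨n, m, hm, e⟩ := Nat.exists_eq_two_pow_mul_odd (orderOf_pos g).ne'
  have gm : g ^ m ∈ (J.comp eps).range := h.ne.le_of_normalizes (isPGroup_zpowers_of_pow (k := n) (by
      rw [← pow_mul, mul_comm, ← e, pow_orderOf_eq_one]))
    (zpowers_le.2 (pow_mem (mem_inf.2 ⟨gF, gN⟩) m)) (zpowers_le.2 (pow_mem gN m)) (mem_zpowers _)
  have gC := mem_of_coprime_pow (Nat.coprime_two_left.2 hm) g2 (ne_EC J gm)
  exact MulEquiv.ext fun a => (hg a).uniq (h.inj.comp eps_inj) (W2.Rel.of_comm (gC _ ⟨a, rfl⟩).symm) rfl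

end CfsgLib.Har
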