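import Cfsg.Agent.Lib.Har.Nb
import Cfsg.Agent.Lib.Har.Ne
import Cfsg.Agent.Lib.Har.Reg
import Cfsg.Agent.Lib.Har.E256

/-!
Project HAR (S1918, plans/HAR.md). The group `T` (package TT).
-/

set_option autoImplicit false
set_option Elab.async false
set_option linter.unusedSectionVars false
set_option synthInstance.maxSize 100000
set_option maxRecDepth 100000

namespace CfsgLib.Har

open Subgroup Equiv Function CfsgLib.W2 CfsgLib.W2.TG CfsgLib.Tech CfsgLib.PComp Cfsg CfsgLib.A16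
  CfsgLib.SylT

variable {G : Type*} [Group G] [Finite G] {J : SG →* G} {π : G → P16} {ρ σ y : G}

/-- the even part -/
def tt_hb (e : EG) : BG := o (e.v / 2)

theorem tt_hb_facts : (∀ e, iB (tt_hb e) * (if par e then eb 0 else 1) = e) ∧
    (∀ b, tt_hb (iB b) = b ∧ par (iB b) = false) ∧ tt_hb (eb 0) = 1 ∧ (∀ q, par (eb q) = true) ∧
    (∀ q, iB (tb 0 q) * eb 0 = eb q) ∧ (∀ g ∈ gE, ∃ q, eb q = g) ∧ (∀ p q, eb p = eb q → p = q) ∧
    r8 0 = 0 ∧ ze ≠ 1 := by decide +kernel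

theorem tt_hb_mul : ∀ a b, tt_hb (a * b) = tt_hb a * tt_hb b := by decide +kernel

omit [Finite G] in
theorem tt_ext {f g : EG →* G} (h1 : ∀ b, f (iB b) = g (iB b)) (h2 : f (eb 0) = g (eb 0)) : f = g :=
  MonoidHom.ext fun e => by
    rw [← tt_hb_facts.1 e, map_mul, map_mul, h1]
    split_ifs
    exacts [congrArg _ h2, by rw [map_one, map_one]]

theorem tt_ind {P : EG → Prop} (h1 : P 1) (h2 : ∀ a q, P a → P (a * eb q)) (e : EG) : P e :=
  ind_of_genB gE_gen h1 (fun a ha g hg => by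
    obtain ⟨q, rfl⟩ := tt_hb_facts.2.2.2.2.2.1 g hg
    exact h2 a q ha) e

theorem tt_aut_ext {d d' : MulAut EG} (h : ∀ q, d (eb q) = d' (eb q)) : d = d' :=
  MulEquiv.ext (tt_ind (by rw [map_one, map_one]) fun a q ha => by rw [map_mul, map_mul, ha, h])

theorem tt_conj (t : TW) (a : EG) : t * bW a * t⁻¹ = bW (aP t.right a) := by
  rw [mul_inv_eq_iff_eq_mul]
  refine SemidirectProduct.ext ?_ (by simp)
  simp [mul_comm]

/-- `n` permutes the basis as `ν` -/
def tt_Ac (j : EG →* G) (n : G) (ν : Perm (Fin 8)) : Prop := ∀ q, W2.Rel j n (eb q) (eb (ν q))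

omit [Finite G] in
theorem tt_Ac.mul {j : EG →* G} {n n' : G} {ν ν' : Perm (Fin 8)} (h : tt_Ac j n ν) (h' : tt_Ac j n' ν') :
    tt_Ac j (n * n') (ν * ν') := fun q => (h _).comp (h' q)

omit [Finite G] in
theorem tt_Ac.inv {j : EG →* G} {n : G} {ν : Perm (Fin 8)} (h : tt_Ac j n ν) : tt_Ac j n⁻¹ ν⁻¹ := fun q => by
  simpa using (h (ν⁻¹ q)).symm

omit [Finite G] in
theorem tt_Ac.uniq {j : EG →* G} (hj : Injective j) {n : G} {ν ν' : Perm (Fin 8)} (h : tt_Ac j n ν)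
    (h' : tt_Ac j n ν') : ν = ν' :=
  Perm.ext fun q => tt_hb_facts.2.2.2.2.2.2.1 _ _ ((h q).uniq hj (h' q) rfl)

theorem tt_Ac.norm {j : EG →* G} {n : G} {ν : Perm (Fin 8)} (h : tt_Ac j n ν) :
    n ∈ normalizer (j.range : Set G) := mem_normalizer_of_forall (by
  rintro _ ⟨e, rfl⟩
  obtain ⟨e', r⟩ := tt_ind (P := fun e => ∃ e', W2.Rel j n e e') ⟨1, W2.Rel.one⟩
    (fun a q ⟨_, ha⟩ => ⟨_, ha.mul (h q)⟩) e
  exact ⟨e', Eq.symm r⟩)

omit [Finite G] in
theorem tt_rel (J' : TW →* G) (t : TW) (a : EG) : W2.Rel (J'.comp bW) (J' t) a (aP t.right a) :=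
  (W2.Rel.conj J' t (bW a)).trans (congrArg J' (tt_conj t a))

omit [Finite G] in
theorem tt_Ac_map (J' : TW →* G) (t : TW) : tt_Ac (J'.comp bW) (J' t) (pw t.right) := fun q =>
  aP_eb t.right q ▸ tt_rel J' t (eb q)

/-- `f : EG →* G`, `f (iB b · (eb 0)^k) = J (bet b) y^k`; `SemidirectProduct.lift f (J ∘ trH)`
(`iB_cB`; `aP p (eb 0) = eb (pw p 0) = iB (tb 0 (pw p 0)) · eb 0`, `act`); `SG_hom_ext`.
Injective: `bW ze` lies in every nontrivial normal subgroup (`center_TW`). -/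
theorem C4.exists_JT (h : C4 J π ρ σ y) :
    ∃ J' : TW →* G, Injective J' ∧ J'.comp i1 = J ∧ J' (bW (eb 0)) = y := by
  obtain ⟨-, a2, a3, a4, a5, -⟩ := tt_hb_facts
  let f : EG →* G := MonoidHom.mk' (fun e => J (bet (tt_hb e)) * if par e then y else 1) fun a b => by
    have c : Commute y (J (bet (tt_hb b))) := h.cB _
    simp only [tt_hb_mul, par_mul, map_mul]
    cases par a <;> cases par b
    · simp
    · simp [mul_assoc]
    · simp [mul_assoc, c.eq]
    · simp only [Bool.xor_self, Bool.false_eq_true, if_false, if_true, mul_one]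
      rw [mul_assoc, ← mul_assoc y, c.eq, mul_assoc, h.sq, mul_one]
  have f1 : ∀ b, f (iB b) = J (bet b) := fun b => by
    change J (bet (tt_hb _)) * (if par _ then y else 1) = _
    rw [(a2 b).1, (a2 b).2, if_neg Bool.false_ne_true, mul_one]
  have f2 : f (eb 0) = y := by
    change J (bet (tt_hb _)) * (if par _ then y else 1) = _
    rw [a3, a4, if_pos rfl, map_one, map_one, one_mul]
  let J' : TW →* G := SemidirectProduct.lift f (J.comp trH) fun p => tt_ext (fun b => by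
      change f (aP p (iB b)) = J (trH p) * f (iB b) * (J (trH p))⁻¹
      rw [← iB_cB, f1, f1, bet_cB, map_mul, map_mul, map_inv]) (by
      change f (aP p (eb 0)) = J (trH p) * f (eb 0) * (J (trH p))⁻¹
      rw [aP_eb, ← a5, map_mul, f1, f2, h.act])
  have e1 : ∀ e, J' (bW e) = f e := fun e => SemidirectProduct.lift_inl _ _ _ e
  have e2 : J'.comp i1 = J := SG_hom_ext (fun b => by rw [MonoidHom.comp_apply, i1_bet, e1, f1]) fun p => by
    rw [MonoidHom.comp_apply, i1_trH]; exact SemidirectProduct.lift_inr _ _ _ p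
  refine ⟨J', (injective_iff_map_eq_one _).2 fun x hx => ?_, e2, (e1 _).trans f2⟩
  cases hp : par x.left
  · obtain ⟨s, rfl⟩ := mem_i1.2 hp
    rw [h.inj ((DFunLike.congr_fun e2 s).symm.trans (hx.trans (map_one J).symm)), map_one]
  · obtain ⟨s, hs⟩ := (mem_i1 (x := bW (eb 0) * x)).2 (by simp [par_mul, hp, a4])
    refine absurd ⟨s, ?_⟩ h.nm
    rw [← e2, MonoidHom.comp_apply, hs, map_mul, hx, mul_one, e1, f2]

/-- `B'` is a Sylow subgroup of `C(B)` -/
theorem tt_cent (h : C3 J π ρ σ) {j : EG →* G} (hj : Injective j) (h1 : ∀ b, j (iB b) = J (bet b))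
    {g : G} (hg : g ∈ normalizer (j.range : Set G)) (hc : ∀ b, W2.Rel j g (iB b) (iB b)) {k : ℕ}
    (hk : g ^ 2 ^ k = 1) : g ∈ j.range := by
  have c : j.range ⊔ zpowers g ≤ centralizer ((J.comp bet).range : Set G) := by
    refine sup_le ?_ (zpowers_le.2 ?_)
    · rintro _ ⟨e, rfl⟩ _ ⟨b, rfl⟩
      rw [MonoidHom.comp_apply, ← h1, ← map_mul, mul_comm, map_mul]
    · rintro _ ⟨b, rfl⟩
      rw [MonoidHom.comp_apply, ← h1, (hc b).comm]
  have p1 : IsPGroup 2 j.range := pg_sq (by rintro _ ⟨e, rfl⟩; rw [← map_mul, EG.sq, map_one])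
  have b := h.bs.bound h.hy (p1.to_sup_of_normal_left' (isPGroup_zpowers_of_pow hk) (zpowers_le.2 hg))
    (c.trans (centralizer_le (by rintro _ ⟨t, ht, rfl⟩; exact ⟨_, h.bs.a t ht⟩)))
    (c.trans (centralizer_le_normalizer _))
  have e : Nat.card j.range = 256 := by
    rw [← Nat.card_congr (MonoidHom.ofInjective hj).toEquiv, card_eq]
  exact (eq_of_le_of_card_ge (le_sup_left : j.range ≤ _ ⊔ zpowers g) (b.trans e.ge)).ge (mem_sup_right (mem_zpowers g))

theorem tt_syl (h : C3 J π ρ σ) {J' : TW →* G} (hJ : Injective J') (h1 : ∀ b, J' (bW (iB b)) = J (bet b))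
    (hr : tt_Ac (J'.comp bW) ρ r8) : IsSylowIn 2 J'.range (normalizer ((J'.comp bW).range : Set G)) := by
  set j := J'.comp bW with hj0
  have hj : Injective j := hJ.comp SemidirectProduct.inl_injective
  have pT : IsPGroup 2 J'.range := two_TW.of_surjective _ J'.rangeRestrict_surjective
  by_contra hn
  obtain ⟨r, rB, rT, r1, r2⟩ := exists_y pT (by rintro _ ⟨t, rfl⟩; exact (tt_Ac_map J' t).norm) hn
  have s8 : ∀ ν, ∃ n, tt_Ac j n ν := fun ν => (gen_S8 (K :=
    { carrier := {ν | ∃ n, tt_Ac j n ν}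
      mul_mem' := fun ⟨_, a⟩ ⟨_, b⟩ => ⟨_, a.mul b⟩
      one_mem' := ⟨1, fun q => by simp [W2.Rel]⟩
      inv_mem' := fun ⟨_, a⟩ => ⟨_, a.inv⟩ }) (fun p => ⟨_, tt_Ac_map J' (pW p)⟩) ⟨_, hr⟩).ge (mem_top ν)
  obtain ⟨θ, hθ, -⟩ := exists_aut hj
  obtain ⟨θ', hθ', -⟩ := exists_aut hJ
  set δ := θ ⟨r, rB⟩
  set α := θ' ⟨r, rT⟩
  have rδ : ∀ a, W2.Rel j r a (δ a) := hθ ⟨r, rB⟩
  have e1 : ∀ a, α (bW a) = bW (δ a) := fun a => (hθ' ⟨r, rT⟩ _).uniq hJ (rδ a) rfl
  have e2 : δ ze = ze := by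
    refine SemidirectProduct.inl_injective ((center_TW fun t => ?_).resolve_left fun e => tt_hb_facts.2.2.2.2.2.2.2.2
      (δ.injective ((SemidirectProduct.inl_injective (e.trans (map_one _).symm)).trans (map_one _).symm)))
    obtain ⟨t, rfl⟩ := α.surjective t
    rw [← e1, ← map_mul, ← map_mul, mul_inv_eq_iff_eq_mul.1 (tt_conj t ze),
      (by decide +kernel : ∀ p, aP p ze = ze)]
  let s : P8 →* P8 := SemidirectProduct.rightHom.comp (α.toMonoidHom.comp pW)
  have e3 : ∀ p a, δ (aP p a) = aP (s p) (δ a) := fun p a => SemidirectProduct.inl_injective (by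
    have := congrArg α (tt_conj (pW p) a)
    rw [map_mul, map_mul, map_inv, e1, e1, tt_conj] at this
    exact this.symm)
  obtain ⟨ν, hν⟩ := reg (fun i => pw (s (pv i)))
    (fun i => by rw [← map_mul, ← map_mul, (by decide +kernel : ∀ i, pv i * pv i = 1), map_one, map_one])
    (fun i k => by
      rw [← map_mul, ← map_mul, (by decide +kernel : ∀ i k, pv i * pv k = pv k * pv i), map_mul, map_mul])
    fun i k l hi => by
      obtain ⟨a, ha⟩ := (by decide +kernel : ∀ i k l : Bool, (i || k || l) = true → ∃ a, a * aP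
        ((if i then pv 0 else 1) * (if k then pv 1 else 1) * (if l then pv 2 else 1)) a = ze) i k l hi
      have := (by decide +kernel : ∀ p a, a * aP p a = ze → ∀ q, pw p q ≠ q) _ _ (by rw [← e3, ← map_mul, ha, e2])
      simpa only [map_mul, apply_ite s, apply_ite pw, map_one] using this
  obtain ⟨n, an⟩ := s8 ν
  set d := θ ⟨n, an.norm⟩
  have rd : ∀ a, W2.Rel j n a (d a) := hθ ⟨n, an.norm⟩
  have e4 : ∀ q, d (eb q) = eb (ν q) := fun q => (rd _).uniq hj (an q) rfl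
  obtain ⟨v, φ, b1, b2⟩ := endE (d * δ) fun i => by
    have k : d * aP (s (pv i)) = aP (pv i) * d := tt_aut_ext fun q => by
      rw [MulAut.mul_apply, MulAut.mul_apply, aP_eb, e4, e4, aP_eb, ← hν i]; simp
    rw [← mul_assoc, ← k, mul_assoc, mul_assoc]
    exact congrArg _ (MulEquiv.ext (e3 _))
  have rg : ∀ a a', (d * δ) a = aP v a' → W2.Rel j ((J' (pW v))⁻¹ * (n * r)) a a' := fun a a' e =>
    (tt_rel J' (pW v) a').symm.comp (((rd _).comp (rδ a)).of_eq rfl e)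
  obtain ⟨ε, b3⟩ := b2 (h.bs.no_tw h.hy (g := (J' (pW v))⁻¹ * (n * r)) fun b => by
    have := rg _ _ (b1 b)
    simpa only [W2.Rel, hj0, MonoidHom.comp_apply, h1] using this)
  have gN : (J' (pW v))⁻¹ * (n * r) ∈ normalizer (j.range : Set G) :=
    mul_mem (inv_mem (tt_Ac_map J' _).norm) (mul_mem an.norm rB)
  replace b3 := fun a => rg a _ (b3 a)
  generalize hg : (J' (pW v))⁻¹ * (n * r) = g at gN b3
  cases ε
  swap
  · obtain ⟨k, m, hm, e⟩ := Nat.exists_eq_two_pow_mul_odd (orderOf_pos g).ne'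
    obtain ⟨m, rfl⟩ := hm
    have k1 : ∀ m a, W2.Rel j (g ^ (2 * m + 1)) a (alE true a) := fun m => by
      induction m with
      | zero => simpa using b3
      | succ m ih =>
        intro a
        rw [show 2 * (m + 1) + 1 = 2 * m + 1 + 1 + 1 by ring, pow_succ, pow_succ, mul_assoc]
        exact (ih _).comp (((b3 _).comp (b3 a)).of_eq rfl (alE_alE _ _))
    obtain ⟨c, hc⟩ := tt_cent h hj h1 (pow_mem gN (2 * m + 1)) (k := k)
      (fun b => (k1 m _).of_eq rfl (by simp [alE, (tt_hb_facts.2.1 b).2]))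
      (by rw [← pow_mul, mul_comm, ← e, pow_orderOf_eq_one])
    exact absurd ((k1 m (eb 0)).uniq hj (hc ▸ W2.Rel.conj j c (eb 0)) rfl)
      ((by decide +kernel : ∀ c : EG, alE true (eb 0) ≠ c * eb 0 * c⁻¹) c)
  have ar : tt_Ac j r (ν⁻¹ * (pw v * 1)) := by
    rw [show r = n⁻¹ * (J' (pW v) * g) by rw [← hg]; group]
    exact an.inv.mul ((tt_Ac_map J' (pW v)).mul fun q => b3 (eb q))
  generalize ν⁻¹ * (pw v * 1) = μ at ar
  obtain ⟨t, ht⟩ := r2
  obtain ⟨p, rfl⟩ := mem_pw (μ := μ) (mem_normalizer_of_forall (by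
    rintro _ ⟨p, rfl⟩
    refine ⟨s p, eq_mul_inv_of_mul_eq (Perm.ext fun q => tt_hb_facts.2.2.2.2.2.2.1 _ _ ?_)⟩
    have k : ∀ q, δ (eb q) = eb (μ q) := fun q => (rδ _).uniq hj (ar q) rfl
    rw [Perm.mul_apply, Perm.mul_apply, ← aP_eb, ← k, ← e3, aP_eb, k]))
    ⟨_, (tt_Ac_map J' t).uniq hj (ht ▸ ar.mul ar)⟩
  have ac := ar.mul (tt_Ac_map J' (pW p)).inv
  rw [show pw p * (pw (pW p).right)⁻¹ = 1 from mul_inv_cancel _] at ac
  have m : J' (pW p) ∈ J'.range := ⟨_, rfl⟩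
  obtain ⟨k, hk⟩ := isPGroup_iff_mem.1 pT (r * (J' (pW p))⁻¹ * (r * (J' (pW p))⁻¹)) (by
    rw [show ∀ a b : G, a * b * (a * b) = a * b * a⁻¹ * (a * a) * b from fun a b => by group]
    exact mul_mem (mul_mem (conj_mem_of_mem_normalizer rT (inv_mem m)) ⟨t, ht⟩) (inv_mem m))
  obtain ⟨c, hc⟩ := tt_cent h hj h1 ac.norm (k := k + 1) (fun b => tt_ind (P := fun a => W2.Rel j _ a a) W2.Rel.one
    (fun a q ha => ha.mul (ac q)) _) (by rw [pow_succ', pow_mul, pow_two, hk])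
  exact r1 ((mul_mem_cancel_right (inv_mem m)).1 ⟨_, hc⟩)

/-- The fields `rb`, `rv`, `odd`, `sE`, `cE` are direct (`sR_tb`, `ry`, `rq`, `i0_tr`, `odd_of`, `ne1`).
`syl`: first, `B'` is Sylow in `C(B)` (`bound`). The automizer of `B'` contains all permutations of
the basis (`gen_S8`). If `T` is not Sylow in `N(B')`, take `r ∈ N(T) ⊓ N(B') ∖ T`, `r² ∈ T`
(`exists_y`), acting on `B'` as `δ`, `δ ze = ze` (`center_TW`). As in `C3.y0`, `δ V δ⁻¹` is regular
(`ze = a · v a`), so some `n r` commutes with `V` on `B'`; `endE` and `no_tw` give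
`n r ↦ aP v ∘ alE ε`; `ε = true` is impossible: an element acting as `alE true` centralizes `B`, an odd
power of it is a 2-element with the same action, in the 2-subgroup `B'⟨·⟩` of `C(B)`, so in `B'`. So
`δ` is a permutation `μ` of the basis, `μ ∈ range pw` (`mem_pw`), and `r · J' (pW p)⁻¹ ∈ C(B')` is in
the 2-group `T⟨r⟩`, hence in `B'`. -/
theorem C4.ts (h : C4 J π ρ σ y) : ∃ J' : TW →* G, TS J' ρ σ := by
  obtain ⟨J', hJ, e1, e2⟩ := h.exists_JT
  have h0 : ∀ s, J' (i1 s) = J s := DFunLike.congr_fun e1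
  have h1 : ∀ b, J' (bW (iB b)) = J (bet b) := fun b => by rw [← i1_bet, h0]
  have h2 : ∀ p, J' (pW p) = J (trH p) := fun p => by rw [← i1_trH, h0]
  have hE : J'.comp tE = J.comp eps := by rw [← e1]; rfl
  have hr : tt_Ac (J'.comp bW) ρ r8 := fun q => by
    have a : W2.Rel (J'.comp bW) ρ (iB (tb 0 q)) (iB (tb 0 (r8 q))) := by
      have := h.rb (tb 0 q)
      rw [sR_tb, tt_hb_facts.2.2.2.2.2.2.2.1] at this
      simpa only [W2.Rel, MonoidHom.comp_apply, h1] using this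
    exact (a.mul (W2.Rel.of_comm (p := eb 0) (by rw [MonoidHom.comp_apply, e2, h.ry]))).of_eq
      (tt_hb_facts.2.2.2.2.1 _) (tt_hb_facts.2.2.2.2.1 _)
  obtain ⟨t1, t2, t3, t4, t5, -⟩ := i0_tr
  have rv : ∀ {a b : TL} {p q : P8}, i0 a = trH p → i0 b = trH q → TL.In 560 a ∧ rT a = b →
      W2.Rel J' ρ (pW p) (pW q) := fun ea eb e => by
    have := h.rq _ e.1
    rw [e.2] at this
    simpa only [W2.Rel, MonoidHom.comp_apply, h2, ea, eb] using this
  have od : ∀ {a : TL} {p : P8}, i0 a = trH p → (i16 a * r16) ^ 7 = 1 → Odd (orderOf (J' (pW p) * ρ)) :=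
    fun {a p} ea e => by
      rw [h2, ← ea]
      refine h.hy.odd_of (mul_mem (h.hy.memN a) h.rN) ?_
      rw [show π (J (i0 a) * ρ) = _ from h.hy.mul (h.hy.memN a) h.rN,
        show π (J (i0 a)) = _ from h.hy.sec a, h.rp]
      exact (by decide : Odd 7).of_dvd_nat (orderOf_dvd_of_pow_eq_one e)
  exact ⟨J', hJ, hr, ⟨rv t1 t2 (by decide +kernel), rv t2 t3 (by decide +kernel), rv t3 t1 (by decide +kernel)⟩,
    ⟨h.hy.odd_of h.rN (h.rp ▸ (by decide : Odd 3).of_dvd_nat (orderOf_dvd_of_pow_eq_one (by decide +kernel))),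
      od t4 (by decide +kernel), od t5 (by decide +kernel)⟩, hE ▸ h.sE, tt_syl h.toC3 hJ h1 hr, hE ▸ h.ne1⟩

end CfsgLib.Har
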