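import Cfsg.Agent.Lib.Har.Ne
import Cfsg.Agent.Lib.Har.Reg

/-!
Project HAR (S1918, plans/HAR.md). The involution `y` (package YK).
-/

set_option autoImplicit false
set_option Elab.async false
set_option linter.unusedSectionVars false
set_option synthInstance.maxSize 100000
set_option maxRecDepth 100000

namespace CfsgLib.Har

open Subgroup Equiv Function CfsgLib.W2 CfsgLib.W2.TG CfsgLib.Tech CfsgLib.PComp Cfsg CfsgLib.A16
  CfsgLib.SylT

variable {G : Type*} [Group G] [Finite G] {J : SG →* G} {π : G → P16} {ρ σ y : G}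

noncomputable section

/-- the action of `y` on `E` -/
def ykf (κ : Bool) (e : EG) : EG := alE κ (if par (o (Nat.land e.v 3)) then e * ue 0 else e)

theorem ykf_ok : ∀ κ, (∀ e, ykf κ (ykf κ e) = e) ∧ ykf κ 1 = 1 ∧
    ∀ g ∈ gE, ∀ a, ykf κ (a * g) = ykf κ a * ykf κ g := by decide +kernel

def ykE (κ : Bool) : MulAut EG where
  toFun := ykf κ
  invFun := ykf κ
  left_inv := (ykf_ok κ).1
  right_inv := (ykf_ok κ).1
  map_mul' := (homOf gE_gen (ykf κ) (ykf_ok κ).2.1 (ykf_ok κ).2.2).map_mul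

def ykA : MulAut EG := ph (pr (i0 TL.x35))
def ykW : MulAut EG := ykA * ykE true * sE * ph (pr (i0 TL.x45)) * ph (pr (sc (o 16))) * sE * ykE true
def ykV : MulAut EG := ykA * ykE true * sE * ph (pr (i0 TL.x45)) * ph (pr (sc (o 16))) * sE * ykE true * sE
def ykR : MulAut EG := ykA * (ykE false * sE * (ykE false)⁻¹ * sE⁻¹) * ykA⁻¹

end

theorem yk_gen : ∀ κ, ∀ g ∈ gE, bet (gb (eps g * (trH (tp (eps g)))⁻¹)) *
    (bet (dk κ (tp (eps g))) * trH (tp (eps g))) = eps (ykE κ g) := by decide +kernel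

theorem yk_W : (∀ t, TL.In 960 t → (ykW * ykV) (ge (i0 t)) = ge (i0 t)) ∧ ykW * ykV * (ykW * ykV) = 1 ∧
    ykW * ykV ≠ 1 := by decide +kernel

theorem yk_R : (∀ a, ((ykE false)⁻¹ * (ykR * ykE false * ykR⁻¹)) a = a) ∧
    ∀ f, ykR ze ≠ ykE false f * ze * f := by decide +kernel

theorem yk_Q : ∀ t, TL.In 560 t → ∃ v, i0 t = bet (gb (i0 t * i0 (va v))) * i0 (va v) := by decide +kernel

/-- `g` acts on `E` as `d` -/
def YkR (J : SG →* G) (g : G) (d : MulAut EG) : Prop := ∀ a, W2.Rel (J.comp eps) g a (d a)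

theorem YkR.mul {g g' : G} {d d' : MulAut EG} (h : YkR J g d) (h' : YkR J g' d') : YkR J (g * g') (d * d') :=
  fun a => (h (d' a)).comp (h' a)

theorem YkR.inv {g : G} {d : MulAut EG} (h : YkR J g d) : YkR J g⁻¹ d⁻¹ :=
  fun a => by simpa using (h (d⁻¹ a)).symm

theorem YkR.norm {g : G} {d : MulAut EG} (h : YkR J g d) : g ∈ normalizer ((J.comp eps).range : Set G) :=
  mem_normalizer_of_forall (by rintro _ ⟨a, rfl⟩; exact ⟨_, Eq.symm (h a)⟩)

theorem ykR_J (J : SG →* G) (s : SG) : YkR J (J s) (ph (pr s)) := fun a => by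
  change J s * J (eps a) * (J s)⁻¹ = J (eps _)
  rw [eps_ph, map_mul, map_mul, map_inv]

theorem Y1.ykR {κ : Bool} (hy : Y1 J π ρ y κ) : YkR J y (ykE κ) := by
  have h1 : ∀ p, W2.Rel J y (trH p) (bet (dk κ p) * trH p) := fun p => by
    have h2 : J (bet (dk κ p)) * J (bet (dk κ p)) = 1 := by rw [← map_mul, ← map_mul, BG.sq, map_one, map_one]
    have h3 := mul_inv_eq_iff_eq_mul.1 (hy.act p)
    change y * J _ * y⁻¹ = J _
    rw [map_mul, mul_inv_eq_iff_eq_mul, mul_assoc, h3, ← mul_assoc, ← mul_assoc, h2, one_mul]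
  refine ind_of_genB gE_gen (P := fun a => W2.Rel (J.comp eps) y a (ykE κ a))
    (by rw [map_one]; exact W2.Rel.one) fun a ih g hg => ?_
  rw [map_mul]
  refine ih.mul ?_
  exact ((W2.Rel.of_comm (hy.cB _)).mul (h1 _)).of_eq (trH_tp (eps g)) (yk_gen κ g hg)

theorem C3.yk_sq (h : C3 J π ρ σ) (hy : Y1 J π ρ y false) : y * y = 1 := by
  refine hy.sq.resolve_right fun e => ?_
  have hσ : YkR J σ Har.sE := h.sE
  have ha := ykR_J J (i0 TL.x35)
  have hr : YkR J _ ykR := (ha.mul (((hy.ykR.mul hσ).mul hy.ykR.inv).mul hσ.inv)).mul ha.inv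
  generalize J (i0 TL.x35) * (y * σ * y⁻¹ * σ⁻¹) * (J (i0 TL.x35))⁻¹ = r at hr
  have hg := hy.ykR.inv.mul ((hr.mul hy.ykR).mul hr.inv)
  have hC : y⁻¹ * (r * y * r⁻¹) ∈ centralizer ((J.comp eps).range : Set G) := by
    rintro _ ⟨a, rfl⟩
    exact ((hg a).of_eq rfl (yk_R.1 a)).comm.symm
  obtain ⟨_, ⟨f, rfl⟩, c, hc, e1⟩ := cent_syl h.ne1 (fun e he c hc => hc e he) hC
  set j := J.comp eps with hj
  have hz : j ze = y * y := by rw [e, ← z_facts.2.1]; rfl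
  have hN : y * j f ∈ normalizer (opOf 2 (centralizer (j.range : Set G)) : Set G) :=
    normalizer_le_normalizer_opOf _ (Core.normalizer_le_normalizer_centralizer _
      (mul_mem hy.ykR.norm (le_normalizer ⟨f, rfl⟩)))
  have h1 := mul_mem (conj_mem_of_mem_normalizer' hN hc) hc
  have h2 : j (ykR ze) = j (ykE false f * ze * f) * ((y * j f)⁻¹ * c * (y * j f) * c) := by
    have h3 : y * j f * y⁻¹ = j (ykE false f) := hy.ykR f
    have h4 : r * j ze * r⁻¹ = j (ykR ze) := hr ze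
    rw [← h4, map_mul, map_mul, ← h3, hz, ← conj_mul, eq_mul_of_inv_mul_eq e1]
    group
  rw [← inv_mul_eq_iff_eq_mul, ← map_inv, ← map_mul] at h2
  have h5 := odd_of_mem_opOf h1
  rw [← h2, orderOf_injective j (h.inj.comp eps_inj)] at h5
  have h6 := orderOf_eq_one_iff.1 (Nat.eq_one_of_dvd_coprimes (Nat.coprime_two_right.2 h5) dvd_rfl
    (orderOf_dvd_of_pow_eq_one (by rw [pow_two, EG.sq])))
  exact yk_R.2 f (inv_mul_eq_one.1 h6).symm

/-- `y` normalizes `E`: it centralizes `ue i` and `y x_i y⁻¹ = x_i · dk κ (x_i)` (`act` with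
`xs i = trH (o (2^i))`, `i0_tr`); let `η` be its action. `κ = true`: the word `aysbtsyaysbtsys`
(`s = σ`, `a = J (i0 x35)`, `b = J (i0 x45)`, `t = J (sc (o 16))`, product from left to right) acts on
`E` as an involution `≠ 1` centralizing `F` (namely `e ↦ e · (o 170)^{par (e &&& 0xAA)} ·
(o 85)^{par e}`), against `ne2`. So `κ = false`, `η` exchanges `eb 0`, `eb 1` and fixes the other `eb q`.
`r = a (y σ y⁻¹ σ⁻¹) a⁻¹` acts as a 3-cycle on the block `⟨eb 2, eb 3⟩` and trivially on the others, so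
`r y r⁻¹ = y · J (eps f) · c` with `c ∈ O(C(E))` (`ne1`, `cent_syl`). If `y² = z`, squaring gives
`r z r⁻¹ ≡ z · [y, f]` modulo `O(C(E))`, `[y, f] ∈ ⟨ue 0⟩`; so `r z r⁻¹ ∈ {z, z u₀}`, false. So
`y² = 1`. Finally `ρ y ρ⁻¹ = c y` with `c` of odd order; `conj_of_odd` gives `c' ∈ zpowers c` such
that `ρ' = c' ρ` commutes with `y`; `c'` centralizes `B` and `A`, so `Q ≤ A B`, and `π c' = 1`. -/
theorem C3.c4 (h : C3 J π ρ σ) {κ : Bool} (hy : Y1 J π ρ y κ) : ∃ ρ', C4 J π ρ' σ y := by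
  cases κ
  swap
  · have hσ : YkR J σ Har.sE := h.sE
    have h1 : YkR J _ ykW := ((((((ykR_J J (i0 TL.x35)).mul hy.ykR).mul hσ).mul (ykR_J J (i0 TL.x45))).mul
      (ykR_J J (sc (o 16)))).mul hσ).mul hy.ykR
    exact absurd (h.ne2 (h1.mul (h1.mul hσ)) yk_W.1 yk_W.2.1) yk_W.2.2
  have yy := h.yk_sq hy
  obtain ⟨c, cN, cp, cB, cA, e⟩ := hy.rho
  have e1 : c * y * y = c := by rw [mul_assoc, yy, mul_one]
  obtain ⟨d, hd, e2⟩ := conj_of_odd (x := c * y) (e ▸ conj_sq yy ρ) yy (e1.symm ▸ h.hy.ker cN cp)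
  rw [e1] at hd
  have dN : d ∈ NA (J.comp i0) := zpowers_le.2 cN hd
  have dp : π d = 1 := (h.hy.mem_O dN).2 (zpowers_le.2 ((h.hy.mem_O cN).1 cp) hd)
  have dc : ∀ x, c * x = x * c → d * x = x * d := fun x hx => by
    obtain ⟨k, rfl⟩ := hd
    exact Commute.zpow_left hx k
  refine ⟨d * ρ, ⟨h.hy, h.inj, mul_mem dN h.rN, by rw [h.hy.mul dN h.rN, dp, one_mul, h.rp],
    fun b => (W2.Rel.of_comm (dc _ (cB _))).comp (h.rb b),
    fun t ht => (W2.Rel.of_comm (dc _ ?_)).comp (h.rq t ht), h.sE⟩, hy.cB, hy.nm, yy, fun p => ?_, ?_⟩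
  · obtain ⟨v, hv⟩ := yk_Q _ (rT_spec.2 t ht).1
    change c * J (i0 _) = J (i0 _) * c
    rw [hv, map_mul, ← mul_assoc, cB, mul_assoc, cA _ (va_mem v), mul_assoc]
  · rw [hy.act p, dk, Bool.false_and, if_neg Bool.false_ne_true, mul_one]
  · rw [← e] at e2
    rw [← mul_inv_eq_iff_eq_mul, show d * ρ * y * (d * ρ)⁻¹ = d * (ρ * y * ρ⁻¹) * d⁻¹ by group, e2]

end CfsgLib.Har
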