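import Cfsg.Agent.Lib.Har.Bas
import Cfsg.Agent.Lib.Har.Sh
import Cfsg.Agent.Lib.Har.Reg

/-!
Project HAR (S1918, plans/HAR.md). Normalizing the element of `C(B)` (package YY).
-/

set_option autoImplicit false
set_option Elab.async false
set_option linter.unusedSectionVars false
set_option synthInstance.maxSize 100000
set_option maxRecDepth 100000

namespace CfsgLib.Har

open Subgroup Equiv Function CfsgLib.W2 CfsgLib.W2.TG CfsgLib.Tech CfsgLib.PComp Cfsg CfsgLib.A16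
  CfsgLib.SylT

variable {G : Type*} [Group G] [Finite G] {J : SG →* G} {π : G → P16} {ρ σ y : G}

theorem yy_r1 : (o 2 : P8) = o 48 * (o 1 * o 48) ∧ (o 8 : P8) = o 64 * (o 2 * o 64) ∧
    (o 4 : P8) = o 64 * (o 1 * o 64) ∧ (o 10 : P8) = o 2 * o 8 ∧ (o 15 : P8) = o 1 * (o 4 * o 10) ∧
    (o 1 : P8) * o 32 = o 32 * o 1 ∧ (o 1 : P8) * o 15 = o 15 * o 1 ∧ (o 1 : P8) * o 1 = 1 := by decide +kernel

/-- the value of a cocycle on `p q p` -/
noncomputable def yyc (p q : P8) (c e : BG) : BG := c * cB (trH p) (e * cB (trH q) c)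

theorem yy_r2 : ∀ e : BG, e * cB (trH (o 1)) e = 1 → e = cB (trH (o 32)) e →
    e * cB (trH (o 1)) (tb 0 1) = tb 0 1 * cB (trH (o 15)) e →
    yyc (o 48) (o 1) (tb 0 2) e * cB (trH (o 2)) (yyc (o 64) (o 2) (tb 0 4) (yyc (o 48) (o 1) (tb 0 2) e)) = 1 →
    e * cB (trH (o 1)) (yyc (o 64) (o 1) (tb 0 4) e) = tb 0 1 → e = tb 0 1 ∨ e = tb 0 1 * zb := by
  decide +kernel

theorem yy_r3 : ∀ κ, ∀ g ∈ gP, ∀ q, dk κ (q * g) = dk κ q * cB (trH q) (dk κ g) := by decide +kernel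

theorem yy_r4 : ∀ κ, dk κ 1 = 1 ∧ dk κ (o 1) = tb 0 1 * (if κ then zb else 1) ∧ dk κ (o 48) = tb 0 2 ∧
    dk κ (o 64) = tb 0 4 ∧ dk κ (o 32) = 1 := by decide +kernel

theorem yy_r5 : (o 10 : P8) * o 15 = o 15 * o 10 ∧ (o 10 : P8) * (o 15 * o 48) = o 48 * o 10 ∧
    (o 10 : P8) * o 64 = o 64 * o 10 ∧ (o 32 : P8) * o 15 = o 15 * o 32 ∧ (o 32 : P8) * o 48 = o 48 * o 32 ∧
    (o 32 : P8) * (o 48 * o 64) = o 64 * o 32 := by decide +kernel

theorem yy_r7 : ∀ e : BG, e * cB (trH (o 10)) (tb 0 1) = tb 0 1 * cB (trH (o 15)) e →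
    e * cB (trH (o 10)) (tb 0 1 * cB (trH (o 15)) (tb 0 2)) = tb 0 2 * cB (trH (o 48)) e →
    e * cB (trH (o 10)) (tb 0 4) = tb 0 4 * cB (trH (o 64)) e → e = 1 ∨ e = zb := by decide +kernel

theorem yy_r8 : ∀ e : BG, e * cB (trH (o 32)) (tb 0 1) = tb 0 1 * cB (trH (o 15)) e →
    e * cB (trH (o 32)) (tb 0 2) = tb 0 2 * cB (trH (o 48)) e →
    e * cB (trH (o 32)) (tb 0 2 * cB (trH (o 48)) (tb 0 4)) = tb 0 4 * cB (trH (o 64)) e → e = 1 ∨ e = zb := by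
  decide +kernel

theorem yy_r9 : ∀ t : TL, TL.In 698 t → ∃ i j k l : Bool, t = (if i then TL.z else 1) * (if j then vv 0 else 1) *
    (if k then vv 1 else 1) * (if l then vv 2 else 1) := by decide +kernel

theorem yy_r10 : ∀ i : Fin 3, rT (vv (i + 2)) = vv i ∧ TL.In 560 (vv (i + 2)) ∧
    sR (tb 0 (pp (i + 2))) = tb 0 (pp i) := by decide +kernel

theorem yy_r11 : ∀ a : TL, TL.In 698 a → a * a = 1 ∧
    ((∀ i : Fin 3, i0 a * bet (tb 0 (pp i)) = bet (tb 0 (pp i)) * i0 a) → a = 1 ∨ a = TL.z) := by decide +kernel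

theorem yy_r12 : r16 ^ 3 = 1 ∧ (i16 TL.x23 * r16) ^ 7 = 1 ∧ (i16 TL.x34 * r16) ^ 7 = 1 ∧
    r16 * i16 TL.z = i16 TL.z * r16 ∧ i16 TL.x23 * i16 TL.z = i16 TL.z * i16 TL.x23 ∧
    i16 TL.x34 * i16 TL.z = i16 TL.z * i16 TL.x34 ∧ i16 TL.z * i16 TL.z = 1 ∧ i16 TL.z ≠ 1 := by decide +kernel

theorem yy_r13 : ∀ b : BG, (∀ i : Fin 3, cB (trH (pv i)) b = b) → b = 1 ∨ b = zb := by decide +kernel

theorem yy_one {d : P8 → BG} (hd : ∀ p q, d (p * q) = d p * cB (trH p) (d q)) : d 1 = 1 := by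
  have := hd 1 1
  rw [one_mul, map_one, map_one, MulAut.one_apply] at this
  exact (mul_eq_left.1 this.symm)

/-- a cocycle `P8 → B` with `d (pv i) = tb 0 (pp i)`, `d (o 10) = d (o 32) = 1` is `dk κ`: for
`x₀ = o 1` the relations of `P8` leave `d x₀ ∈ {tb 0 1, tb 0 1 · zb}` (e.g. `x₀` commutes with `o 32`
and `o 15`, `x₀² = 1`, `o 10 = x₁ x₃` with `x₁ = o 48 · x₀ · o 48`, …; decide over the 128 values),
and `gP` generates. -/
theorem coc_dk (d : P8 → BG) (hd : ∀ p q, d (p * q) = d p * cB (trH p) (d q))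
    (h1 : ∀ i, d (pv i) = tb 0 (pp i)) (h2 : d (o 10) = 1) (h3 : d (o 32) = 1) :
    ∃ κ, ∀ p, d p = dk κ p := by
  have a0 : d (o 15) = tb 0 1 := h1 0
  have a1 : d (o 48) = tb 0 2 := h1 1
  have a2 : d (o 64) = tb 0 4 := h1 2
  obtain ⟨r2, r8, r4, r10, r15, c32, c15, sq⟩ := yy_r1
  have d2 : d (o 2) = yyc (o 48) (o 1) (tb 0 2) (d (o 1)) := by rw [r2, hd, hd, a1]; rfl
  have d8 : d (o 8) = yyc (o 64) (o 2) (tb 0 4) (d (o 2)) := by rw [r8, hd, hd, a2]; rfl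
  have d4 : d (o 4) = yyc (o 64) (o 1) (tb 0 4) (d (o 1)) := by rw [r4, hd, hd, a2]; rfl
  have k := yy_r2 (d (o 1)) (by rw [← hd, sq, yy_one hd])
    (by have := congrArg d c32; rwa [hd, hd, h3, map_one, mul_one, one_mul] at this)
    (by have := congrArg d c15; rwa [hd, hd, a0] at this)
    (by rw [← d2, ← d8, ← hd, ← r10, h2])
    (by have := congrArg d r15; rw [hd, hd, h2, map_one, mul_one, d4, a0] at this; exact this.symm)
  obtain ⟨κ, hκ⟩ : ∃ κ : Bool, d (o 1) = tb 0 1 * (if κ then zb else 1) := by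
    rcases k with k | k
    exacts [⟨false, by simpa using k⟩, ⟨true, by simpa using k⟩]
  obtain ⟨b0, b1, b2, b3, b4⟩ := yy_r4 κ
  refine ⟨κ, fun p => ind_of_genB gP_gen (P := fun p => d p = dk κ p) (by rw [yy_one hd, b0])
    (fun q ih g hg => ?_) p⟩
  have e : d g = dk κ g := by
    simp only [gP, List.mem_cons, List.not_mem_nil, or_false] at hg
    rcases hg with rfl | rfl | rfl | rfl
    exacts [hκ.trans b1.symm, a1.trans b2.symm, a2.trans b3.symm, h3.trans b4.symm]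
  rw [hd, ih, e, yy_r3 κ g hg]

omit [Finite G] in
theorem yy_coc (hJ : Injective J) (hy : Y0 J y) :
    ∃ d : P8 → BG, (∀ p, J (trH p) * y * (J (trH p))⁻¹ = J (bet (d p)) * y) ∧
      ∀ p q, d (p * q) = d p * cB (trH p) (d q) := by
  have k : ∀ s : SG, ∃ b, J s * y * (J s)⁻¹ = J (bet b) * y := fun s => by
    obtain ⟨t, ht⟩ : y * (J s)⁻¹ * y⁻¹ ∈ J.range :=
      (mem_normalizer_iff.1 hy.norm _).1 (inv_mem ⟨s, rfl⟩)
    obtain ⟨b, hb⟩ := cent_B (s := s * t) fun b => hJ (by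
      have e : J (bet b) = J s * J (bet (cB s⁻¹ b)) * (J s)⁻¹ := by
        rw [bet_cB, inv_inv, map_mul, map_mul, map_inv]; group
      rw [map_mul, map_mul, map_mul, map_mul, ht]
      calc J s * (y * (J s)⁻¹ * y⁻¹) * J (bet b) = J s * y * (J s)⁻¹ * (y⁻¹ * (J (bet b) * y)) * y⁻¹ := by group
        _ = J s * (y * J (bet (cB s⁻¹ b))) * (J s)⁻¹ * y⁻¹ := by rw [← hy.cB, e]; group
        _ = J (bet b) * (J s * (y * (J s)⁻¹ * y⁻¹)) := by rw [hy.cB, e]; group)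
    exact ⟨b, by rw [hb, map_mul, ht]; group⟩
  choose d hd using k
  refine ⟨fun p => d (trH p), fun p => hd _, fun p q => bet_inj (hJ (mul_right_cancel (b := y) ?_))⟩
  rw [← hd, mul_comm (d (trH p)), map_mul, map_mul, map_mul, map_mul, mul_assoc (J (bet _)), ← hd, bet_cB,
    map_mul, map_mul, map_inv]
  calc J (trH p) * J (trH q) * y * (J (trH p) * J (trH q))⁻¹
      = J (trH p) * (J (trH q) * y * (J (trH q))⁻¹) * (J (trH p))⁻¹ := by group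
    _ = _ := by rw [hd]; group

omit [Finite G] in
theorem Y0.mul (hy : Y0 J y) (b : BG) : Y0 J (J (bet b) * y) where
  norm := mul_mem (le_normalizer ⟨_, rfl⟩) hy.norm
  cB c := by rw [mul_assoc, hy.cB, ← mul_assoc, ← mul_assoc, ← map_mul, ← map_mul, ← map_mul, ← map_mul, mul_comm b]
  nm h := hy.nm ((mul_mem_cancel_left (MonoidHom.mem_range.2 ⟨_, rfl⟩)).1 h)
  sq := by
    rw [mul_assoc, ← mul_assoc y, hy.cB, mul_assoc]
    exact mul_mem ⟨_, rfl⟩ (mul_mem ⟨_, rfl⟩ hy.sq)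

omit [Finite G] in
theorem yy_centA {w : G} (h1 : ∀ b, w * J (bet b) = J (bet b) * w)
    (h2 : ∀ i, w * J (trH (pv i)) = J (trH (pv i)) * w) (t : TL) (ht : TL.In 698 t) :
    w * (J.comp i0) t = (J.comp i0) t * w := by
  obtain ⟨i, j, k, l, rfl⟩ := yy_r9 t ht
  have c : ∀ (i : Bool) (s : TL), Commute w (J (i0 s)) → Commute w ((J.comp i0) (if i then s else 1)) :=
    fun i s h => by cases i; exacts [by rw [if_neg Bool.false_ne_true, map_one]; exact Commute.one_right _, h]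
  have v : ∀ n, Commute w (J (i0 (vv n))) := fun n => by rw [(vv_facts n).1]; exact h2 n
  rw [map_mul, map_mul, map_mul]
  exact (((c i _ (by rw [i0_tr.2.2.2.2.2.1, ← z_facts.1]; exact h1 _)).mul_right (c j _ (v 0))).mul_right
    (c k _ (v 1))).mul_right (c l _ (v 2))

theorem Hy.yy_odd {J : TL →* G} (h : Hy J π) {g : G} (hg : g ∈ NA J) {n : ℕ} (hn : Odd n) (h1 : π g ^ n = 1)
    (hw : g * y * g⁻¹ * y⁻¹ ∈ NA J) (hz : π (g * y * g⁻¹ * y⁻¹) = 1 ∨ π (g * y * g⁻¹ * y⁻¹) = i16 TL.z)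
    (hc : π g * i16 TL.z = i16 TL.z * π g) : π (g * y * g⁻¹ * y⁻¹) = 1 := by
  refine hz.elim id fun e => ?_
  have ho : Odd (orderOf g) := h.odd_of hg (hn.of_dvd_nat (orderOf_dvd_of_pow_eq_one h1))
  have k : ∀ m : ℕ, g ^ m * y * (g ^ m)⁻¹ * y⁻¹ ∈ NA J ∧ π (g ^ m * y * (g ^ m)⁻¹ * y⁻¹) = i16 TL.z ^ m := fun m => by
    induction m with
    | zero => simpa using h.one
    | succ m ih =>
      rw [show g ^ (m + 1) * y * (g ^ (m + 1))⁻¹ * y⁻¹ =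
        g * (g ^ m * y * (g ^ m)⁻¹ * y⁻¹) * g⁻¹ * (g * y * g⁻¹ * y⁻¹) by rw [pow_succ']; group]
      refine ⟨mul_mem (mul_mem (mul_mem hg ih.1) (inv_mem hg)) hw, ?_⟩
      rw [h.mul (mul_mem (mul_mem hg ih.1) (inv_mem hg)) hw, h.mul (mul_mem hg ih.1) (inv_mem hg), h.mul hg ih.1,
        h.inv hg, ih.2, e, (Commute.pow_right hc m).eq, mul_inv_cancel_right, pow_succ]
  have := (k (orderOf g)).2
  obtain ⟨r, hr⟩ := ho
  rw [pow_orderOf_eq_one, show (1 : G) * y * 1⁻¹ * y⁻¹ = 1 by group, h.one, hr, pow_succ, pow_mul, sq,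
    yy_r12.2.2.2.2.2.2.1, one_pow, one_mul] at this
  exact (yy_r12.2.2.2.2.2.2.2 this.symm).elim

theorem C3.y1' (h : C3 J π ρ σ) (hy : Y0 J y) {d : P8 → BG}
    (hd : ∀ p, J (trH p) * y * (J (trH p))⁻¹ = J (bet (d p)) * y)
    (hc : ∀ p q, d (p * q) = d p * cB (trH p) (d q)) (h1 : ∀ i, d (pv i) = tb 0 (pp i)) :
    ∃ κ, Y1 J π ρ y κ := by
  have H := h.hy
  have hz : J zs = (J.comp i0) TL.z := by rw [MonoidHom.comp_apply, i0_tr.2.2.2.2.2.1]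
  have bb : ∀ a b, J (bet a) * J (bet b) = J (bet b) * J (bet a) := fun a b => by
    rw [← map_mul, ← map_mul, ← map_mul, ← map_mul, mul_comm a]
  have sq : y * y = 1 ∨ y * y = J zs := by
    obtain ⟨s, hs⟩ := hy.sq
    obtain ⟨b, rfl⟩ := cent_B (s := s) fun b => h.inj (by
      rw [map_mul, map_mul, hs, mul_assoc, hy.cB, ← mul_assoc, hy.cB, mul_assoc])
    rcases yy_r13 b fun i => bet_inj (h.inj (by
      rw [bet_cB, map_mul, map_mul, map_inv, hs]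
      calc J (trH (pv i)) * (y * y) * (J (trH (pv i)))⁻¹
          = J (trH (pv i)) * y * (J (trH (pv i)))⁻¹ * (J (trH (pv i)) * y * (J (trH (pv i)))⁻¹) := by group
        _ = y * y := by
          rw [hd, mul_assoc, ← mul_assoc y, hy.cB, ← mul_assoc, ← mul_assoc, ← map_mul, ← map_mul, BG.sq, map_one,
            map_one, one_mul])) with rfl | rfl
    · exact Or.inl (by rw [← hs, map_one, map_one])
    · exact Or.inr (by rw [← hs, z_facts.1])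
  -- the commutator of `ρ` and `y`
  have wB : ∀ b, ρ * y * ρ⁻¹ * y⁻¹ * J (bet b) = J (bet b) * (ρ * y * ρ⁻¹ * y⁻¹) := fun b => by
    have e : ρ * J (bet (sR⁻¹ b)) * ρ⁻¹ = J (bet b) := by
      have := h.rb (sR⁻¹ b)
      rwa [MulAut.apply_inv_self] at this
    calc ρ * y * ρ⁻¹ * y⁻¹ * J (bet b) = ρ * y * ρ⁻¹ * (y⁻¹ * (J (bet b) * y)) * y⁻¹ := by group
      _ = ρ * (y * J (bet (sR⁻¹ b))) * ρ⁻¹ * y⁻¹ := by rw [← hy.cB, ← e]; group
      _ = _ := by rw [hy.cB, ← e]; group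
  have wV : ∀ i, ρ * y * ρ⁻¹ * y⁻¹ * J (trH (pv i)) = J (trH (pv i)) * (ρ * y * ρ⁻¹ * y⁻¹) := fun i => by
    obtain ⟨r1, r2, r3⟩ := yy_r10 i
    have e1 : ρ * J (trH (pv (i + 2))) * ρ⁻¹ = J (trH (pv i)) := by
      have := h.rq _ r2
      rwa [r1, W2.Rel, MonoidHom.comp_apply, MonoidHom.comp_apply, (vv_facts _).1, (vv_facts _).1] at this
    have e2 : ρ * J (bet (tb 0 (pp (i + 2)))) * ρ⁻¹ = J (bet (tb 0 (pp i))) := r3 ▸ h.rb _
    have f1 := hd (pv i)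
    have f2 := hd (pv (i + 2))
    rw [h1] at f1 f2
    have f3 : J (trH (pv i)) * (ρ * y * ρ⁻¹) * (J (trH (pv i)))⁻¹ = J (bet (tb 0 (pp i))) * (ρ * y * ρ⁻¹) := by
      calc _ = ρ * (J (trH (pv (i + 2))) * y * (J (trH (pv (i + 2))))⁻¹) * ρ⁻¹ := by rw [← e1]; group
        _ = _ := by rw [f2, ← e2]; group
    symm
    calc J (trH (pv i)) * (ρ * y * ρ⁻¹ * y⁻¹) = J (trH (pv i)) * (ρ * y * ρ⁻¹) * (J (trH (pv i)))⁻¹ *
          (J (trH (pv i)) * y * (J (trH (pv i)))⁻¹)⁻¹ * J (trH (pv i)) := by group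
      _ = J (bet (tb 0 (pp i))) * (ρ * y * ρ⁻¹ * y⁻¹) * (J (bet (tb 0 (pp i))))⁻¹ * J (trH (pv i)) := by
          rw [f3, f1]; group
      _ = _ := by rw [← wB, mul_inv_cancel_right]
  have wA := yy_centA wB wV
  obtain ⟨wN, a, ha, e⟩ := H.cent wA
  have w1 : π (ρ * y * ρ⁻¹ * y⁻¹) = 1 := by
    refine H.yy_odd h.rN (n := 3) (by decide) (by rw [h.rp]; exact yy_r12.1) wN ?_ (by rw [h.rp]; exact yy_r12.2.2.2.1)
    have cN := mul_mem wN (inv_mem (H.memN a))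
    have e' := e
    rw [H.mul wN (inv_mem (H.memN a)), H.inv (H.memN a), H.sec, mul_inv_eq_one] at e'
    obtain ⟨r, hr⟩ := H.ker cN e
    have c1 : Commute (ρ * y * ρ⁻¹ * y⁻¹ * ((J.comp i0) a)⁻¹) ((J.comp i0) a) := H.O_centA cN e ha
    have p : (ρ * y * ρ⁻¹ * y⁻¹) ^ (2 * r + 1) = (J.comp i0) a := by
      rw [← inv_mul_cancel_right (ρ * y * ρ⁻¹ * y⁻¹) ((J.comp i0) a), c1.mul_pow, ← hr, pow_orderOf_eq_one, hr,
        one_mul, pow_succ, pow_mul, pow_two, ← map_mul, (yy_r11 a ha).1, map_one, one_pow, one_mul]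
    rcases (yy_r11 a ha).2 fun i => h.inj (by
      rw [map_mul, map_mul]
      exact p ▸ (Commute.pow_left (wB _) _).eq) with rfl | rfl
    · exact Or.inl (by rw [e', map_one])
    · exact Or.inr e'
  have key : ∀ (x : TL) (p : P8), i0 x = trH p → (i16 x * r16) ^ 7 = 1 → i16 x * i16 TL.z = i16 TL.z * i16 x →
      (d p = 1 ∨ d p = zb) → d p = 1 := fun x p hx h7 hxz hp => by
    refine hp.elim id fun e => ?_
    have xN := H.memN x
    have gN := mul_mem xN h.rN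
    have pg : π ((J.comp i0) x * ρ) = i16 x * r16 := by rw [H.mul xN h.rN, H.sec, h.rp]
    have f := hd p
    rw [e, z_facts.1, hz, ← hx] at f
    have e2 : (J.comp i0) x * ρ * y * ((J.comp i0) x * ρ)⁻¹ * y⁻¹ =
        (J.comp i0) x * (ρ * y * ρ⁻¹ * y⁻¹) * ((J.comp i0) x)⁻¹ * (J.comp i0) TL.z := by
      rw [eq_mul_inv_of_mul_eq f.symm, MonoidHom.comp_apply]; group
    have cN := mul_mem (mul_mem xN wN) (inv_mem xN)
    have e3 : π ((J.comp i0) x * ρ * y * ((J.comp i0) x * ρ)⁻¹ * y⁻¹) = i16 TL.z := by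
      rw [e2, H.mul cN (H.memN _), H.mul (mul_mem xN wN) (inv_mem xN), H.mul xN wN, w1, H.inv xN, H.sec, H.sec,
        mul_one, mul_inv_cancel, one_mul]
    have := H.yy_odd (y := y) gN (n := 7) (by decide) (by rw [pg]; exact h7) (by rw [e2]; exact mul_mem cN (H.memN _))
      (Or.inr e3) (by rw [pg, mul_assoc, yy_r12.2.2.2.1, ← mul_assoc, hxz, mul_assoc])
    exact (yy_r12.2.2.2.2.2.2.2 (e3.symm.trans this)).elim
  have a0 : d (o 15) = tb 0 1 := h1 0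
  have a1 : d (o 48) = tb 0 2 := h1 1
  have a2 : d (o 64) = tb 0 4 := h1 2
  obtain ⟨s1, s2, s3, s4, s5, s6⟩ := yy_r5
  obtain ⟨κ, hκ⟩ := coc_dk d hc h1
    (key TL.x23 _ i0_tr.2.2.2.1 yy_r12.2.1 yy_r12.2.2.2.2.1 (yy_r7 _
      (by have := congrArg d s1; rwa [hc, hc, a0] at this)
      (by have := congrArg d s2; rwa [hc, hc, hc, a0, a1] at this)
      (by have := congrArg d s3; rwa [hc, hc, a2] at this)))
    (key TL.x34 _ i0_tr.2.2.2.2.1 yy_r12.2.2.1 yy_r12.2.2.2.2.2.1 (yy_r8 _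
      (by have := congrArg d s4; rwa [hc, hc, a0] at this)
      (by have := congrArg d s5; rwa [hc, hc, a1] at this)
      (by have := congrArg d s6; rwa [hc, hc, hc, a1, a2] at this)))
  exact ⟨κ, hy.cB, hy.nm, sq, fun p => by rw [hd, hκ], _, wN, w1, wB, wA, by group⟩

/-- For `s ∈ S₁`, `J s · y · J s⁻¹ y⁻¹ ∈ S₁ ⊓ C(B) = B` (`cent_B`): a cocycle `d` on `P8`. By `sh` on `V`,
either `y b ∈ C(A)` (then `y b ∈ A` by `cent2`, `S₁⟨y⟩` being a 2-group; impossible) or, replacing `y`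
by `y b`, `d (pv i) = tb 0 (pp i)`. `y² ∈ B` is centralized by `A`, so `y² ∈ ⟨z⟩`.
`C(BA) = ⟨z⟩ × O₁`, `O₁ = C(B) ⊓ ker π` (`cent`; `C_A(B) = ⟨z⟩`), `y` normalizes `O₁`. Let `X` be the
group of all `g ∈ N(A)` with `g y g⁻¹ y⁻¹ ∈ C(BA)` normalizing `B`; it contains `ρ`, `J (i0 x23)`,
`J (i0 x34)` (`g y g⁻¹` and `y` act in the same way on `B` and on `A`: `rb`, `rq`, `sR_tb`). The
`z`-component of `g y g⁻¹ y⁻¹` is a homomorphism `X → ⟨z⟩`, trivial on `ρ`, `x23 ρ`, `x34 ρ` (odd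
order by `odd_of`: orders 3, 7, 7 in `P16`). So `d (o 10) = d (o 32) = 1` (they lie in
`B ⊓ O₁ = 1`) and `ρ y ρ⁻¹ y⁻¹ ∈ O₁`. `coc_dk`. -/
theorem C3.y1 (h : C3 J π ρ σ) (hy : Y0 J y) : ∃ y' κ, Y1 J π ρ y' κ := by
  obtain ⟨d, hd, hc⟩ := yy_coc h.inj hy
  have vt : ∀ i, i0 (vv i) = trH (pv i) := fun i => (vv_facts i).1
  have pc : ∀ i j, pv i * pv i = 1 ∧ pv i * pv j = pv j * pv i := by decide +kernel
  obtain ⟨b, hb⟩ := sh (fun i => d (pv i)) (fun i => by rw [vt, ← hc, (pc i i).1, yy_one hc])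
    (fun i j => by rw [vt, vt, ← hc, ← hc, (pc i j).2])
  have hy' := hy.mul b
  have e : ∀ p, J (trH p) * (J (bet b) * y) * (J (trH p))⁻¹ =
      J (bet (cB (trH p) b * d p * b)) * (J (bet b) * y) := fun p => by
    rw [← mul_assoc (J (bet _)), ← map_mul, ← map_mul, mul_assoc _ b, BG.sq, mul_one, map_mul bet, map_mul J (bet _),
      mul_assoc (J (bet (cB _ _))), ← hd, bet_cB, map_mul, map_mul, map_inv]
    group
  rcases hb with hb | hb
  · exfalso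
    obtain ⟨a, -, ha⟩ := h.hy.cent2 (g := J (bet b) * y) (yy_centA hy'.cB fun i => by
      have := e (pv i)
      rw [hb, vt, mul_comm b, ← mul_assoc (cB _ b), BG.sq, one_mul, BG.sq, map_one, map_one, one_mul] at this
      exact (mul_inv_eq_iff_eq_mul.1 this).symm) (by
        obtain ⟨s, hs⟩ := hy'.sq
        obtain ⟨k, hk⟩ := isPGroup_SG s
        exact ⟨k + 1, by rw [pow_succ', pow_mul, sq, ← hs, ← map_pow, hk, map_one]⟩)
    exact hy'.nm ⟨_, ha⟩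
  · obtain ⟨d', hd', hc'⟩ := yy_coc h.inj hy'
    obtain ⟨κ, hκ⟩ := h.y1' hy' hd' hc' fun i => bet_inj (h.inj (mul_right_cancel (b := J (bet b) * y) (by
      rw [← hd', e, hb, vt]
      congr 3
      rw [mul_comm b, mul_assoc (cB _ b) b, ← mul_assoc (cB _ b), BG.sq, one_mul, mul_comm b, mul_assoc, BG.sq,
        mul_one])))
    exact ⟨_, κ, hκ⟩

end CfsgLib.Har
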