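import Cfsg.Agent.Lib.Har.Bas
import Cfsg.Agent.Lib.Coprime.Action

/-!
Project HAR (S1918, plans/HAR.md). Reduction to `O(G) = 1` (package RED1).
-/

set_option autoImplicit false
set_option Elab.async false
set_option linter.unusedSectionVars false
set_option synthInstance.maxSize 100000
set_option maxRecDepth 100000

namespace CfsgLib.Har

open Subgroup Equiv Function CfsgLib.W2 CfsgLib.W2.TG CfsgLib.Tech CfsgLib.PComp Cfsg CfsgLib.A16
  CfsgLib.SylT

variable {G : Type*} [Group G] [Finite G] {J : TL →* G} {π : G → P16}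

/-- `f = mk' O(G)`. `N(f A) = f N(A)` (Frattini in `A O(G)`); `O(G) ⊓ N(A)` is a normal subgroup of
odd order of `N(A)`, so it lies in `ker π` (`mem_O`); `π' (f n) = π n` for `n ∈ N(A)`. The kernel of
`π'` consists of images of elements of odd order. -/
theorem Hy.quot (h : Hy J π) : ∃ π', Hy ((QuotientGroup.mk' (oddCore G)).comp J) π' := by
  classical
  have cop : ∀ P : Subgroup G, IsPGroup 2 P → (Nat.card P).Coprime (Nat.card (oddCore G)) := fun P hP => by
    obtain ⟨k, hk⟩ := hP.exists_card_eq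
    rw [hk]
    exact Nat.Coprime.pow_left k (Core.coprime_card_pPrimeCore 2 G).symm
  have hA : IsPGroup 2 (AT.map J) := (TL.two.to_subgroup AT).map J
  have hN : (NA J).map (QuotientGroup.mk' (oddCore G)) = NA ((QuotientGroup.mk' (oddCore G)).comp J) := by
    have := hA.isNilpotent
    have e := Coprime.map_normalizer_quotient (oddCore G) (cop _ hA) (Or.inl inferInstance)
    rw [map_map] at e
    exact e
  have hJ : Injective ((QuotientGroup.mk' (oddCore G)).comp J) := (injective_iff_map_eq_one _).2 fun t ht =>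
    h.inj (by
      rw [map_one]
      exact mem_bot.1 ((disjoint_of_coprime_natCard (cop _ h.syl.pgroup)).le_bot
        ⟨⟨t, rfl⟩, (QuotientGroup.eq_one_iff _).1 ht⟩))
  have hS : IsSylowIn 2 ((QuotientGroup.mk' (oddCore G)).comp J).range
      (NA ((QuotientGroup.mk' (oddCore G)).comp J)) := by
    rw [← hN, MonoidHom.range_comp]
    exact ⟨map_mono h.syl.le, h.syl.pgroup.map _, fun e => h.syl.not_dvd (e.trans (by
      rw [← relIndex_comap]
      exact relIndex_dvd_of_le_left _ (le_comap_map _ _)))⟩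
  have hk : ∀ n n' : G, QuotientGroup.mk' (oddCore G) n' = QuotientGroup.mk' (oddCore G) n →
      n⁻¹ * n' ∈ oddCore G := fun n n' e => QuotientGroup.eq.1 e.symm
  generalize QuotientGroup.mk' (oddCore G) = f at hN hJ hS hk ⊢
  let π' : G ⧸ oddCore G → P16 := fun y => if hy : ∃ n ∈ NA J, f n = y then π hy.choose else 1
  have key : ∀ n ∈ NA J, π' (f n) = π n := fun n hn => by
    have hy : ∃ m ∈ NA J, f m = f n := ⟨n, hn, rfl⟩
    obtain ⟨m1, m2⟩ := hy.choose_spec
    have m3 := mul_mem (inv_mem hn) m1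
    have m4 := (h.mem_O m3).2 (inf_pPrimeCore_le _ ⟨m3, hk _ _ m2⟩)
    have m5 := h.mul hn m3
    rw [m4, mul_one, mul_inv_cancel_left] at m5
    exact (dif_pos hy).trans m5
  refine ⟨π', hJ, hS, fun {x y} hx hy => ?_, fun t => (key _ (h.memN t)).trans (h.sec t), fun {x} hx => ?_,
    fun m hm => ?_, fun {x} hx e => ?_⟩
  · rw [← hN] at hx hy
    obtain ⟨x, hx, rfl⟩ := hx
    obtain ⟨y, hy, rfl⟩ := hy
    rw [← map_mul, key _ (mul_mem hx hy), key _ hx, key _ hy, h.mul hx hy]
  · rw [← hN] at hx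
    obtain ⟨x, hx, rfl⟩ := hx
    rw [key _ hx]
    exact h.mem hx
  · obtain ⟨x, hx, e⟩ := h.surj m hm
    exact ⟨f x, hN ▸ mem_map_of_mem f hx, (key _ hx).trans e⟩
  · rw [← hN] at hx
    obtain ⟨x, hx, rfl⟩ := hx
    rw [key _ hx] at e
    exact (h.ker hx e).of_dvd_nat (orderOf_map_dvd f x)

/-- `π` is a homomorphism onto `AG` whose kernel is `O(G) = 1` (`mem_O`); `AG_concl`. -/
theorem Hy.concl_of_normal (h : Hy J π) (hO : oddCore G = ⊥) (hn : NA J = ⊤) : Concl G := by
  have m : ∀ x, x ∈ NA J := fun x => hn ▸ mem_top x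
  let φ : G →* AG := MonoidHom.mk' (fun x => ⟨π x, h.mem (m x)⟩) fun x y => Subtype.ext (h.mul (m x) (m y))
  refine AG_concl (MulEquiv.ofBijective φ ⟨(injective_iff_map_eq_one _).2 fun x e => ?_, fun a => ?_⟩)
  · have := (h.mem_O (m x)).1 (congrArg Subtype.val e)
    rw [hn, opOf_top] at this
    exact mem_bot.1 (hO.le this)
  · obtain ⟨x, -, e⟩ := h.surj a a.2
    exact ⟨x, Subtype.ext e⟩

theorem oddCore_quot (G : Type*) [Group G] [Finite G] : oddCore (G ⧸ oddCore G) = ⊥ := by
  exact Core.pPrimeCore_quotient_pPrimeCore 2 G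

end CfsgLib.Har
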