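import Cfsg.Agent.Lib.Har.Defs3

/-!
Project HAR (S1918, plans/HAR.md). The element `d` (package RHO1).
-/

set_option autoImplicit false
set_option Elab.async false
set_option linter.unusedSectionVars false
set_option synthInstance.maxSize 100000
set_option maxRecDepth 100000

namespace CfsgLib.Har

open Subgroup Equiv Function CfsgLib.W2 CfsgLib.W2.TG CfsgLib.Tech CfsgLib.PComp Cfsg CfsgLib.A16
  CfsgLib.SylT

variable {G : Type*} [Group G] [Finite G] {J : TW →* G} {ρ σ d : G} {f : G → WB} {r : Fin 4 → G}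

theorem rho1_two {N D : Type*} [Group N] [Finite N] [Group D] [Finite D] (θ : N →* D) {R : Subgroup N}
    (hR : IsPGroup 2 R) {τ : D} (h1 : τ ∈ θ.range) (h2 : τ * τ = 1) :
    ∃ S : Subgroup N, IsPGroup 2 S ∧ (∀ x ∈ R, θ x * τ = τ * θ x → x ∈ S) ∧ ∃ d ∈ S, θ d = τ := by
  haveI := Fact.mk Nat.prime_two
  let M : Subgroup N := (centralizer ({τ} : Set D)).comap θ
  have hM : ∀ x, x ∈ M ↔ θ x * τ = τ * θ x := fun x => mem_centralizer_singleton_iff
  obtain ⟨S, hS, hle⟩ := exists_isSylowIn_ge (hR.to_inf_left (K := M)) inf_le_right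
  have h5 := IsSylowIn.map' (IsSylowIn.of_sylow_top hS.toSylow) (θ.comp M.subtype)
  obtain ⟨n, rfl⟩ := h1
  have h6 : zpowers (θ n) ≤ _ := h5.le_of_le_normalizer (Q := zpowers (θ n))
    (isPGroup_zpowers_of_pow (k := 1) (by rw [pow_one, pow_two, h2]))
    (zpowers_le.2 ⟨⟨n, (hM n).2 rfl⟩, rfl⟩) (by
      rintro _ ⟨x, rfl⟩
      refine centralizer_le_normalizer _ (mem_centralizer_iff.2 ?_)
      rintro _ ⟨k, rfl⟩
      exact (Commute.zpow_left (((hM x).1 x.2).symm : Commute (θ n) (θ x)) k).eq)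
  obtain ⟨d, hd, e⟩ := h6 (mem_zpowers _)
  exact ⟨S, hS.pgroup, fun x hx hc => hle ⟨hx, (hM x).2 hc⟩, d, hd, e⟩

theorem rho1_aP_inj : Injective aP := (injective_iff_map_eq_one _).2 fun p hp => pw_inj (by
  have k : ∀ q q' : Fin 8, eb q = eb q' → q = q' := by decide +kernel
  rw [map_one]
  refine Perm.ext fun q => k _ _ ?_
  rw [← aP_eb, hp]
  rfl)

theorem rho1_comm {t s : TW} {a b : EG} (h : t.right * s.right = s.right * t.right)
    (ht : ∀ e, aP t.right e = e ∨ aP t.right e = e * a) (hs : ∀ e, aP s.right e = e ∨ aP s.right e = e * b) :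
    ∃ c, (c = 1 ∨ c = b ∨ c = a ∨ c = a * b) ∧ t * s = bW c * (s * t) := by
  have key : ∀ c, t.left * aP t.right s.left = c * (s.left * aP s.right t.left) → t * s = bW c * (s * t) := by
    intro c hc
    refine SemidirectProduct.ext ?_ ?_
    · simpa using hc
    · simpa using h
  have hb := EG.sq b
  rcases ht s.left with e | e <;> rcases hs t.left with e' | e'
  · exact ⟨1, Or.inl rfl, key _ (by rw [e, e', one_mul, mul_comm])⟩
  · refine ⟨b, Or.inr (Or.inl rfl), key _ ?_⟩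
    rw [e, e']
    calc t.left * s.left = (b * b) * (t.left * s.left) := by rw [hb, one_mul]
      _ = _ := by simp only [mul_assoc, mul_comm, mul_left_comm]
  · refine ⟨a, Or.inr (Or.inr (Or.inl rfl)), key _ ?_⟩
    rw [e, e']
    simp only [mul_assoc, mul_comm, mul_left_comm]
  · refine ⟨a * b, Or.inr (Or.inr (Or.inr rfl)), key _ ?_⟩
    rw [e, e']
    calc t.left * (s.left * a) = (b * b) * (t.left * (s.left * a)) := by rw [hb, one_mul]
      _ = _ := by simp only [mul_assoc, mul_comm, mul_left_comm]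

theorem rho1_facts : (∀ e, tau1 (tau1 e) = e ∧ (tau1 e = e ∨ tau1 e = e * eb 1)) ∧
    ∀ i : Fin 4, i ≠ 0 → ∀ e, apf (o (2 ^ i.val)) (tau1 e) = tau1 (apf (o (2 ^ i.val)) e) ∧
      (apf (o (2 ^ i.val)) e = e ∨ apf (o (2 ^ i.val)) e = e * ue i) := by decide +kernel

/-- The element `d`: a Sylow subgroup of the centralizer of `tau1` in `N(B')` contains the `x_i`, `i ≠ 0`, and an
element `d` acting as `tau1`; conjugate it into `T` and compute the commutators there. -/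
theorem TU.exists_d (h : TU J ρ σ) : ∃ d, (∀ e, W2.Rel (J.comp bW) d e (tau1 e)) ∧
    ∀ i : Fin 4, i ≠ 0 → ∃ b, (b = 1 ∨ b = ue i ∨ b = eb 1 ∨ b = eb 1 * ue i) ∧
      W2.Rel J d (tE (eb (bl i))) (bW b * tE (eb (bl i))) := by
  haveI := Fact.mk Nat.prime_two
  have hj : Injective (J.comp bW) := h.inj.comp SemidirectProduct.inl_injective
  obtain ⟨θ, hθ, hr⟩ := exists_aut hj
  have hT : ∀ t, J t ∈ normalizer ((J.comp bW).range : Set G) := fun t => h.syl.le ⟨t, rfl⟩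
  have hθJ : ∀ t, θ ⟨J t, hT t⟩ = aP t.right := fun t => MulEquiv.ext fun a => by
    refine (hθ ⟨J t, hT t⟩ a).uniq hj ?_ rfl
    change J t * J (bW a) * (J t)⁻¹ = J (bW (aP t.right a))
    rw [← map_inv, ← map_mul, ← map_mul]
    refine congrArg J (SemidirectProduct.ext ?_ ?_)
    · simp [mul_comm t.left, mul_assoc]
    · simp
  have hP := IsSylowIn.of_sylow_top h.syl.toSylow
  obtain ⟨S, hS, hSR, d, hd, hdτ⟩ := rho1_two θ hP.pgroup (hr ▸ h.tv)
    (MulEquiv.ext fun e => (rho1_facts.1 e).1)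
  obtain ⟨n, -, hn⟩ := hP.exists_cj_le hS le_top
  have hc : ∀ x ∈ S, ∃ t : TW, J t = n * x * n⁻¹ ∧ aP t.right = θ n * θ x * (θ n)⁻¹ := fun x hx => by
    obtain ⟨t, ht⟩ : ((n * x * n⁻¹ : normalizer ((J.comp bW).range : Set G)) : G) ∈ J.range :=
      hn ⟨x, hx, rfl⟩
    refine ⟨t, ht, ?_⟩
    rw [← hθJ, ← map_inv, ← map_mul, ← map_mul]
    exact congrArg θ (Subtype.ext ht)
  have tv : ∀ (δ τ : MulAut EG) (a : EG), (∀ e, τ e = e ∨ τ e = e * a) →
      ∀ e, (δ * τ * δ⁻¹) e = e ∨ (δ * τ * δ⁻¹) e = e * δ a := fun δ τ a hτ e => by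
    rcases hτ (δ⁻¹ e) with k | k
    · left; rw [MulAut.mul_apply, MulAut.mul_apply, k, MulAut.apply_inv_self]
    · right; rw [MulAut.mul_apply, MulAut.mul_apply, k, map_mul, MulAut.apply_inv_self]
  refine ⟨d, fun e => hdτ ▸ hθ d e, fun i hi => ?_⟩
  rw [(tE_facts.1 i).1]
  have hx : θ ⟨J (pW (o (2 ^ i.val))), hT _⟩ = aP (o (2 ^ i.val)) := hθJ _
  have hcm : aP (o (2 ^ i.val)) * tau1 = tau1 * aP (o (2 ^ i.val)) :=
    MulEquiv.ext fun e => (rho1_facts.2 i hi e).1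
  obtain ⟨t, ht, ht'⟩ := hc d hd
  obtain ⟨s, hs, hs'⟩ := hc _ (hSR ⟨J (pW (o (2 ^ i.val))), hT _⟩ ⟨_, rfl⟩ (by rw [hx, hcm]))
  rw [hdτ] at ht'
  rw [hx] at hs'
  obtain ⟨c, hc1, hc2⟩ := rho1_comm (t := t) (s := s) (a := θ n (eb 1)) (b := θ n (ue i))
    (rho1_aP_inj (by
      rw [map_mul, map_mul, ht', hs']
      calc _ = θ n * (tau1 * aP (o (2 ^ i.val))) * (θ n)⁻¹ := by group
        _ = _ := by rw [← hcm]; group))
    (ht' ▸ tv _ _ _ fun e => (rho1_facts.1 e).2) (hs' ▸ tv _ _ _ fun e => (rho1_facts.2 i hi e).2)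
  obtain ⟨b, hb, rfl⟩ : ∃ b, (b = 1 ∨ b = ue i ∨ b = eb 1 ∨ b = eb 1 * ue i) ∧ θ n b = c := by
    rcases hc1 with rfl | rfl | rfl | rfl
    · exact ⟨1, Or.inl rfl, map_one _⟩
    · exact ⟨_, Or.inr (Or.inl rfl), rfl⟩
    · exact ⟨_, Or.inr (Or.inr (Or.inl rfl)), rfl⟩
    · exact ⟨_, Or.inr (Or.inr (Or.inr rfl)), map_mul _ _ _⟩
  refine ⟨b, hb, ?_⟩
  have e1 := congrArg J hc2
  have e2 : (n : G) * J (bW b) * (n : G)⁻¹ = J (bW (θ n b)) := hθ n b
  rw [map_mul, map_mul, map_mul, ht, hs, ← e2] at e1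
  change (d : G) * J (pW (o (2 ^ i.val))) * (d : G)⁻¹ = J (bW b * pW (o (2 ^ i.val)))
  rw [map_mul]
  change (n : G) * d * (n : G)⁻¹ * (n * J (pW (o (2 ^ i.val))) * (n : G)⁻¹) =
    n * J (bW b) * (n : G)⁻¹ * (n * J (pW (o (2 ^ i.val))) * (n : G)⁻¹ * (n * d * (n : G)⁻¹)) at e1
  calc _ = (n : G)⁻¹ * ((n : G) * d * (n : G)⁻¹ * (n * J (pW (o (2 ^ i.val))) * (n : G)⁻¹)) * n * (d : G)⁻¹ := by group
    _ = _ := by rw [e1]; group

end CfsgLib.Har
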