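import Cfsg.Agent.Lib.Har.Fb

/-!
Project HAR (S1918, plans/HAR.md). The elements `ρ_i` (package RHO2).
-/

set_option autoImplicit false
set_option Elab.async false
set_option linter.unusedSectionVars false
set_option synthInstance.maxSize 100000
set_option maxRecDepth 100000

namespace CfsgLib.Har

open Subgroup Equiv Function CfsgLib.W2 CfsgLib.W2.TG CfsgLib.Tech CfsgLib.PComp Cfsg CfsgLib.A16
  CfsgLib.SylT

variable {G : Type*} [Group G] [Finite G] {J : TW →* G} {ρ σ d : G} {f : G → WB} {r : Fin 4 → G}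

theorem rho2_tE : ∀ (i : Fin 4) e,
    bW (eb (bl i)) * tE e * (bW (eb (bl i)))⁻¹ = tE (aP (o (2 ^ i.val)) e) := by decide +kernel

theorem rho2_rel (J : TW →* G) (i : Fin 4) (e : EG) :
    W2.Rel (J.comp tE) (J (bW (eb (bl i)))) e (aP (o (2 ^ i.val)) e) :=
  (W2.Rel.conj J _ _).of_eq rfl (rho2_tE i e)

theorem TS.rho2_act (h : TS J ρ σ) (i : Fin 4) : ∃ s, ∀ a, W2.Rel (J.comp tE) s a (sV i a) := by
  have k : ∀ (i : Fin 4) b, aP (o (2 ^ i.val)) (Har.sE (aP (o (2 ^ i.val)) b)) = sV i (Har.sE b) := by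
    decide +kernel
  refine ⟨J (bW (eb (bl i))) * (σ * (J (bW (eb (bl i))) * σ⁻¹)), fun a => ?_⟩
  obtain ⟨b, rfl⟩ := Har.sE.surjective a
  exact ((rho2_rel J i _).comp ((h.sE _).comp ((rho2_rel J i b).comp (h.sE b).symm))).of_eq rfl (k i b)

theorem rho2_norm (t : TW) : t ∈ normalizer (tE.range : Set TW) := by
  rw [← SemidirectProduct.inl_left_mul_inr_right t]
  refine mul_mem (AI_top ▸ AI_norm 15 0 (AI_zero ▸ ⟨_, rfl⟩)) (mem_normalizer_of_forall ?_)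
  rintro _ ⟨a, rfl⟩
  refine ⟨cE (trH t.right) a, ?_⟩
  change i1 (eps _) = pW _ * i1 (eps a) * (pW _)⁻¹
  rw [eps_cE, map_mul, map_mul, map_inv, i1_trH]

theorem rho2_abs {X : Type*} [Group X] {j : TW →* X} (hj : Injective j) {s : X}
    (hs : ∀ a, W2.Rel j s (tE a) (tE (sV 1 a))) {e e2 e3 : EG}
    (h1 : s * j (bW (eb 0)) * s⁻¹ * (j (bW (eb 0)))⁻¹ = j (tE e)) (h2 : s * s * s = j (tE e2))
    (h3 : j (bW (eb 2)) * s * (j (bW (eb 2)))⁻¹ * s = j (tE e3)) :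
    ∃ x w, (w = eb 0 ∨ w = eb 0 * ue 1) ∧ W2.Rel j (s * j (tE x)) (bW w) (bW w) := by
  have r1 : W2.Rel j s (bW (eb 0)) (tE e * bW (eb 0)) := by
    rw [W2.Rel, map_mul, ← h1, inv_mul_cancel_right]
  have r2 := (hs e).mul r1
  have c3 := (((hs _).mul r2).comp r2).comp r1
  have y1 := (((hs (aP (o 2) e)).conj_by (bW (eb 2))).mul (r1.conj_by (bW (eb 2)))).of_eq
    ((by decide +kernel : ∀ e, bW (eb 2) * tE (aP (o 2) e) * (bW (eb 2))⁻¹ *
      (bW (eb 2) * bW (eb 0) * (bW (eb 2))⁻¹) = tE e * bW (eb 0)) e) rfl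
  have y2 := y1.comp r1
  rw [h2] at c3
  rw [h3] at y2
  have k0 : ∀ a, tE a * bW (eb 0) * (tE a)⁻¹ = bW (eb 0) ∨ tE a * bW (eb 0) * (tE a)⁻¹ = bW (eb 1) := by
    decide +kernel
  have k1 := k0 e2
  have k2 := k0 e3
  rw [← c3.uniq hj (W2.Rel.conj j _ _) rfl] at k1
  rw [← y2.uniq hj (W2.Rel.conj j _ _) rfl] at k2
  obtain ⟨x, -, a, -, w, hw, e1, e2⟩ : ∃ x ∈ [1, eb 0], ∃ a ∈ [1, ue 0, ue 1, ue 0 * ue 1],
      ∃ w ∈ [eb 0, eb 0 * ue 1], tE a * bW (eb 0) = tE x * bW w * (tE x)⁻¹ ∧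
        tE (sV 1 a) * (tE e * bW (eb 0)) = bW w := by
    clear c3 y2 y1 r2 r1 h1
    revert e
    decide +kernel
  exact ⟨x, w, by simpa using hw, (((hs a).mul r1).of_eq e1 e2).comp (W2.Rel.conj j _ _)⟩

theorem TS.rho2_one (h : TS J ρ σ) : ∃ s w, (w = eb 0 ∨ w = eb 0 * ue 1) ∧
    (∀ a, W2.Rel (J.comp tE) s a (sV 1 a)) ∧ W2.Rel J s (bW w) (bW w) := by
  obtain ⟨s, hs⟩ := h.rho2_act 1
  set E := (J.comp tE).range with hE
  let N := normalizer (E : Set G)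
  let O := opOf 2 (centralizer (E : Set G))
  have hN : ∀ {g}, (∀ a, ∃ b, W2.Rel (J.comp tE) g a b) → g ∈ N := fun k =>
    mem_normalizer_of_forall (by rintro _ ⟨a, rfl⟩; obtain ⟨b, e⟩ := k a; exact ⟨b, Eq.symm e⟩)
  have hT : ∀ t, J t ∈ N := fun t => hN fun a => by
    obtain ⟨b, e⟩ := conj_mem_of_mem_normalizer (rho2_norm t) ⟨a, rfl⟩
    exact ⟨b, (W2.Rel.conj J _ _).of_eq rfl e.symm⟩
  have hC : ∀ {g}, (∀ a, W2.Rel (J.comp tE) g a a) → g ∈ centralizer (E : Set G) := fun k =>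
    mem_centralizer_iff.2 (by rintro _ ⟨a, rfl⟩; exact (k a).comm.symm)
  have hO : N ≤ normalizer (O : Set G) :=
    le_trans (fun g hg => mem_normalizer_of_forall fun c hc => mem_centralizer_iff.2 fun e he => by
      have := mem_centralizer_iff.1 hc _ (conj_mem_of_mem_normalizer (inv_mem hg) he)
      calc e * (g * c * g⁻¹) = g * (g⁻¹ * e * g⁻¹⁻¹ * c) * g⁻¹ := by group
        _ = _ := by rw [this]; group) (normalizer_le_normalizer_opOf _)
  have : (O.subgroupOf N).Normal := normal_subgroupOf_of_le_normalizer hO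
  let π := QuotientGroup.mk' (O.subgroupOf N)
  let j := π.comp (J.codRestrict N hT)
  have hj : Injective j := (injective_iff_map_eq_one _).2 fun t e => by
    have := odd_of_mem_opOf (x := J t) ((QuotientGroup.eq_one_iff (J.codRestrict N hT t)).1 e)
    obtain ⟨k, hk⟩ := two_TW t
    rw [orderOf_injective J h.inj] at this
    exact orderOf_eq_one_iff.1 (Nat.eq_one_of_dvd_coprimes (this.coprime_two_right.pow_right k) dvd_rfl
      (orderOf_dvd_of_pow_eq_one hk))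
  have hc : ∀ g : N, (∀ a, W2.Rel (J.comp tE) g.1 a a) → ∃ e, π g = j (tE e) := fun g k => by
    obtain ⟨_, ⟨e, rfl⟩, c, hc, e'⟩ := cent_syl h.cE (fun e he c hc => mem_centralizer_iff.1 hc e he) (hC k)
    refine ⟨e, (QuotientGroup.eq.2 ?_).symm⟩
    change (J (tE e))⁻¹ * g.1 ∈ O
    rw [e']; exact (inv_mul_cancel_left (J (tE e)) c).symm ▸ hc
  let s' : N := ⟨s, hN fun a => ⟨_, hs a⟩⟩
  obtain ⟨e1, h1⟩ := hc (s' * ⟨_, hT (bW (eb 0))⟩ * s'⁻¹ * (⟨_, hT (bW (eb 0))⟩ : N)⁻¹) fun a => by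
    obtain ⟨b, rfl⟩ := (aP (o 1)).surjective a
    obtain ⟨b, rfl⟩ := (sV 1).surjective b
    exact ((((hs _).comp (rho2_rel J 0 b)).comp (hs b).symm).comp (rho2_rel J 0 _).symm).of_eq rfl
      (by revert b; decide +kernel)
  obtain ⟨e2, h2⟩ := hc (s' * s' * s') fun a =>
    (((hs _).comp (hs _)).comp (hs a)).of_eq rfl (by revert a; decide +kernel)
  obtain ⟨e3, h3⟩ := hc (⟨_, hT (bW (eb 2))⟩ * s' * (⟨_, hT (bW (eb 2))⟩ : N)⁻¹ * s') fun a => by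
    refine ((((rho2_rel J 1 _).comp (hs _)).comp (rho2_rel J 1 (aP (o 2) (sV 1 a))).symm).comp
      ((hs a).of_eq rfl ?_)).of_eq rfl ?_ <;> revert a <;> decide +kernel
  simp only [map_mul, map_inv] at h1 h2 h3
  obtain ⟨x, w, hw, r⟩ := rho2_abs hj (s := π s') (fun a => by
    change π s' * π _ * (π s')⁻¹ = π _
    rw [← map_inv, ← map_mul, ← map_mul]
    exact congrArg π (Subtype.ext (hs a))) h1 h2 h3
  have w2 : J (bW w) * J (bW w) = 1 := by
    rw [← map_mul, ← map_mul, (by decide +kernel : ∀ w : EG, w * w = 1), map_one, map_one]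
  have m : J (bW w) * (s * J (tE x) * J (bW w) * (s * J (tE x))⁻¹) ∈ O := by
    nth_rewrite 1 [← inv_eq_of_mul_eq_one_left w2]
    have : π ⟨_, hT (bW w)⟩ = π (s' * ⟨_, hT (tE x)⟩ * ⟨_, hT (bW w)⟩ * (s' * ⟨_, hT (tE x)⟩)⁻¹) := by
      simp only [map_mul, map_inv]; exact Eq.symm r
    exact (QuotientGroup.eq (s := O.subgroupOf N)).1 this
  obtain ⟨c, hc, e⟩ := conj_of_odd w2 (conj_sq w2 _) (odd_of_mem_opOf m)
  have hc' := opOf_le _ (inv_mem (zpowers_le_of_mem m hc))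
  refine ⟨c⁻¹ * (s * J (tE x)), w, hw, fun a => ?_, ?_⟩
  · refine (W2.Rel.of_comm (mem_centralizer_iff.1 hc' _ ⟨_, rfl⟩).symm).comp ((hs a).comp ?_)
    exact (W2.Rel.conj (J.comp tE) x a).of_eq rfl (mul_inv_cancel_comm _ _)
  · rw [W2.Rel, mul_inv_rev, mul_assoc c⁻¹, mul_assoc c⁻¹, ← mul_assoc _ (s * J (tE x))⁻¹, ← e]
    group

/-- `t_{2i} σ t_{2i} σ⁻¹` acts on `E` as `sV i` (`t_q = J (bW (eb q))`); take a power of odd order
(and the inverse if necessary). Let `t = t₀`, `s = r 1`, `O = O(C(E))`, `C(E) = E O` (`cE`,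
`cent_syl`). `s` and `t` commute as automorphisms of `E`, so `s t s⁻¹ ≡ t e` modulo `O`, and `s³ ∈ O`
gives `e · sV e · sV² e = 1`, i.e. `e ∈ V₁ = ⟨eb 2, eb 3⟩`; so `s` centralizes `t e₁` modulo `O` for a
unique `e₁ ∈ V₁`. `t₂ s t₂⁻¹ ∈ s⁻¹ C(E)` centralizes `t e₁` modulo `⟨u₀⟩ O`, and `t · t₂ e₁ t₂⁻¹` modulo
`O`; by uniqueness `e₁` is fixed by `t₂`: `e₁ ∈ {1, u₁}`. Multiply `s` by an element of `O`
(`conj_of_odd`) so that it centralizes `t e₁`. `r 2`, `r 3` are conjugates of `r 1` by elements of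
`N₀` (`wf` with `w = liftB` of the exchange of two blocks, `P = E⟨t₀⟩`). -/
theorem TU.exists_r (h : TU J ρ σ) (hf : FB J f) : ∃ r : Fin 4 → G,
    (∀ i a, W2.Rel (J.comp tE) (r i) a (sV i a)) ∧
    ((∀ i, i ≠ 0 → W2.Rel J (r i) (bW (eb 0)) (bW (eb 0))) ∨
      ∀ i, i ≠ 0 → W2.Rel J (r i) (bW (eb 0 * ue i)) (bW (eb 0 * ue i))) := by
  obtain ⟨s0, h0⟩ := h.rho2_act 0
  obtain ⟨s, w, hw, h1, h2⟩ := h.rho2_one
  obtain ⟨g, -, -, hg⟩ := hf.wf (liftB w3) ((iT.range.comap (MulAut.conj (liftB w3)).toMonoidHom).comap iT)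
    fun a ha => ha
  have hg' : ∀ a b, iT b = liftB w3 * iT a * (liftB w3)⁻¹ → W2.Rel J g a b := fun a b e =>
    hg a ⟨b, e⟩ b e
  have gE : ∀ a, W2.Rel (J.comp tE) g a (cA a) := fun a => hg' _ _ (by
    change (iT.comp i1) _ = _ * (iT.comp i1) _ * _
    rw [iT_i1]
    change inc (iw (eps _)) = inc _ * inc (iw (eps a)) * (inc _)⁻¹
    rw [iw_eps, iw_eps, w3_ee, map_mul, map_mul, map_inv])
  have st : ∀ {y : G} {i k : Fin 4}, (∀ a, cA (sV i a) = sV k (cA a)) →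
      (∀ a, W2.Rel (J.comp tE) y a (sV i a)) → ∀ a, W2.Rel (J.comp tE) (g * y * g⁻¹) a (sV k a) :=
    fun e k a => by
      obtain ⟨b, rfl⟩ := cA.surjective a
      exact (((gE _).comp (k b)).comp (gE b).symm).of_eq rfl (e b)
  have h3 := st (k := 2) (by decide +kernel) h1
  have h4 := st (k := 3) (by decide +kernel) h3
  have sb : ∀ {y : G} {a b : EG}, iT (bW b) = liftB w3 * iT (bW a) * (liftB w3)⁻¹ →
      W2.Rel J y (bW a) (bW a) → W2.Rel J (g * y * g⁻¹) (bW b) (bW b) := fun e k =>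
    ((hg' _ _ e).comp k).comp (hg' _ _ e).symm
  refine ⟨![s0, s, g * s * g⁻¹, g * (g * s * g⁻¹) * g⁻¹], fun i => ?_, hw.imp ?_ ?_⟩
  · fin_cases i
    exacts [h0, h1, h3, h4]
  · rintro rfl i hi
    have k := sb (b := eb 0) (by decide +kernel) h2
    fin_cases i
    exacts [absurd rfl hi, h2, k, sb (by decide +kernel) k]
  · rintro rfl i hi
    have k := sb (b := eb 0 * ue 2) (by decide +kernel) h2
    fin_cases i
    exacts [absurd rfl hi, h2, k, sb (by decide +kernel) k]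

end CfsgLib.Har
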