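import Cfsg.Agent.Lib.Har.Rho1
import Cfsg.Agent.Lib.Har.Rho2

/-!
Project HAR (S1918, plans/HAR.md). The configuration `RD` (package RHO3).
-/

set_option autoImplicit false
set_option Elab.async false
set_option linter.unusedSectionVars false
set_option synthInstance.maxSize 100000
set_option maxRecDepth 100000

namespace CfsgLib.Har

open Subgroup Equiv Function CfsgLib.W2 CfsgLib.W2.TG CfsgLib.Tech CfsgLib.PComp Cfsg CfsgLib.A16
  CfsgLib.SylT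

variable {G : Type*} [Group G] [Finite G] {J : TW →* G} {ρ σ d : G} {f : G → WB} {r : Fin 4 → G}

/-- conjugate elements of `B'` have the same `ol` (`WC.ctrl`, `om`) -/
theorem TU.ctrl (h : TU J ρ σ) {a b : EG} (e : IsConj (J (bW a)) (J (bW b))) : ol a = ol b := by
  obtain ⟨g, hg⟩ := isConj_iff.1 e
  obtain ⟨d, hd, rfl⟩ := h.wc.ctrl (j := J.comp bW) (h.inj.comp SemidirectProduct.inl_injective) h.top
    (h.top.pgroup.to_le (by rintro _ ⟨x, rfl⟩; exact ⟨_, rfl⟩)) (g := g) (a := a) (b := b) hg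
  exact (h.om d hd a).symm

/-- `b` lies in the orbit of `a` under `sV i` -/
abbrev rho3O (i : Fin 4) (a b : EG) : Prop := b = a ∨ b = sV i a ∨ b = sV i (sV i a)

/-- the possible values of `b_i` -/
abbrev rho3B (i : Fin 4) (ε δ : Bool) : EG := (if ε then eb 1 else 1) * if δ then ue i else 1

/-- `x_i u_i ^ δ` -/
abbrev rho3X (i : Fin 4) (δ : Bool) : EG := eb (bl i) * if δ then ue i else 1

theorem rho3_step {s : G} {i : Fin 4} (h : ∀ a, W2.Rel (J.comp tE) s a (sV i a)) {t : TW} (ht : W2.Rel J s t t)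
    {a b : EG} (o : rho3O i a b) : IsConj (J (t * tE a)) (J (t * tE b)) := by
  have k : ∀ a, IsConj (J (t * tE a)) (J (t * tE (sV i a))) := fun a =>
    (ht.mul (show W2.Rel J s (tE a) (tE (sV i a)) from h a)).isConj
  rcases o with rfl | rfl | rfl
  exacts [IsConj.refl _, k a, (k a).trans (k _)]

theorem rho3_f1 : ∀ i j : Fin 4, i ≠ 0 → j ≠ 0 → i ≠ j →
    bW (eb 0) = bW (eb 0 * ue i) * tE (ue i) ∧ rho3O i (ue i) (eb (br i)) ∧
    bW (eb 0 * ue i) * tE (eb (br i)) = bW (eb 0 * ue j) * tE (ue j * eb (bl i)) ∧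
    rho3O j (ue j * eb (bl i)) (eb (br j) * eb (bl i)) ∧
    bW (eb 0 * ue j) * tE (eb (br j) * eb (bl i)) = bW (eb 0) * tE (eb (bl i)) * tE (eb (bl j)) ∧
    1 * tE (ue 0 * ue i * ue j) = bW (ue 0 * ue i * ue j) ∧ ol (eb 0) ≠ ol (ue 0 * ue i * ue j) ∧
    ∀ ε δ δ' : Bool, bW (tau1 (eb 0)) * (bW (rho3B i ε δ) * tE (eb (bl i))) * (bW (rho3B j ε δ') * tE (eb (bl j))) =
      1 * tE (ue 0 * rho3X i δ * rho3X j δ') ∧
      rho3O i (ue 0 * rho3X i δ * rho3X j δ') (ue 0 * ue i * rho3X j δ') ∧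
      rho3O j (ue 0 * ue i * rho3X j δ') (ue 0 * ue i * ue j) := by decide +kernel

theorem rho3_f2 : ∀ i : Fin 4, i ≠ 0 → bW (ue i) = 1 * tE (ue i) ∧ rho3O i (ue i) (eb (bl i)) ∧
    bW (eb 0) * tE (ue i) = bW (eb 0 * ue i) ∧ ol (ue i) ≠ ol (eb 0 * ue i) ∧
    ∀ δ : Bool, tE (eb 0) * (bW (rho3B i true δ) * tE (eb (bl i))) * (tE (eb 0))⁻¹ = bW (eb 0) * tE (rho3X i δ) ∧
      rho3O i (rho3X i δ) (ue i) := by decide +kernel

/-- the correction of `d` -/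
abbrev rho3C (a b c : Bool) : EG := (if a then eb 2 else 1) * (if b then eb 4 else 1) * if c then eb 6 else 1

theorem rho3_f3 : (∀ a b c : Bool,
    bW (rho3C a b c) * (bW (rho3B 1 false a) * tE (eb (bl 1))) * (bW (rho3C a b c))⁻¹ = tE (eb (bl 1)) ∧
    bW (rho3C a b c) * (bW (rho3B 2 false b) * tE (eb (bl 2))) * (bW (rho3C a b c))⁻¹ = tE (eb (bl 2)) ∧
    bW (rho3C a b c) * (bW (rho3B 3 false c) * tE (eb (bl 3))) * (bW (rho3C a b c))⁻¹ = tE (eb (bl 3))) ∧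
    ∀ q : Fin 8, 2 ≤ q → ∃ i : Fin 4, i ≠ 0 ∧ tau1 (ue i) = ue i ∧
      (eb q = eb (bl i) ∨ eb q = eb (bl i) * ue i) := by decide +kernel

theorem TU.rho3_bad (h : TU J ρ σ) (ha : ∀ i a, W2.Rel (J.comp tE) (r i) a (sV i a))
    (hc : ∀ i, i ≠ 0 → W2.Rel J (r i) (bW (eb 0 * ue i)) (bW (eb 0 * ue i)))
    (hd : ∀ e, W2.Rel (J.comp bW) d e (tau1 e)) {i j : Fin 4} (hi : i ≠ 0) (hj : j ≠ 0) (hij : i ≠ j)
    {ε δ δ' : Bool} (h1 : W2.Rel J d (tE (eb (bl i))) (bW (rho3B i ε δ) * tE (eb (bl i))))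
    (h2 : W2.Rel J d (tE (eb (bl j))) (bW (rho3B j ε δ') * tE (eb (bl j)))) : False := by
  obtain ⟨f1, f2, f3, f4, f5, f6, f7, f8⟩ := rho3_f1 i j hi hj hij
  obtain ⟨g1, g2, g3⟩ := f8 ε δ δ'
  have c1 := rho3_step (ha i) (hc i hi) f2
  have c2 := rho3_step (ha j) (hc j hj) f4
  have c3 := (((show W2.Rel J d (bW (eb 0)) (bW (tau1 (eb 0))) from hd _).mul h1).mul h2).isConj
  have c4 := rho3_step (ha i) W2.Rel.one g2
  have c5 := rho3_step (ha j) W2.Rel.one g3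
  rw [← f1, f3] at c1
  rw [f5] at c2
  rw [g1] at c3
  rw [f6] at c5
  exact f7 (h.ctrl ((((c1.trans c2).trans c3).trans c4).trans c5))

theorem TU.rho3_good (h : TU J ρ σ) (ha : ∀ i a, W2.Rel (J.comp tE) (r i) a (sV i a))
    (hc : ∀ i, i ≠ 0 → W2.Rel J (r i) (bW (eb 0)) (bW (eb 0))) {i : Fin 4} (hi : i ≠ 0) {δ : Bool}
    (h1 : W2.Rel J d (tE (eb (bl i))) (bW (rho3B i true δ) * tE (eb (bl i)))) : False := by
  obtain ⟨f1, f2, f3, f4, f5⟩ := rho3_f2 i hi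
  obtain ⟨g1, g2⟩ := f5 δ
  have c1 := rho3_step (ha i) W2.Rel.one f2
  have c2 := h1.isConj
  have c3 := (W2.Rel.conj J (tE (eb 0)) (bW (rho3B i true δ) * tE (eb (bl i)))).isConj
  have c4 := rho3_step (ha i) (hc i hi) g2
  rw [← f1, one_mul] at c1
  rw [g1] at c3
  rw [f3] at c4
  exact f4 (h.ctrl (((c1.trans c2).trans c3).trans c4))

/-- Bad case of `exists_r`: two of `b₁, b₂, b₃` (`exists_d`), say `b_i, b_j`, have the same
`eb 1`-component. `t₀ = (t₀ u_i) u_i ∼ (t₀ u_i) (x_i u_i) = t₀ x_i` by a power of `r i`, and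
`t₀ x_i ∼ t₀ x_i x_j` by a power of `r j`; `d (t₀ x_i x_j) d⁻¹ ∈ u₀ x_i x_j ⟨u_i, u_j⟩ ∼ u₀ u_i u_j` by
powers of `r i`, `r j`; but `ol (eb 0) = 1 ≠ 3`. Good case: if `b_i ∈ eb 1 · ⟨u_i⟩` then
`u_i ∼ x_i ∼ t₁ x_i u_i^? ∼ t₀ x_i u_i^?` (by `x₀`) `∼ t₀ u_i`, `ol = 1 ≠ 2`. So `b_i ∈ ⟨u_i⟩`; multiply `d`
by the `t_{2i}` with `b_i = u_i`. (`tE (eb (br i)) = x_i u_i`.) -/
theorem TU.rd (h : TU J ρ σ) (hf : FB J f) : ∃ r d, RD J r d := by
  obtain ⟨r, ha, hc⟩ := h.exists_r hf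
  obtain ⟨d, hd, hb⟩ := h.exists_d
  have hb' : ∀ i : Fin 4, i ≠ 0 → ∃ ε δ : Bool,
      W2.Rel J d (tE (eb (bl i))) (bW (rho3B i ε δ) * tE (eb (bl i))) := fun i hi => by
    obtain ⟨b, h1, h2⟩ := hb i hi
    rcases h1 with rfl | rfl | rfl | rfl
    · exact ⟨false, false, by simpa using h2⟩
    · exact ⟨false, true, by simpa using h2⟩
    · exact ⟨true, false, by simpa using h2⟩
    · exact ⟨true, true, by simpa using h2⟩
  obtain ⟨ε₁, δ₁, h1⟩ := hb' 1 (by decide)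
  obtain ⟨ε₂, δ₂, h2⟩ := hb' 2 (by decide)
  obtain ⟨ε₃, δ₃, h3⟩ := hb' 3 (by decide)
  rcases hc with hc | hc
  swap
  · exfalso
    cases ε₁ <;> cases ε₂ <;> cases ε₃ <;>
      first
      | exact h.rho3_bad ha hc hd (by decide) (by decide) (by decide) h1 h2
      | exact h.rho3_bad ha hc hd (by decide) (by decide) (by decide) h1 h3
      | exact h.rho3_bad ha hc hd (by decide) (by decide) (by decide) h2 h3
  cases ε₁
  swap
  · exact (h.rho3_good ha hc (by decide) h1).elim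
  cases ε₂
  swap
  · exact (h.rho3_good ha hc (by decide) h2).elim
  cases ε₃
  swap
  · exact (h.rho3_good ha hc (by decide) h3).elim
  obtain ⟨g1, g2, g3⟩ := rho3_f3.1 δ₁ δ₂ δ₃
  have dB : ∀ e, W2.Rel (J.comp bW) (J (bW (rho3C δ₁ δ₂ δ₃)) * d) e (tau1 e) := fun e =>
    ((W2.Rel.conj (J.comp bW) (rho3C δ₁ δ₂ δ₃) (tau1 e)).comp (hd e)).of_eq rfl (mul_inv_cancel_comm _ _)
  have dx : ∀ i : Fin 4, i ≠ 0 →
      W2.Rel J (J (bW (rho3C δ₁ δ₂ δ₃)) * d) (tE (eb (bl i))) (tE (eb (bl i))) := fun i hi => by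
    fin_cases i
    · exact absurd rfl hi
    · exact ((W2.Rel.conj J _ _).comp h1).of_eq rfl g1
    · exact ((W2.Rel.conj J _ _).comp h2).of_eq rfl g2
    · exact ((W2.Rel.conj J _ _).comp h3).of_eq rfl g3
  refine ⟨r, J (bW (rho3C δ₁ δ₂ δ₃)) * d, ha, hc, dB, fun q hq => ?_⟩
  obtain ⟨i, hi, e1, e2⟩ := rho3_f3.2 q hq
  have du : W2.Rel J (J (bW (rho3C δ₁ δ₂ δ₃)) * d) (tE (ue i)) (tE (ue i)) := by
    have := dB (ue i)
    rw [e1] at this
    rw [(tE_facts.1 i).2]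
    exact this
  rcases e2 with e2 | e2
  · rw [e2]; exact dx i hi
  · rw [e2]
    have := (dx i hi).mul du
    rw [← map_mul] at this
    exact this

end CfsgLib.Har
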