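import Cfsg.Agent.Lib.Har.Nb
import Cfsg.Agent.Lib.Har.Reg
import Cfsg.Agent.Lib.A16.Std

/-!
Project HAR (S1918, plans/HAR.md). `S₁` not Sylow: an element of `C(B)` (package SA).
-/

set_option autoImplicit false
set_option Elab.async false
set_option linter.unusedSectionVars false
set_option synthInstance.maxSize 100000
set_option maxRecDepth 100000

namespace CfsgLib.Har

open Subgroup Equiv Function CfsgLib.W2 CfsgLib.W2.TG CfsgLib.Tech CfsgLib.PComp Cfsg CfsgLib.A16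
  CfsgLib.SylT

variable {G : Type*} [Group G] [Finite G] {J : SG →* G} {π : G → P16} {ρ σ y : G}

theorem saInv {x : G} {ν : Perm (Fin 8)} (h : AcB J x ν) : AcB J x⁻¹ ν⁻¹ := fun p q => by
  simpa using (h (ν⁻¹ p) (ν⁻¹ q)).symm

theorem saTr (J : SG →* G) (p : P8) : AcB J (J (trH p)) (pw p) := by
  have := acB_map J (trH p)
  rwa [iw_trH, lift_s] at this

theorem saMap (J : SG →* G) (s : SG) : AcB J (J s) (pw (tp s)) := pw_tp s ▸ acB_map J s

theorem saSame (hJ : Injective J) {x u : G} {ν : Perm (Fin 8)} (h : AcB J x ν) (h' : AcB J u ν) {a b : BG}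
    (r : W2.Rel (J.comp bet) x a b) : W2.Rel (J.comp bet) u a b := by
  obtain ⟨c, e, k⟩ := h.rel a
  obtain ⟨c', e', k'⟩ := h'.rel a
  obtain rfl : c = c' := iwb_inj (e.trans e'.symm)
  obtain rfl : c = b := bet_inj (k.uniq hJ r rfl)
  exact k'

theorem saNorm {x : G} {ν : Perm (Fin 8)} (h : AcB J x ν) :
    x ∈ normalizer ((J.comp bet).range : Set G) := mem_normalizer_of_forall (by
  rintro _ ⟨a, rfl⟩
  obtain ⟨b, -, r⟩ := h.rel a
  exact ⟨b, Eq.symm r⟩)

theorem saCB (J : SG →* G) (s : SG) (b : BG) : W2.Rel (J.comp bet) (J s) b (cB s b) := by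
  simp [W2.Rel, bet_cB]

theorem saFix {s : SG} {b : BG} {p : Fin 8} (h : (iw s).s p = p) : b * cB s b ≠ zb := fun e => by
  have e1 := congrArg (fun a => (iw (bet a)).b p) e
  have h' : (iw s).s⁻¹ p = p := by rw [Perm.inv_eq_iff_eq]; exact h.symm
  simp only [map_mul, bet_cB, map_inv, z_facts.1, z_facts.2.2.1, WD.mul_b, WD.mul_s, WD.inv_b, bet_s',
    z0_b, mul_one, inv_one, Perm.one_apply, h', h] at e1
  revert e1
  generalize (iw (bet b)).b p = x, (iw s).b p = w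
  revert x w
  decide

theorem saV : ∀ i j k : Bool, (i || j || k) = true → ∃ b, b * cB (trH ((if i then pv 0 else 1) *
    (if j then pv 1 else 1) * (if k then pv 2 else 1))) b = zb := by decide +kernel

theorem saP : ∀ i, pv i * pv i = 1 ∧ ∀ j, pv i * pv j = pv j * pv i := by decide +kernel

/-- the permutations `ν` with `∃ g, AcB J g ν` form a subgroup containing `range pw` (`acB_map`,
`iw_trH`) and `r8` (`sR_tb`); `gen_S8` -/
theorem C3.s8 (h : C3 J π ρ σ) (ν : Perm (Fin 8)) : ∃ g, AcB J g ν :=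
  (gen_S8 (K :=
    { carrier := {ν | ∃ n, AcB J n ν}
      mul_mem' := fun ⟨_, a⟩ ⟨_, a'⟩ => ⟨_, a.mul a'⟩
      one_mem' := ⟨1, fun _ _ => W2.Rel.of_comm ((one_mul _).trans (mul_one _).symm)⟩
      inv_mem' := fun ⟨_, a⟩ => ⟨_, saInv a⟩ }) (fun p => ⟨_, saTr J p⟩)
    ⟨ρ, fun p q => by have := h.rb (tb p q); rwa [sR_tb] at this⟩).ge (mem_top ν)

/-- `exists_y`: `g ∈ N(S₁) ∖ S₁`, `g² ∈ S₁`; `g` normalizes `B` (`charB`), fixes `z` (`center_SG`), acts
on `B` as `δ`. `g · J (trH (pv i)) · g⁻¹ = J s_i`; the permutations `v i = (iw s_i).s` are commuting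
involutions, and their products are fixed point free: for `v ≠ 1` in `V`, `zb = b · v b` for some
`b`; apply `δ`; and `zb = b · w b` is impossible if `w` fixes a point. `reg` and `s8` give `n` acting
as `ν` such that `n g` acts as an automorphism commuting with `V`, so as `cB (i0 a) * tw φ` (`endB`);
`no_tw` (for `J (i0 a)⁻¹ n g`, `C3.bs`) gives `φ = 0`. So `AcB J g μ` for a `μ` normalizing
`range pw` with `μ² ∈ range pw` (`AcB.uniq`); `mem_pw`: `μ = pw p`; `y = g · J (trH p)⁻¹`. -/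
theorem C3.y0 (h : C3 J π ρ σ) (hn : ¬ IsSylowIn 2 J.range ⊤) : ∃ y, Y0 J y := by
  obtain ⟨g, -, gN, gn, g2⟩ := exists_y (P := J.range) (H := ⊤)
    (isPGroup_SG.of_surjective _ J.rangeRestrict_surjective) le_top hn
  obtain ⟨θ, t1, -⟩ := exists_aut h.inj
  have hB := h.inj.comp bet_inj
  obtain ⟨θ', t2, -⟩ := exists_aut (j := J.comp bet) hB
  obtain ⟨α, a1⟩ : ∃ α : MulAut SG, ∀ s, W2.Rel J g s (α s) := ⟨_, t1 ⟨g, gN⟩⟩
  have gB : g ∈ normalizer ((J.comp bet).range : Set G) := mem_normalizer_of_forall (by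
    rintro _ ⟨a, rfl⟩
    obtain ⟨b, e⟩ := charB α a
    exact ⟨b, Eq.symm ((a1 (bet a)).of_eq rfl e.symm)⟩)
  obtain ⟨δ, d1⟩ : ∃ δ : MulAut BG, ∀ b, W2.Rel (J.comp bet) g b (δ b) := ⟨_, t2 ⟨g, gB⟩⟩
  have d2 : ∀ b, α (bet b) = bet (δ b) := fun b => (a1 _).uniq h.inj (d1 b) rfl
  have d3 : δ zb = zb := by
    refine bet_inj ?_
    rw [← d2, z_facts.1]
    refine (center_SG fun t => ?_).resolve_left fun e => z_facts.2.2.2.2.1 ((map_eq_one_iff _ α.injective).1 e)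
    obtain ⟨t, rfl⟩ := α.surjective t
    rw [← map_mul, ← map_mul, zs_comm]
  have d4 : ∀ s b, cB (α s) (δ b) = δ (cB s b) := fun s b => bet_inj (by
    rw [bet_cB, ← d2, ← d2, bet_cB, map_mul, map_mul, map_inv])
  let f : P8 →* Perm (Fin 8) := sH.comp (iw.comp (α.toMonoidHom.comp trH))
  have f1 : ∀ p, f p = (iw (α (trH p))).s := fun _ => rfl
  obtain ⟨ν, hν⟩ := reg (fun i => f (pv i)) (fun i => by rw [← map_mul, (saP i).1, map_one])
    (fun i j => by rw [← map_mul, ← map_mul, (saP i).2]) fun i j k e p e' => by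
      obtain ⟨b, hb⟩ := saV i j k e
      refine saFix (s := α (trH _)) (b := δ b) (p := p) ?_ (by rw [d4, ← map_mul, hb, d3])
      rw [← f1, map_mul, map_mul, apply_ite f, apply_ite f, apply_ite f, map_one]
      exact e'
  obtain ⟨n, hn⟩ := h.s8 ν
  obtain ⟨γ, c1⟩ : ∃ γ : MulAut BG, ∀ b, W2.Rel (J.comp bet) (n * g) b (γ b) :=
    ⟨_, t2 ⟨n * g, mul_mem (saNorm hn) gB⟩⟩
  obtain ⟨a, -, φ, rfl⟩ := endB γ fun i => MulEquiv.ext fun b => by
    rw [(vv_facts i).1]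
    have k1 : AcB J (n * J (α (trH (pv i))) * n⁻¹) (pw (pv i)) :=
      hν i ▸ (hn.mul (acB_map J _)).mul (saInv hn)
    have k2 := (saSame h.inj (saTr J (pv i)) k1 (saCB J _ _)).comp (c1 b)
    have k3 := (c1 _).comp (saCB J (trH (pv i)) b)
    rw [show n * g * J (trH (pv i)) = n * J (α (trH (pv i))) * n⁻¹ * (n * g) by
      rw [← show _ = J (α _) from a1 _]; group] at k3
    exact k3.uniq hB k2 rfl
  have c2 : ∀ b, W2.Rel (J.comp bet) ((J (i0 a))⁻¹ * (n * g)) b (tw φ b) := fun b =>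
    (saCB J _ _).symm.comp (c1 b)
  obtain rfl := BS.no_tw h.hy h.bs c2
  have c3 : AcB J ((J (i0 a))⁻¹ * (n * g)) 1 := fun p q => by
    have := c2 (tb p q)
    rw [tw_zero] at this
    exact this
  obtain ⟨μ, c4⟩ : ∃ μ, AcB J g μ := ⟨_, by
    simpa [mul_assoc] using ((saInv hn).mul (acB_map J (i0 a))).mul c3⟩
  obtain ⟨p, rfl⟩ := mem_pw (μ := μ) (mem_normalizer_of_forall (by
    rintro _ ⟨p, rfl⟩
    have := (c4.mul (saTr J p)).mul (saInv c4)
    rw [show g * J (trH p) * g⁻¹ = _ from a1 _] at this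
    exact ⟨_, (saMap J _).uniq h.inj this⟩)) (by
    obtain ⟨s, e⟩ := g2
    exact ⟨_, (saMap J s).uniq h.inj (e ▸ c4.mul c4)⟩)
  have c5 : AcB J (g * (J (trH p))⁻¹) 1 := by simpa using c4.mul (saInv (saTr J p))
  have m : J (trH p) ∈ J.range := ⟨_, rfl⟩
  refine ⟨g * (J (trH p))⁻¹, mul_mem gN (inv_mem (le_normalizer m)), fun b => (c5.cent _ ⟨b, rfl⟩).symm,
    fun e => gn ((mul_mem_cancel_right (inv_mem m)).1 e), ?_⟩
  rw [show g * (J (trH p))⁻¹ * (g * (J (trH p))⁻¹) = (g * J (trH p) * g⁻¹)⁻¹ * (g * g) * (J (trH p))⁻¹ by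
    group, show g * J (trH p) * g⁻¹ = _ from a1 _]
  exact mul_mem (mul_mem (inv_mem ⟨_, rfl⟩) g2) (inv_mem m)

end CfsgLib.Har
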