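import Cfsg.Agent.Lib.Har.Fb

/-!
Project HAR (S1918, plans/HAR.md). `B'` is strongly closed in `C(z)` (package SCB).
-/

set_option autoImplicit false
set_option Elab.async false
set_option linter.unusedSectionVars false
set_option synthInstance.maxSize 100000
set_option maxRecDepth 100000

namespace CfsgLib.Har

open Subgroup Equiv Function CfsgLib.W2 CfsgLib.W2.TG CfsgLib.Tech CfsgLib.PComp Cfsg CfsgLib.A16
  CfsgLib.SylT

variable {G : Type*} [Group G] [Finite G] {J : TW →* G} {ρ σ d : G} {f : G → WB} {r : Fin 4 → G}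

theorem scb_N (hJ : Injective J) {g : G} (hg : g ∈ normalizer ((J.comp bW).range : Set G)) {b : EG}
    {a : TW} (e : W2.Rel J g (bW b) a) : a ∈ bW.range := by
  obtain ⟨c, e'⟩ := conj_mem_of_mem_normalizer hg ⟨b, rfl⟩
  exact ⟨c, hJ (e'.trans e)⟩

theorem scb_fin : ∀ (δ : Bool) (e : EG), (δ = true → Nat.land e.v 3 = 0) →
    ((if δ then bW (eb 0) else 1) * tE e).right = 1 ∨
    (5 ≤ cl (iT ((if δ then bW (eb 0) else 1) * tE e)) +
      cl (iT ((if δ then bW (eb 0) else 1) * tE e * bW ze)) ∧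
    (cl (iT ((if δ then bW (eb 0) else 1) * tE e)) +
      cl (iT ((if δ then bW (eb 0) else 1) * tE e * bW ze)) ≤ 5 → δ = false ∧ ∃ i : Fin 4,
      ∀ q : Fin 8, q.val / 2 ≠ i.val → bW (eb q) * tE e = tE e * bW (eb q))) := by decide +kernel

theorem scb_ol : ∀ b, ol b + ol (b * ze) ≤ 5 ∧ (5 ≤ ol b + ol (b * ze) →
    ∃ j : Fin 4, tE (eb (bl j)) * bW b ≠ bW b * tE (eb (bl j))) := by decide +kernel

theorem scb_card (I : Fin 16) : Nat.card (AI I) = 256 := by
  have := card_inf I I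
  rwa [inf_idem, (by decide +kernel : ∀ I : Fin 16, wI (Nat.xor I.val I.val) = 0), pow_zero, mul_one] at this

theorem scb_inj {I K : Fin 16} (e : AI I = AI K) : I = K := by
  have := card_inf I K
  rw [e, inf_idem, scb_card] at this
  refine (by decide +kernel : ∀ I K : Fin 16, 256 * 2 ^ wI (Nat.xor I.val K.val) = 256 → I = K) I K this

theorem scb_z (t : TW) : t * bW ze = bW ze * t := iT_inj (by
  rw [map_mul, map_mul, iT_bW, eB_ze, zB_comm])

theorem scb_cl (hJ : Injective J) (hu : Fus J) {g : G} (hg : g ∈ Cx (J (bW ze))) {a : TW} {b : EG}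
    (e : W2.Rel J g a (bW b)) : cl (iT a) + cl (iT (a * bW ze)) = ol b + ol (b * ze) := by
  have k : ∀ {a b}, W2.Rel J g a (bW b) → cl (iT a) = ol b := fun {a b} e => by
    have b2 : bW b * bW b = 1 := by
      rw [← map_mul, (by decide +kernel : ∀ w : EG, w * w = 1), map_one]
    rw [(hu _ _ ((b2 ▸ e.mul e).uniq' hJ W2.Rel.one rfl) b2).1 e.isConj, iT_bW, ol_eq]
  rw [k e, k ((e.mul (W2.Rel.of_comm (mem_Cx.1 hg))).of_eq rfl (map_mul _ _ _).symm)]

/-- Let `w = g b g⁻¹ ∈ T ∖ B'`, `g ∈ H = C(z)`. `cl w = cl b`, `cl (w z) = cl (b z)`; the sum is 4 or 5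
for `b ∈ B'` (5 iff `b` is odd) and `4 + k + δ` for the normal form of `w` with `k ≥ 1` 2-cycles; so
`b` is odd and `w ∼ w' = x₀ u_K` under `N₀`, `K ∈ {∅, {1}, {2,3}, {1,2,3}}`. `|C_T(w')| ≥ 2^12`
(it contains `E`, `t₂, t₄, t₆` and the exchange `pW (o 32)` of the blocks 2, 3). Let `S ⊇ B'` be Sylow in
`C_H(b)`; `k S k⁻¹ ≤ T` for some `k ∈ H`, `k ∈ N(B')` by `wc`, `k b k⁻¹` is odd, its `V`-orbit has 8
elements, so `|S| ≤ 2^12`. Hence `C_T(w')` is Sylow in `C_H(w')` and contains a conjugate of `B'`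
centralizing `w'`, which is `B'` by `wc`; so `w' ∈ C_T(B') = B'`, false. -/
theorem TU.scb (h : TU J ρ σ) (hf : FB J f) (hu : Fus J) {g : G} (hg : g ∈ Cx (J (bW ze))) {b : EG}
    {a : TW} (e : W2.Rel J g (bW b) a) : a ∈ bW.range := by
  have b2 : ∀ b : EG, bW b * bW b = 1 := fun b => by
    rw [← map_mul, (by decide +kernel : ∀ w : EG, w * w = 1), map_one]
  obtain ⟨c, δ, x, e1, hδ⟩ := nf_inv (w := iT a) (by
    rw [← map_mul, (e.mul e).uniq h.inj W2.Rel.one (b2 b), map_one])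
  obtain ⟨g1, hg1, -, r1⟩ := hf.wf1 e1.symm
  refine scb_N h.inj (inv_mem hg1.1) (b := ((if δ then bW (eb 0) else 1) * tE x).left) (r1.symm.of_eq ?_ rfl)
  by_contra hn
  replace e := r1.comp e
  replace hg : g1 * g ∈ Cx (J (bW ze)) := mul_mem hg1.2 hg
  generalize g1 * g = g at e hg
  have c1 := scb_cl h.inj hu (inv_mem hg) e.symm
  obtain ⟨c2, c3⟩ := (scb_fin δ x hδ).resolve_left fun k => hn (SemidirectProduct.ext rfl k)
  obtain ⟨rfl, i, hi⟩ := c3 (c1 ▸ (scb_ol b).1)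
  simp only [Bool.false_eq_true, if_false, one_mul] at hn e c2
  have hT : J.range ≤ Cx (J (bW ze)) := by
    rintro _ ⟨t, rfl⟩; rw [mem_Cx, ← map_mul, scb_z, map_mul]
  obtain ⟨S, hS, hP⟩ := exists_isSylowIn_ge (h.top.pgroup.to_inf_left (K := Cx (J (tE x))))
    (inf_le_inf_right _ hT)
  obtain ⟨m, hm, e2⟩ := hS.exists_cj_le (Q := cj g (J.comp bW).range)
    (isPGroup_cj g (h.top.pgroup.to_le (by rintro _ ⟨y, rfl⟩; exact ⟨_, rfl⟩))) (cj_le_iff.2 (by
      rintro _ ⟨y, rfl⟩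
      refine mem_inf.2 ⟨mul_mem (mul_mem hg (hT ⟨_, rfl⟩)) (inv_mem hg), ?_⟩
      rw [← show _ = J (tE x) from e, conj_mem_Cx, mem_Cx]
      exact (map_mul (J.comp bW) y b).symm.trans (mul_comm y b ▸ map_mul (J.comp bW) b y)))
  obtain ⟨k, hk, e3⟩ := (h.top.of_le hT le_top).exists_cj_le hS.pgroup (hS.le.trans inf_le_left)
  obtain ⟨b', e4⟩ := conj_mem_of_mem_normalizer
    (h.wc (k * (m * g)) (by rw [cj_mul, cj_mul]; exact (cj_mono k e2).trans e3)) ⟨b, rfl⟩
  have r2 : W2.Rel J k (tE x) (bW b') := by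
    have : W2.Rel J (k * (m * g)) (bW b) (bW b') := e4.symm
    simpa [mul_assoc] using this.comp ((W2.Rel.of_comm (mem_Cx.1 hm.2)).comp e).symm
  obtain ⟨j, hj⟩ := (scb_ol b').2 (scb_cl h.inj hu hk r2 ▸ c2)
  have hA : ∀ I : Fin 16, bit I.val i.val = true → ∀ y ∈ AI I, y * tE x = tE x * y := fun I hI y hy =>
    mem_Cx.1 ((closure_le (Cx (tE x))).2 (by
      rintro _ ⟨q, rfl⟩
      refine mem_Cx.2 ?_
      unfold gI
      split_ifs with l
      · rw [← map_mul, mul_comm, map_mul]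
      · exact hi q fun e => l (e ▸ hI)) hy)
  have hφ : ∀ I : Fin 16, ∃ K : Fin 16, bit I.val i.val = true → (AI K).map J = cj k ((AI I).map J) := by
    intro I
    by_cases hI : bit I.val i.val = true
    swap
    · exact ⟨0, fun k => absurd k hI⟩
    have le : cj k ((AI I).map J) ≤ J.range := (cj_mono k (le_trans (by
      rintro _ ⟨y, hy, rfl⟩
      exact ⟨⟨_, rfl⟩, mem_Cx.2 (by rw [← map_mul, hA I hI y hy, map_mul])⟩) hP)).trans e3
    have em := map_comap_eq_self le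
    obtain ⟨K, e⟩ := big_TW (F := (cj k ((AI I).map J)).comap J) (fun y hy => h.inj (by
      obtain ⟨_, ⟨z, hz, rfl⟩, e⟩ := mem_comap.1 hy
      rw [map_mul, ← e, ← map_mul, ← map_mul, AI_sq I z hz, map_one, map_one])) (by
      rw [← card_map_of_injective h.inj, em, card_cj, card_map_of_injective h.inj, scb_card])
    exact ⟨K, fun _ => e ▸ em⟩
  choose φ hφ using hφ
  have := Finset.card_le_card_of_injOn (s := Finset.univ.filter fun I : Fin 16 => bit I.val i.val = true)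
    (t := Finset.univ.filter fun K : Fin 16 => K ≠ 0 ∧ bit K.val j.val = false) φ (fun I hI => ?_)
    fun I hI K hK e => ?_
  · exact absurd this (by clear * -; revert i j; decide +kernel)
  · have hI' : bit I.val i.val = true := by simpa using hI
    have e := hφ I hI'
    simp only [Finset.coe_filter, Finset.mem_univ, true_and, Set.mem_ofPred_eq]
    refine ⟨fun e0 => ?_, Bool.eq_false_iff.2 fun l => hj (h.inj ?_)⟩
    · rw [e0, AI_zero, ← MonoidHom.range_comp] at e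
      obtain ⟨y, e'⟩ := scb_N h.inj (h.wc k⁻¹ (by rw [e, cj_inv_cj]; exact map_le_range _ _)) r2.symm
      exact hn (by rw [← e']; rfl)
    · obtain ⟨_, ⟨z, hz, rfl⟩, e'⟩ := e.le ⟨_, subset_closure ⟨bl j, rfl⟩, rfl⟩
      have r3 : W2.Rel J k z (tE (eb (bl j))) := e'.trans (by
        rw [gI, if_pos (by rwa [show (bl j).val / 2 = j.val by simp [bl]])])
      exact Eq.trans (Eq.symm (r3.mul r2)) (hA I hI' z hz ▸ r2.mul r3)
  · refine scb_inj (map_injective h.inj (cj_injective k ?_))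
    rw [← hφ I (by simpa using hI), ← hφ K (by simpa using hK), e]

end CfsgLib.Har
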