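import Cfsg.Agent.Lib.Har.Xa2
import Cfsg.Agent.Lib.Har.E256
import Cfsg.Agent.Lib.Har.Gen

/-!
Project HAR (S1918, plans/HAR.md). `T` is Sylow and `B'` is weakly closed (package WCL).
-/

set_option autoImplicit false
set_option Elab.async false
set_option linter.unusedSectionVars false
set_option synthInstance.maxSize 100000
set_option maxRecDepth 100000

namespace CfsgLib.Har

open Subgroup Equiv Function CfsgLib.W2 CfsgLib.W2.TG CfsgLib.Tech CfsgLib.PComp Cfsg CfsgLib.A16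
  CfsgLib.SylT

variable {G : Type*} [Group G] [Finite G] {J : TW →* G} {ρ σ d : G} {f : G → WB} {r : Fin 4 → G}

omit [Finite G] in
theorem wcl_B : (J.comp bW).range = (AI 0).map J := by rw [AI_zero, MonoidHom.range_comp]

omit [Finite G] in
theorem wcl_E : (J.comp tE).range = (AI 15).map J := by rw [AI_top, MonoidHom.range_comp]

omit [Finite G] in
theorem wcl_cj (t : TW) (F : Subgroup TW) : cj (J t) (F.map J) = (cj t F).map J := by
  simp only [cj, map_map]
  congr 1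
  ext x
  simp

theorem wcl_card (I : Fin 16) : Nat.card (AI I) = 256 := by
  have := card_inf I I
  rwa [inf_idem, (by decide +kernel : ∀ I : Fin 16, wI (Nat.xor I.val I.val) = 0) I, pow_zero, mul_one] at this

theorem wcl_z (t : TW) : bW ze * t = t * bW ze := by
  have k : ∀ p, aP p ze = ze := by decide +kernel
  refine SemidirectProduct.ext ?_ (by simp)
  simp [k, mul_comm]

theorem wcl_dec : tE ze ≠ tE (sE ze) ∧ sE (sE ze) = ze * sE ze ∧
    ∀ ε a, ol (alE ε a) = ol (alE ε ze) → ol (alE ε (ze * a)) ≠ ol (alE ε a) := by decide +kernel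

theorem wcl_nE : J.range ≤ normalizer (((AI 15).map J : Subgroup G) : Set G) := by
  rintro _ ⟨t, rfl⟩
  refine le_normalizer_map J ⟨t, ?_, rfl⟩
  rw [← SemidirectProduct.inl_left_mul_inr_right t]
  refine mul_mem (AI_norm 15 0 (AI_zero ▸ ⟨_, rfl⟩)) ?_
  change pW t.right ∈ _
  rw [← i1_trH, AI_top, tE, MonoidHom.range_comp]
  exact le_normalizer_map i1 ⟨_, le_normalizer_of_normal (mem_top _), rfl⟩

theorem TS.wcl_pull (h : TS J ρ σ) {g : G} {I : Fin 16} (l : cj g ((AI I).map J) ≤ J.range) :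
    ∃ K, cj g ((AI I).map J) = (AI K).map J := by
  have e := map_comap_eq_self l
  obtain ⟨K, k⟩ := big_TW (F := (cj g ((AI I).map J)).comap J) (fun x hx => h.inj (by
    obtain ⟨_, ⟨y, hy, rfl⟩, e⟩ := hx
    rw [map_mul, ← e, ← map_mul, ← map_mul, AI_sq I y hy, map_one, map_one]))
    (by rw [← card_map_of_injective h.inj, e, card_cj, card_map_of_injective h.inj, wcl_card])
  exact ⟨K, by rw [← k, e]⟩

theorem TS.wcl_dist (h : TS J ρ σ) {g : G} {K K' L L' : Fin 16} (a : cj g ((AI K).map J) = (AI K').map J)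
    (b : cj g ((AI L).map J) = (AI L').map J) : wI (Nat.xor K.val L.val) = wI (Nat.xor K'.val L'.val) := by
  have c : Nat.card ↥(AI K ⊓ AI L) = Nat.card ↥(AI K' ⊓ AI L') := by
    rw [← card_map_of_injective h.inj, ← card_cj g, map_inf _ _ _ h.inj, cj_inf, a, b, ← map_inf _ _ _ h.inj,
      card_map_of_injective h.inj]
  have := (card_inf K L).trans (card_inf K' L').symm
  rw [c] at this
  exact Nat.pow_right_injective le_rfl (Nat.eq_of_mul_eq_mul_left Nat.card_pos this)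

/-- Suppose `g B' g⁻¹ = E`. `g T g⁻¹` is Sylow in `N(E) ≥ T`, so we may take `g ∈ N(T)`, `g z g⁻¹ = z`
(`center_TW`). `g⁻¹ σ g ∈ N(B')` acts as `d ∈ AutG` with `a = d ze ≠ ze`, `d a = a ze` (`sE` moves
`ze`, `sE (sE ze) = ze · sE ze`). In the first case of `xalt` `d ze = ze`; in the second
`ol (alE ε a) = ol (alE ε (a ze)) = 4` with `a ≠ 1, ze`: impossible (decide). -/
theorem TS.not_conj (h : TS J ρ σ) (g : G) : cj g (J.comp bW).range ≠ (J.comp tE).range := by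
  intro e
  rw [wcl_B, wcl_E] at e
  have s := h.syl.cj g
  rw [cj_normalizer, wcl_B, e] at s
  obtain ⟨n, hn, l⟩ := s.exists_cj_le h.syl.pgroup wcl_nE
  have e1 : cj (n⁻¹ * g) J.range = J.range := by
    rw [cj_mul, ← eq_of_le_of_card_ge l (by rw [card_cj, card_cj]), cj_inv_cj]
  have e2 : cj (n⁻¹ * g) ((AI 0).map J) = (AI 15).map J := by
    rw [cj_mul, e, mem_normalizer_iff_cj.1 (inv_mem hn)]
  generalize n⁻¹ * g = k at e1 e2
  have hk := mem_normalizer_iff_cj.2 e1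
  have z1 : bW ze ≠ 1 := by decide +kernel
  have ez : k * J (bW ze) * k⁻¹ = J (tE ze) := by
    obtain ⟨x, hx⟩ := conj_mem_of_mem_normalizer hk ⟨bW ze, rfl⟩
    rcases center_TW (x := x) (fun t => h.inj (by
      obtain ⟨y, hy⟩ := conj_mem_of_mem_normalizer' hk ⟨t, rfl⟩
      have := congrArg (fun u => k * J u * k⁻¹) (wcl_z y)
      simp only [map_mul, hy] at this
      rw [map_mul, map_mul, hx]
      simpa [mul_assoc] using this)) with rfl | rfl
    · rw [map_one, eq_comm, conj_eq_one_iff] at hx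
      exact absurd (h.inj (hx.trans (map_one J).symm)) z1
    · rw [← hx, tE_facts.2.1]
  have sN : σ ∈ normalizer (((AI 15).map J : Subgroup G) : Set G) := by
    rw [← wcl_E]
    exact mem_normalizer_of_forall (by rintro _ ⟨a, rfl⟩; exact ⟨_, Eq.symm (h.sE a)⟩)
  have m : k⁻¹ * σ * k ∈ normalizer ((J.comp bW).range : Set G) := by
    rw [wcl_B, mem_normalizer_iff_cj, cj_mul, cj_mul, e2, mem_normalizer_iff_cj.1 sN, ← e2, cj_inv_cj]
  have bi : Injective (J.comp bW) := h.inj.comp SemidirectProduct.inl_injective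
  obtain ⟨θ, r, er⟩ := exists_aut bi
  have hd : θ ⟨_, m⟩ ∈ AutG (J.comp bW) := er ▸ ⟨_, rfl⟩
  have r' : ∀ a, k * J (bW (θ ⟨_, m⟩ a)) * k⁻¹ = σ * (k * J (bW a) * k⁻¹) * σ⁻¹ := fun a => by
    have : k⁻¹ * σ * k * J (bW a) * (k⁻¹ * σ * k)⁻¹ = J (bW (θ ⟨_, m⟩ a)) := r ⟨_, m⟩ a
    rw [← this]; group
  generalize θ ⟨_, m⟩ = δ at hd r'
  have sE' : ∀ a, σ * J (tE a) * σ⁻¹ = J (tE (Har.sE a)) := h.sE
  obtain ⟨f1, f2, f3⟩ := wcl_dec
  have r1 := r' ze
  rw [ez, sE'] at r1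
  have r2 := r' (δ ze)
  rw [r1, sE', f2, map_mul, map_mul, ← r1, ← ez, conj_mul, mul_left_inj, mul_right_inj, ← map_mul, ← map_mul] at r2
  have r3 : δ (δ ze) = ze * δ ze := bi r2
  rcases h.xalt with x | ⟨ε, x, -⟩
  · rw [(x δ hd).2, ez] at r1
    exact f1 (by simpa only [← tE_facts.2.1, map_mul] using h.inj r1)
  · exact f3 ε _ (x δ hd ze) (r3 ▸ x δ hd (δ ze))

/-- Otherwise `y ∈ N(T) ∖ T` with `T⟨y⟩` a 2-group; `y B' y⁻¹` is a normal `E₂₅₆` of `T`
(`big_TW`, `AI_normal`), not `E`, so `y ∈ N(B')`, against `syl`. -/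
theorem TS.top (h : TS J ρ σ) : IsSylowIn 2 J.range ⊤ := by
  by_contra k
  obtain ⟨R, hR, lt, -, l⟩ := exists_lt_pgroup_normalizer h.syl.pgroup le_top k
  refine lt.ne' (h.syl.eq_of_le hR lt.le fun y hy => ?_)
  have hy' := l hy
  obtain ⟨I, e⟩ := h.wcl_pull (g := y) (I := 0)
    ((cj_mono y (map_le_range J _)).trans (mem_normalizer_iff_cj.1 hy').le)
  rcases AI_normal (I := I) (fun t => map_injective h.inj (by
    have := mem_normalizer_iff_cj.1 (h.syl.le (conj_mem_of_mem_normalizer' hy' ⟨t, rfl⟩))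
    rw [wcl_B] at this
    rw [← wcl_cj, ← e, ← cj_mul, show J t * y = y * (y⁻¹ * J t * y) by group, cj_mul, this])) with rfl | rfl
  · rw [wcl_B]; exact mem_normalizer_iff_cj.2 e
  · exact absurd (by rw [wcl_B, wcl_E, e]) (h.not_conj y)

/-- Claim: `J A_I` conjugate to `B'` implies `I = 0`. `T* = ⟨A_K⟩` normalizes `A_I` (`AI_norm`), so
there is `g` with `g (J A_I) g⁻¹ = B'` and `g (J A_K) g⁻¹ ≤ T` for all `K` (`syl`); so `g` induces a map
`φ` on `Fin 16` (`big_TW`) preserving `wI (K xor L)` (`card_inf`), `φ I = 0`. `wI I = 4`: `not_conj`.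
`wI I = 2`: `φ (15 - I) = 15` and `A_{15 - I} ∼ A_I` (`AI_conj`), so `B' ∼ E`. `wI I ∈ {1, 3}`: take
`K ≠ I` of the same weight, `A_K ∼ A_I ∼ B'` and `wI (φ K) = 2`: the previous case. -/
theorem TS.wc (h : TS J ρ σ) : WC (J.comp bW).range J.range := by
  have key : ∀ (I : Fin 16) (g : G), cj g ((AI I).map J) = (AI 0).map J → ∀ K : Fin 16, ∃ k K',
      cj k ((AI K).map J) = (AI K').map J ∧ wI (Nat.xor K.val I.val) = wI (Nat.xor K'.val 0) := fun I g e K => by
    obtain ⟨n, hn, l⟩ := h.syl.exists_cj_le (isPGroup_cj g ((two_TW.to_subgroup (AI K)).map J)) (by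
      rw [wcl_B, ← e, ← cj_normalizer]
      exact cj_mono g ((map_mono (AI_norm I K)).trans (le_normalizer_map J)))
    rw [← cj_mul] at l
    obtain ⟨K', e'⟩ := h.wcl_pull l
    refine ⟨_, K', e', h.wcl_dist (L' := 0) e' ?_⟩
    rw [cj_mul, e, ← wcl_B, mem_normalizer_iff_cj.1 hn]
  have mv : ∀ (I K : Fin 16) (g : G), cj g ((AI I).map J) = (AI 0).map J → wI K.val = wI I.val →
      (wI K.val ≠ 2 ∨ K.val + I.val = 15) → ∀ k K', cj k ((AI K).map J) = (AI K').map J →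
      ∃ u, cj u ((AI K').map J) = (AI 0).map J := fun I K g e a b k K' e' => by
    obtain ⟨t, ht⟩ := AI_conj K I a b
    exact ⟨g * J t * k⁻¹, by rw [cj_mul, cj_mul, ← e', cj_inv_cj, wcl_cj, ht, e]⟩
  have c4 : ∀ g : G, cj g ((AI 15).map J) ≠ (AI 0).map J := fun g e =>
    h.not_conj g⁻¹ (by rw [wcl_B, wcl_E, ← e, cj_inv_cj])
  have c2 : ∀ (I : Fin 16) (g : G), wI I.val = 2 → cj g ((AI I).map J) ≠ (AI 0).map J := fun I g w e => by
    obtain ⟨K, a, b, c⟩ := (by decide +kernel : ∀ I : Fin 16, wI I.val = 2 → ∃ K : Fin 16, wI K.val = wI I.val ∧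
      K.val + I.val = 15 ∧ ∀ L : Fin 16, wI (Nat.xor K.val I.val) = wI (Nat.xor L.val 0) → L = 15) I w
    obtain ⟨k, K', e', q⟩ := key I g e K
    obtain ⟨u, hu⟩ := mv I K g e a (.inr b) k K' e'
    exact c4 u (c K' q ▸ hu)
  intro g hg
  rw [wcl_B] at hg ⊢
  obtain ⟨I, e⟩ := h.wcl_pull hg
  have e0 : cj g⁻¹ ((AI I).map J) = (AI 0).map J := by rw [← e, cj_inv_cj]
  rcases (by decide +kernel : ∀ I : Fin 16, I = 0 ∨ I = 15 ∨ wI I.val = 2 ∨ ∃ K : Fin 16, wI K.val = wI I.val ∧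
    wI K.val ≠ 2 ∧ ∀ L : Fin 16, wI (Nat.xor K.val I.val) = wI (Nat.xor L.val 0) → wI L.val = 2) I with
    rfl | rfl | w | ⟨K, a, b, c⟩
  · exact mem_normalizer_iff_cj.2 e
  · exact absurd e0 (c4 _)
  · exact absurd e0 (c2 I _ w)
  · obtain ⟨k, K', e', q⟩ := key I _ e0 K
    obtain ⟨u, hu⟩ := mv I K _ e0 a (.inl b) k K' e'
    exact absurd hu (c2 K' u (c K' q))

end CfsgLib.Har
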