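import Cfsg.Agent.Lib.Har.Defs3
import Cfsg.Agent.Lib.Invol.Dihedral

/-!
Project HAR (S1918, plans/HAR.md). Transvections in the automizer of `B'` (package XA1).
-/

set_option autoImplicit false
set_option Elab.async false
set_option linter.unusedSectionVars false
set_option synthInstance.maxSize 100000
set_option maxRecDepth 100000

namespace CfsgLib.Har

open Subgroup Equiv Function CfsgLib.W2 CfsgLib.W2.TG CfsgLib.Tech CfsgLib.PComp Cfsg CfsgLib.A16
  CfsgLib.SylT

variable {D : Subgroup (MulAut EG)}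

section

variable {d d' : MulAut EG} {a a' : EG}

theorem TvE.self (h : TvE d a) : d a = a := (h.2.2 a).resolve_right fun e =>
  h.1 ((map_eq_one_iff _ d.injective).1 (e.trans (EG.sq a)))

theorem TvE.sq (h : TvE d a) : d * d = 1 := MulEquiv.ext fun b => by
  change d (d b) = b
  rcases h.2.2 b with e | e
  · rw [e, e]
  · rw [e, map_mul, e, h.self, mul_assoc, EG.sq, mul_one]

theorem TvE.conj (h : TvE d a) (x : MulAut EG) : TvE (x * d * x⁻¹) (x a) :=
  ⟨mt (map_eq_one_iff _ x.injective).1 h.1, mt conj_eq_one_iff.1 h.2.1, fun b => by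
    change x (d (x.symm b)) = b ∨ x (d (x.symm b)) = b * x a
    rcases h.2.2 (x.symm b) with e | e <;> simp only [e, map_mul, x.apply_symm_apply, true_or, or_true]⟩

theorem TvE.comm (h : TvE d a) (h' : TvE d' a) : d * d' = d' * d := MulEquiv.ext fun b => by
  change d (d' b) = d' (d b)
  rcases h.2.2 b with e | e <;> rcases h'.2.2 b with e' | e' <;> simp only [e, e', map_mul, h.self, h'.self]

end

theorem Dc.map {a : EG} {d : MulAut EG} (h : Dc D a) (hd : d ∈ D) : Dc D (d a) :=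
  let ⟨_, h1, h2⟩ := h
  ⟨_, mul_mem (mul_mem hd h1) (inv_mem hd), h2.conj d⟩

namespace Xa1

variable {d d' : MulAut EG} {a a' : EG}

noncomputable def xp (i : Fin 4) : P8 := o (2 ^ i.val)

theorem tv_xp (i : Fin 4) : TvE (aP (xp i)) (ue i) :=
  (by decide +kernel : ∀ i, ue i ≠ 1 ∧ aP (xp i) ≠ 1 ∧ ∀ b, aP (xp i) b = b ∨ aP (xp i) b = b * ue i) i

theorem xp_facts : ∀ i j, aP (xp i) (ue j) = ue j ∧ aP (xp i) * aP (xp j) = aP (xp j) * aP (xp i) ∧
    (ue i = ue j → i = j) ∧ wb (ue i) = 2 := by decide +kernel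

theorem tv_eq {p : P8} (h : TvE (aP p) a) : ∃ i, p = xp i ∧ a = ue i := by
  have k : ∀ {b}, aP p b * b ≠ 1 → aP p b * b = a := fun {b} hb => by
    rcases h.2.2 b with e | e <;> rw [e] at hb ⊢
    exacts [absurd (EG.sq b) hb, by rw [mul_right_comm, EG.sq, one_mul]]
  rcases (by decide +kernel : ∀ p : P8, p = 1 ∨ (∃ i, p = xp i ∧ ∃ q, aP p (eb q) * eb q = ue i) ∨
    ∃ q r, aP p (eb q) * eb q ≠ 1 ∧ aP p (eb r) * eb r ≠ 1 ∧ aP p (eb q) * eb q ≠ aP p (eb r) * eb r) p with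
    e | ⟨i, e, q, e'⟩ | ⟨q, r, a1, a2, a3⟩
  · exact absurd (by rw [e, map_one]) h.2.1
  · exact ⟨i, e, (k (e' ▸ (tv_xp i).1)).symm.trans e'⟩
  · exact absurd ((k a1).trans (k a2).symm) a3

/-- the linear map with the given values on the basis -/
noncomputable def ev (f : Fin 8 → EG) (e : EG) : EG :=
  cond (bit e.v 0) (f 0) 1 * cond (bit e.v 1) (f 1) 1 * cond (bit e.v 2) (f 2) 1 * cond (bit e.v 3) (f 3) 1 *
    cond (bit e.v 4) (f 4) 1 * cond (bit e.v 5) (f 5) 1 * cond (bit e.v 6) (f 6) 1 * cond (bit e.v 7) (f 7) 1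

theorem map_ev {f : Fin 8 → EG} (h : ∀ q, d (eb q) = f q) (e : EG) : d e = ev f e := by
  have k : ∀ (b : Bool) q, d (cond b (eb q) 1) = cond b (f q) 1 := fun b q => by
    cases b
    exacts [map_one d, h q]
  conv_lhs => rw [(by decide +kernel : ∀ e, e = ev eb e) e]
  simp only [ev, map_mul, k]

noncomputable def sw (p q : Fin 8) : EG → EG := ev fun r => eb (swap p q r)

noncomputable def tv (α β : Bool) (a : EG) : EG → EG :=
  ev fun q => cond (cond (bit a.v q) α β) (eb q * a) (eb q)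

theorem sw_fix : ∀ a p q, bit a.v p.val = bit a.v q.val → sw p q a = a := by decide +kernel

theorem sw_lt : ∀ a : EG, a = o (2 ^ wb a - 1) ∨ ∃ p q, (sw p q a).v < a.v ∧ wb (sw p q a) = wb a := by
  decide +kernel

variable (h : IsSylowIn 2 aP.range D)
include h

theorem fam {ι : Type} {d : ι → MulAut EG} {a : ι → EG} (h0 : ∀ k, d k ∈ D) (h1 : ∀ k, TvE (d k) (a k))
    (h2 : IsPGroup 2 (closure (Set.range d))) :
    ∃ x : MulAut EG, ∀ k, ∃ i, x * d k * x⁻¹ = aP (xp i) ∧ x (a k) = ue i := by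
  obtain ⟨x, -, e⟩ := h.exists_cj_le h2 ((closure_le _).2 (by rintro _ ⟨k, rfl⟩; exact h0 k))
  refine ⟨x, fun k => ?_⟩
  obtain ⟨s, hs⟩ := cj_le_iff.1 e _ (subset_closure ⟨k, rfl⟩)
  obtain ⟨i, e1, e2⟩ := tv_eq (hs ▸ (h1 k).conj x)
  exact ⟨i, hs.symm.trans (congrArg _ e1), e2⟩

theorem two (m1 : d ∈ D) (h1 : TvE d a) (m2 : d' ∈ D) (h2 : TvE d' a') (e : d' a = a) :
    d * d' = d' * d ∧ d a' = a' ∧ (a = a' → d = d') := by
  have k1 := inv_eq_of_mul_eq_one_right h2.sq
  have k2 := h1.comm (e ▸ h1.conj d')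
  obtain ⟨x, hx⟩ := fam h (d := ![d, d']) (a := ![a, a']) (Fin.forall_fin_two.2 ⟨m1, m2⟩)
    (Fin.forall_fin_two.2 ⟨h1, h2⟩) (by
    rw [Matrix.range_cons, Matrix.range_cons, Matrix.range_empty, Set.union_empty, Set.singleton_union]
    refine isPGroup_iff_mem.2 fun y hy => ⟨2, ?_⟩
    obtain ⟨k, rfl | rfl⟩ := (Invol.mem_closure_pair_iff h1.sq h2.sq y).1 hy
    · rw [← zpow_natCast, ← zpow_mul, mul_comm, zpow_mul, zpow_natCast,
        show (d * d') ^ 2 ^ 2 = d * (d' * d * d'⁻¹) * (d * (d' * d * d'⁻¹)) by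
          rw [k1, show 2 ^ 2 = 4 from rfl]; simp only [pow_succ, pow_zero, one_mul, mul_assoc]]
      nth_rw 1 [k2]
      rw [mul_assoc, ← mul_assoc d, h1.sq, one_mul, conj_mul, h1.sq]
      simp
    · rw [show (2 : ℕ) ^ 2 = 2 * 2 from rfl, pow_mul, sq (d * _), show d * (d * d') ^ k * (d * (d * d') ^ k) =
        d * (d * d') ^ k * d⁻¹ * (d * d') ^ k by rw [inv_eq_of_mul_eq_one_right h1.sq, mul_assoc _ d],
        ← conj_zpow, Invol.conj_mul_eq_inv h1.sq h2.sq, inv_zpow, inv_mul_cancel, one_pow])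
  obtain ⟨i, a1, a2⟩ := hx 0
  obtain ⟨j, a3, a4⟩ := hx 1
  have := (xp_facts i j).2.1
  rw [← a1, ← a3, conj_mul, conj_mul] at this
  refine ⟨by simpa using this, x.injective ?_, fun e => ?_⟩
  · have := (xp_facts i j).1
    rw [← a1, ← a4] at this
    simpa using this
  · obtain rfl := (xp_facts i j).2.2.1 (a2.symm.trans ((congrArg x e).trans a4))
    simpa using a1.trans a3.symm

theorem five (h1 : Dc D a) (e : ∀ i, aP (xp i) a = a) : wb a = 2 := by
  obtain ⟨d, m1, h1⟩ := h1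
  let f : Option (Fin 4) → MulAut EG := fun k => k.elim d fun i => aP (xp i)
  have f1 : ∀ k, f k ∈ D := by rintro (_ | i); exacts [m1, h.le ⟨_, rfl⟩]
  have f2 : ∀ k, TvE (f k) (k.elim a ue) := by rintro (_ | i); exacts [h1, tv_xp i]
  have h3 : closure (Set.range f) ≤ centralizer (closure (Set.range f) : Set _) := by
    rw [centralizer_closure, closure_le]
    rintro _ ⟨k, rfl⟩ _ ⟨l, rfl⟩
    refine (two h (f1 l) (f2 l) (f1 k) (f2 k) ?_).1
    rcases k with _ | i <;> rcases l with _ | j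
    exacts [h1.self, (two h m1 h1 (f1 (some j)) (tv_xp j) (e j)).2.1, e i, (xp_facts i j).1]
  obtain ⟨x, hx⟩ := fam h f1 f2 (pg_sq fun y hy => by
    induction hy using closure_induction with
    | mem y hy => obtain ⟨k, rfl⟩ := hy; exact (f2 k).sq
    | one => exact one_mul _
    | mul y z hy hz e e' => rw [mul_assoc, ← mul_assoc z, h3 hy z hz, mul_assoc y z, e', mul_one, e]
    | inv y _ e => rw [← mul_inv_rev, e, inv_one])
  choose g _ hg using fun i => hx (some i)
  obtain ⟨i, -, e⟩ := hx none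
  obtain ⟨k, rfl⟩ := Finite.surjective_of_injective (f := g) (fun i j e => (xp_facts i j).2.2.1
    (x.injective ((hg i).trans (e ▸ (hg j).symm)))) i
  exact (x.injective (e.trans (hg k).symm) : a = ue k) ▸ (xp_facts k k).2.2.2

variable (h8 : ∀ ν, ∃ d ∈ D, Pm d ν)
include h8

omit h in
theorem wt_iff {b : EG} (e : wb a = wb b) : Dc D a ↔ Dc D b := by
  have key : ∀ n, ∀ a : EG, a.v < n → (Dc D a ↔ Dc D (o (2 ^ wb a - 1))) := fun n => by
    induction n with
    | zero => exact fun a ha => absurd ha (Nat.not_lt_zero _)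
    | succ n ih =>
      intro a ha
      rcases sw_lt a with e | ⟨p, q, e1, e2⟩
      · rw [← e]
      · obtain ⟨s, hs, e⟩ := h8 (swap p q)
        have e3 : s a = sw p q a := map_ev e a
        rw [← e2, ← ih _ (by omega), ← e3]
        exact ⟨fun k => k.map hs, fun k => by simpa using k.map (inv_mem hs)⟩
  rw [key _ a (Nat.lt_succ_self _), key _ b (Nat.lt_succ_self _), e]

theorem odd (h1 : Dc D a) (e1 : ∀ β, tv true β a a ≠ a) (e2 : ∀ e, tv false false a e = e) :
    ∃ d ∈ D, ∀ e, d e = tv false true a e := by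
  classical
  obtain ⟨d, m1, h1⟩ := h1
  have k1 : ∀ p q : Fin 8, bit a.v p = bit a.v q → d (eb q) = eb q → d (eb p) = eb p := fun p q e e' => by
    obtain ⟨s, hs, e3⟩ := h8 (swap p q)
    have e4 : s a = a := (map_ev e3 a).trans (sw_fix a p q e)
    have e5 := (two h (mul_mem (mul_mem hs m1) (inv_mem hs)) (h1.conj s) m1 h1 (by rw [e4, h1.self])).2.2 e4
    have e6 := DFunLike.congr_fun (mul_inv_eq_iff_eq_mul.1 e5) (eb q)
    rw [MulAut.mul_apply, MulAut.mul_apply, e', e3, swap_apply_right] at e6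
    exact e6.symm
  let γ : Bool → Bool := fun b => decide (∃ q : Fin 8, bit a.v q = b ∧ d (eb q) ≠ eb q)
  have k2 : ∀ e, d e = tv (γ true) (γ false) a e := map_ev fun q => by
    rw [show cond (bit a.v q) (γ true) (γ false) = γ (bit a.v q) by cases bit a.v q <;> rfl]
    cases e : γ (bit a.v q)
    · exact not_not.1 fun k => of_decide_eq_false e ⟨q, rfl, k⟩
    · obtain ⟨r, e3, e4⟩ := of_decide_eq_true e
      exact (h1.2.2 _).resolve_left fun k => e4 (k1 r q e3 k)
  refine ⟨d, m1, ?_⟩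
  generalize γ true = α at k2
  generalize γ false = β at k2
  cases α
  · cases β
    · exact absurd (MulEquiv.ext fun e => (k2 e).trans (e2 e)) h1.2.1
    · exact k2
  · exact absurd ((k2 a).symm.trans h1.self) (e1 β)

theorem no_even (h1 : Dc D a) : wb a ≠ 4 ∧ wb a ≠ 6 ∧ wb a ≠ 8 := by
  have k : ∀ b : EG, (∀ i, aP (xp i) b = b) → wb b ≠ 2 → wb a ≠ wb b := fun b e1 e2 e =>
    e2 (five h ((wt_iff h8 e).1 h1) e1)
  obtain ⟨c1, c2, c3⟩ := (by decide +kernel : wb (o 15) = 4 ∧ wb (o 63) = 6 ∧ wb (o 255) = 8)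
  exact ⟨c1 ▸ k _ (by decide +kernel) (by decide +kernel), c2 ▸ k _ (by decide +kernel) (by decide +kernel),
    c3 ▸ k _ (by decide +kernel) (by decide +kernel)⟩

theorem cls (h1 : Dc D a) : wb a = 1 ∨ wb a = 2 ∨ wb a = 7 := by
  have k : ∀ b c : EG, (∀ β, tv true β b b ≠ b) → (∀ e, tv false false b e = e) → wb b = wb c →
      wb (tv false true b c) = 6 → wb a ≠ wb b := fun b c e1 e2 e3 e4 e => by
    have k1 := (wt_iff h8 e).1 h1
    obtain ⟨d, m1, e5⟩ := odd h h8 k1 e1 e2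
    exact (no_even h h8 (((wt_iff h8 e3).1 k1).map m1)).2.1 (by rw [e5, e4])
  have k3 := k (o 7) (o 56) (by decide +kernel) (by decide +kernel) (by decide +kernel) (by decide +kernel)
  have k5 := k (o 31) (o 227) (by decide +kernel) (by decide +kernel) (by decide +kernel) (by decide +kernel)
  obtain ⟨c1, c2, c3⟩ := (by decide +kernel : wb (o 7) = 3 ∧ wb (o 31) = 5 ∧ ∀ a, a = 1 ∨ 0 < wb a ∧ wb a ≤ 8)
  have k0 := (c3 a).resolve_left h1.choose_spec.2.1
  have := no_even h h8 h1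
  omega

end Xa1

open Xa1 in
/-- As in `Lib/A16/XB.lean`. The transvections in `range aP` are `aP (o (2^i))` with centres `ue i`
(decide). A 2-subgroup of `D` is conjugate in `D` into `range aP`; so a transvection of `D` is
determined by its centre, and there are no five commuting transvections with different centres.
`Dc D` is a union of weight classes containing weight 2. Let `τ` have centre `a`: it commutes with
every permutation fixing `a`. `wb a ∈ {4, 6, 8}`: four disjoint transpositions fix `a`: five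
transvections. `wb a` odd: `τ e = e a^{f e}` with `f` the parity of `e` outside the support of `a`
(`f` is invariant, `f a = 0`, `f ≠ 0`). `wb a = 3` (`a = {0,1,2}`): `τ {3,4,5}` has weight 6;
`wb a = 5` (`a = {0,..,4}`): `τ {0,1,5,6,7}` has weight 6; impossible. `a = eb 1`: `τ = tau1`;
`a = eb 1 · ze`: `alE true ∘ τ ∘ alE true = tau1`; not both: `tau1 (eb 1 · ze) = ze`. -/
theorem xa1 (h : IsSylowIn 2 aP.range D) (h8 : ∀ ν, ∃ d ∈ D, Pm d ν) :
    (∀ a, Dc D a ↔ wb a = 2) ∨ ∃ ε, (∀ a, Dc D a ↔ ol (alE ε a) = 1) ∧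
      ∃ d ∈ D, ∀ e, alE ε (d (alE ε e)) = tau1 e := by
  have u2 : ∀ a, wb a = 2 → Dc D a := fun a e =>
    (wt_iff h8 (e.trans (xp_facts 0 0).2.2.2.symm)).2 ⟨_, h.le ⟨_, rfl⟩, tv_xp 0⟩
  obtain ⟨c1, c7, c⟩ := (by decide +kernel : wb (eb 1) = 1 ∧ wb (eb 1 * ze) = 7 ∧ ∀ a,
    (ol (alE false a) = 1 ↔ wb a = 1 ∨ wb a = 2) ∧ (ol (alE true a) = 1 ↔ wb a = 2 ∨ wb a = 7))
  have w1 : ∀ {a}, wb a = 1 → (Dc D a ↔ Dc D (eb 1)) := fun e => wt_iff h8 (e.trans c1.symm)
  have w7 : ∀ {a}, wb a = 7 → (Dc D a ↔ Dc D (eb 1 * ze)) := fun e => wt_iff h8 (e.trans c7.symm)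
  by_cases h1 : Dc D (eb 1)
  · obtain ⟨d, m1, e⟩ := odd h h8 h1 (by decide +kernel) (by decide +kernel)
    refine Or.inr ⟨false, fun a => ?_, d, m1, fun a => ?_⟩
    · rw [(c a).1]
      refine ⟨fun k => ?_, fun k => k.elim (fun e => (w1 e).2 h1) (u2 a)⟩
      rcases cls h h8 k with e1 | e1 | e1
      exacts [Or.inl e1, Or.inr e1,
        absurd (by rw [e]; decide +kernel) (no_even h h8 (((w7 e1).1 k).map m1)).2.2]
    · rw [e]
      exact (by decide +kernel : ∀ a, alE false (tv false true (eb 1) (alE false a)) = tau1 a) a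
  by_cases h7 : Dc D (eb 1 * ze)
  · obtain ⟨d, m1, e⟩ := odd h h8 h7 (by decide +kernel) (by decide +kernel)
    refine Or.inr ⟨true, fun a => ?_, d, m1, fun a => ?_⟩
    · rw [(c a).2]
      exact ⟨fun k => (cls h h8 k).resolve_left fun e1 => h1 ((w1 e1).1 k),
        fun k => k.elim (u2 a) fun e => (w7 e).2 h7⟩
    · rw [e]
      exact (by decide +kernel : ∀ a, alE true (tv false true (eb 1 * ze) (alE true a)) = tau1 a) a
  exact Or.inl fun a => ⟨fun k => ((cls h h8 k).resolve_left fun e1 => h1 ((w1 e1).1 k)).resolve_right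
    fun e1 => h7 ((w7 e1).1 k), u2 a⟩

end CfsgLib.Har
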